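import Groth.Agent.AzumayaLib.End
import Groth.Agent.CSALib.Modules

/-!
# Automorphisms of Azumaya algebras are locally inner
-/

set_option autoImplicit false

universe u v w

open scoped TensorProduct
open MulOpposite

namespace AzumayaLib

theorem isSimpleRing_of_field (k : Type u) [Field k] (B : Type v) [Ring B] [Algebra k B] [IsAzumaya k B] :
    IsSimpleRing B := by
  have : Nontrivial B := (FaithfulSMul.algebraMap_injective k B).nontrivial
  refine IsSimpleRing.of_eq_bot_or_eq_top fun I => ?_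
  have h := twoSidedIdeal_eq_map (R := k) I
  rcases Ideal.eq_bot_or_top ((TwoSidedIdeal.asIdeal I).comap (algebraMap k B)) with hb | ht
  · left
    rw [hb, Ideal.map_bot] at h
    refine eq_bot_iff.2 fun x hx => ?_
    have : x ∈ TwoSidedIdeal.asIdeal I := TwoSidedIdeal.mem_asIdeal.2 hx
    rw [h, Submodule.mem_bot] at this
    simp [this]
  · right
    rw [ht, Ideal.map_top] at h
    refine eq_top_iff.2 fun x _ => ?_
    rw [← TwoSidedIdeal.mem_asIdeal, h]
    exact Submodule.mem_top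

variable {R : Type u} [CommRing R] {A : Type v} [Ring A] [Algebra R A]

/-- A projection onto the intertwiners of an automorphism, compatible with base change. -/
theorem exists_intertwiner_projection [IsAzumaya R A] (φ : A ≃ₐ[R] A) :
    ∃ P : A →ₗ[R] A, (∀ c x, φ c * P x = P x * c) ∧
      ∀ (S : Type w) [CommRing S] [Algebra R S] (z : S ⊗[R] A),
        (∀ c, ((1 : S) ⊗ₜ[R] φ c) * z = z * ((1 : S) ⊗ₜ[R] c)) → P.baseChange S z = z := by
  obtain ⟨ρ, hρ⟩ := exists_retraction' (R := R) (A := A)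
  obtain ⟨t, ht⟩ := (IsAzumaya.bij (R := R) (A := A)).2 (LinearMap.smulRight ρ (1 : A))
  let m : A ⊗[R] Aᵐᵒᵖ →ₐ[R] Module.End R A :=
    (AlgHom.mulLeftRight R A).comp (Algebra.TensorProduct.map (φ : A →ₐ[R] A) (AlgHom.id R Aᵐᵒᵖ))
  have hm : ∀ a b x, m (a ⊗ₜ b) x = φ a * x * b.unop := fun a b x => by simp [m]
  refine ⟨m t, fun c x => ?_, fun S _ _ z hz => ?_⟩
  · have hct : (c ⊗ₜ[R] (1 : Aᵐᵒᵖ)) * t = ((1 : A) ⊗ₜ[R] op c) * t :=
      (IsAzumaya.bij (R := R) (A := A)).1 (LinearMap.ext fun y => by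
        simp [map_mul, Module.End.mul_apply, ht])
    have h := LinearMap.congr_fun (congrArg m hct) x
    rw [map_mul, map_mul, Module.End.mul_apply, Module.End.mul_apply, hm, hm, map_one, one_mul,
      unop_one, mul_one, unop_op] at h
    exact h
  · have key : ∀ w, (m w).baseChange S z = z * ((1 : S) ⊗ₜ[R] AlgHom.mulLeftRight R A w 1) := fun w => by
      induction w with
      | zero => simp
      | add p q hp hq =>
        rw [map_add, map_add, LinearMap.baseChange_add, LinearMap.add_apply, hp, hq, LinearMap.add_apply,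
          TensorProduct.tmul_add, mul_add]
      | tmul a b =>
        have hb : ∀ y : S ⊗[R] A, (m (a ⊗ₜ b)).baseChange S y =
            ((1 : S) ⊗ₜ[R] φ a) * y * ((1 : S) ⊗ₜ[R] b.unop) := fun y => by
          induction y with
          | zero => simp
          | add p q hp hq => rw [map_add, hp, hq, mul_add, add_mul]
          | tmul s x => simp [hm]
        rw [hb, hz, mul_assoc, Algebra.TensorProduct.tmul_mul_tmul, one_mul]
        simp
    rw [key, ht]
    simp [hρ, ← Algebra.TensorProduct.one_def]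

theorem exists_smul_eq_tmul (p : Ideal R) [p.IsPrime] (z : p.ResidueField ⊗[R] A) :
    ∃ b : R, b ∉ p ∧ ∃ x : A, algebraMap R p.ResidueField b • z = 1 ⊗ₜ[R] x := by
  induction z with
  | zero => exact ⟨1, fun h => Ideal.IsPrime.ne_top inferInstance ((Ideal.eq_top_iff_one _).2 h), 0, by simp⟩
  | tmul s x =>
    obtain ⟨a, b, hb, rfl⟩ := IsFractionRing.div_surjective (R ⧸ p) s
    obtain ⟨a, rfl⟩ := Ideal.Quotient.mk_surjective a
    obtain ⟨b, rfl⟩ := Ideal.Quotient.mk_surjective b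
    have hbp : b ∉ p := fun h => nonZeroDivisors.ne_zero hb (Ideal.Quotient.eq_zero_iff_mem.2 h)
    refine ⟨b, hbp, a • x, ?_⟩
    have hb0 : algebraMap R p.ResidueField b ≠ 0 := fun h => hbp (Ideal.algebraMap_residueField_eq_zero.1 h)
    rw [TensorProduct.smul_tmul', smul_eq_mul, ← Ideal.Quotient.algebraMap_eq,
      ← IsScalarTower.algebraMap_apply, ← IsScalarTower.algebraMap_apply, mul_div_cancel₀ _ hb0,
      Algebra.algebraMap_eq_smul_one, TensorProduct.smul_tmul]
  | add z z' hz hz' =>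
    obtain ⟨b, hb, x, hx⟩ := hz
    obtain ⟨b', hb', x', hx'⟩ := hz'
    refine ⟨b * b', fun h => ((‹p.IsPrime›).mem_or_mem h).elim hb hb', b' • x + b • x', ?_⟩
    rw [smul_add, map_mul, TensorProduct.tmul_add, ← TensorProduct.smul_tmul, ← TensorProduct.smul_tmul]
    congr 1
    · rw [mul_comm, mul_smul, hx, TensorProduct.smul_tmul', smul_eq_mul, mul_one, Algebra.algebraMap_eq_smul_one]
    · rw [mul_smul, hx', TensorProduct.smul_tmul', smul_eq_mul, mul_one, Algebra.algebraMap_eq_smul_one]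

theorem exists_isUnit_away (p : Ideal R) [p.IsPrime] [Module.Finite R A] {x : A}
    (hx : IsUnit ((1 : p.ResidueField) ⊗ₜ[R] x)) :
    ∃ f : R, f ∉ p ∧ ∀ (S : Type w) [CommRing S] [Algebra R S], IsUnit (algebraMap R S f) →
      IsUnit ((1 : S) ⊗ₜ[R] x) := by
  have key : ∀ g : Module.End R A, Function.Surjective (g.baseChange p.ResidueField) →
      ∃ f : R, f ∉ p ∧ ∀ y : A, ∃ y' : A, g y' = f • y := by
    intro g hg
    let C := A ⧸ LinearMap.range g
    have hsub : Subsingleton (p.ResidueField ⊗[R] C) := by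
      refine ⟨fun a b => ?_⟩
      have h0 : ∀ c, c = (0 : p.ResidueField ⊗[R] C) := fun c => by
        obtain ⟨c, rfl⟩ := LinearMap.lTensor_surjective p.ResidueField (LinearMap.range g).mkQ_surjective c
        obtain ⟨d, rfl⟩ := hg c
        induction d with
        | zero => simp
        | add d d' hd hd' => rw [map_add, map_add, hd, hd', add_zero]
        | tmul s y =>
          rw [LinearMap.baseChange_tmul, LinearMap.lTensor_tmul, Submodule.mkQ_apply,
            (Submodule.Quotient.mk_eq_zero _).2 (LinearMap.mem_range_self g y), TensorProduct.tmul_zero]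
      rw [h0 a, h0 b]
    have hsup : (⟨p, inferInstance⟩ : PrimeSpectrum R) ∉ Module.support R C := by
      intro h
      have hn := (Module.mem_support_iff_nontrivial_residueField_tensorProduct (M := C)
        (⟨p, inferInstance⟩ : PrimeSpectrum R)).1 h
      exact @false_of_nontrivial_of_subsingleton _ hn hsub
    rw [Module.mem_support_iff_of_finite, SetLike.not_le_iff_exists] at hsup
    obtain ⟨f, hfa, hfp⟩ := hsup
    refine ⟨f, hfp, fun y => ?_⟩
    have := Module.mem_annihilator.1 hfa (Submodule.Quotient.mk y)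
    rw [← Submodule.Quotient.mk_smul, Submodule.Quotient.mk_eq_zero] at this
    exact this
  have hL : ∀ y, (LinearMap.mulLeft R x).baseChange p.ResidueField y = (1 ⊗ₜ[R] x) * y := fun y => by
    induction y with
    | zero => simp
    | add a b ha hb => rw [map_add, ha, hb, mul_add]
    | tmul s a => simp
  have hR : ∀ y, (LinearMap.mulRight R x).baseChange p.ResidueField y = y * (1 ⊗ₜ[R] x) := fun y => by
    induction y with
    | zero => simp
    | add a b ha hb => rw [map_add, ha, hb, add_mul]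
    | tmul s a => simp
  obtain ⟨f, hf, hfy⟩ := key (LinearMap.mulLeft R x) fun y => by
    obtain ⟨v, hv⟩ := hx.exists_right_inv
    exact ⟨v * y, by rw [hL, ← mul_assoc, hv, one_mul]⟩
  obtain ⟨f', hf', hfy'⟩ := key (LinearMap.mulRight R x) fun y => by
    obtain ⟨v, hv⟩ := hx.exists_left_inv
    exact ⟨y * v, by rw [hR, mul_assoc, hv, mul_one]⟩
  refine ⟨f * f', fun h => ((‹p.IsPrime›).mem_or_mem h).elim hf hf', fun S _ _ hS => ?_⟩
  rw [map_mul, IsUnit.mul_iff] at hS
  obtain ⟨y, hy⟩ := hfy 1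
  obtain ⟨y', hy'⟩ := hfy' 1
  have hu : ∀ r : R, IsUnit (algebraMap R S r) → IsUnit ((1 : S) ⊗ₜ[R] (r • (1 : A))) := fun r hr => by
    rw [← TensorProduct.smul_tmul, ← Algebra.algebraMap_eq_smul_one]
    exact hr.map (Algebra.TensorProduct.includeLeftRingHom (R := R) (A := S) (B := A))
  rw [LinearMap.mulLeft_apply] at hy
  rw [LinearMap.mulRight_apply] at hy'
  have h1 : IsUnit ((1 : S) ⊗ₜ[R] x * (1 : S) ⊗ₜ[R] y) := by
    rw [Algebra.TensorProduct.tmul_mul_tmul, one_mul, hy]; exact hu f hS.1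
  have h2 : IsUnit ((1 : S) ⊗ₜ[R] y' * (1 : S) ⊗ₜ[R] x) := by
    rw [Algebra.TensorProduct.tmul_mul_tmul, one_mul, hy']; exact hu f' hS.2
  obtain ⟨r, hr⟩ := h1.exists_right_inv
  obtain ⟨l, hl⟩ := h2.exists_left_inv
  exact isUnit_iff_exists_and_exists.2 ⟨⟨_, (mul_assoc _ _ _).symm.trans hr⟩, ⟨_, (mul_assoc _ _ _).trans hl⟩⟩

theorem exists_unit_intertwiner [IsAzumaya R A] (φ : A ≃ₐ[R] A) (p : Ideal R) [p.IsPrime] :
    ∃ x : A, (∀ c, φ c * x = x * c) ∧ IsUnit ((1 : p.ResidueField) ⊗ₜ[R] x) := by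
  obtain ⟨P, hP, hP'⟩ := exists_intertwiner_projection.{u, v, u} φ
  have := isAzumaya_baseChange (R := R) (A := A) p.ResidueField
  have := isSimpleRing_of_field p.ResidueField (p.ResidueField ⊗[R] A)
  obtain ⟨ū, hū⟩ := CSALib.skolemNoether (AlgHom.id p.ResidueField (p.ResidueField ⊗[R] A))
    (Algebra.TensorProduct.map (AlgHom.id p.ResidueField p.ResidueField) (φ : A →ₐ[R] A))
  have hint : ∀ c, ((1 : p.ResidueField) ⊗ₜ[R] φ c) * (ū : p.ResidueField ⊗[R] A) =
      ū * ((1 : p.ResidueField) ⊗ₜ[R] c) := fun c => by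
    have := hū ((1 : p.ResidueField) ⊗ₜ[R] c)
    rw [Algebra.TensorProduct.map_tmul, AlgHom.id_apply, AlgHom.id_apply, Units.eq_mul_inv_iff_mul_eq] at this
    exact this
  obtain ⟨b, hb, x, hx⟩ := exists_smul_eq_tmul p (ū : p.ResidueField ⊗[R] A)
  refine ⟨P x, fun c => hP c x, ?_⟩
  have hPx : (1 : p.ResidueField) ⊗ₜ[R] P x = algebraMap R p.ResidueField b • (ū : p.ResidueField ⊗[R] A) := by
    rw [← LinearMap.baseChange_tmul, ← hx, map_smul, hP' p.ResidueField _ hint]
  rw [hPx, Algebra.smul_def]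
  refine IsUnit.mul ?_ ū.isUnit
  exact (isUnit_iff_ne_zero.2 fun h => hb (Ideal.algebraMap_residueField_eq_zero.1 h)).map _

theorem exists_away_conj [IsAzumaya R A] (φ : A ≃ₐ[R] A) (p : Ideal R) [p.IsPrime] :
    ∃ (f : R) (_ : f ∉ p), ∀ (S : Type w) [CommRing S] [Algebra R S], IsUnit (algebraMap R S f) →
      ∃ u : (S ⊗[R] A)ˣ, ∀ a : S ⊗[R] A,
        Algebra.TensorProduct.map (AlgHom.id S S) (φ : A →ₐ[R] A) a =
          (u : S ⊗[R] A) * a * (u⁻¹ : (S ⊗[R] A)ˣ) := by
  obtain ⟨x, hx, hxu⟩ := exists_unit_intertwiner φ p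
  obtain ⟨f, hf, hfu⟩ := exists_isUnit_away.{u, v, w} p hxu
  refine ⟨f, hf, fun S _ _ hS => ⟨(hfu S hS).unit, fun a => ?_⟩⟩
  rw [Units.eq_mul_inv_iff_mul_eq, IsUnit.unit_spec]
  induction a with
  | zero => simp
  | add a b ha hb => rw [map_add, add_mul, mul_add, ha, hb]
  | tmul s c => simp [hx c]

end AzumayaLib
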