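import Groth.Agent.AzumayaLib.Descent
import Groth.Agent.AzumayaLib.Inner
import Groth.Agent.CSALib.Split

/-!
# Azumaya algebras through their fibres
-/

set_option autoImplicit false

universe u v w

open scoped TensorProduct
open MulOpposite

namespace AzumayaLib

variable {R : Type u} [CommRing R] {A : Type v} [Ring A] [Algebra R A]

theorem mem_range_of_commute [IsAzumaya R A] {z : A} (hz : ∀ x : A, Commute z x) :
    z ∈ (algebraMap R A).range := by
  obtain ⟨ρ, hρ⟩ := exists_retraction' (R := R) (A := A)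
  have h : z ⊗ₜ[R] (1 : Aᵐᵒᵖ) = (1 : A) ⊗ₜ[R] op z :=
    (IsAzumaya.bij (R := R) (A := A)).1 (LinearMap.ext fun x => by simpa using (hz x).eq)
  let L : A ⊗[R] Aᵐᵒᵖ →ₗ[R] A := TensorProduct.lift
    ((LinearMap.lsmul R A).flip.compl₂ (ρ.comp (opLinearEquiv R).symm.toLinearMap))
  have hL : ∀ (a : A) (b : Aᵐᵒᵖ), L (a ⊗ₜ b) = ρ b.unop • a := fun a b => by simp [L]
  have := congrArg L h
  rw [hL, hL, unop_one, hρ, one_smul, unop_op, ← Algebra.algebraMap_eq_smul_one] at this
  exact ⟨ρ z, this.symm⟩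

theorem isCentral [IsAzumaya R A] : Algebra.IsCentral R A :=
  ⟨fun z hz => by
    obtain ⟨r, hr⟩ := mem_range_of_commute (R := R) fun x => (Subalgebra.mem_center_iff.1 hz x).symm
    exact Algebra.mem_bot.2 ⟨r, hr⟩⟩

theorem isAzumaya_of_csa (k : Type u) [Field k] (B : Type v) [Ring B] [Algebra k B] [FiniteDimensional k B]
    [Algebra.IsCentral k B] [IsSimpleRing B] : IsAzumaya k B :=
  { bij := CSALib.bijective_algHom (AlgHom.mulLeftRight k B) (by
      rw [Module.finrank_tensorProduct, (MulOpposite.opLinearEquiv k).symm.finrank_eq,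
        Module.finrank_linearMap]) }

/-- Transitivity of base change for algebras. -/
noncomputable def cancelEquiv (R : Type u) [CommRing R] (S : Type*) [CommRing S] [Algebra R S] (T : Type*)
    [CommRing T] [Algebra R T] [Algebra S T] [IsScalarTower R S T] (A : Type v) [Ring A] [Algebra R A] :
    T ⊗[S] (S ⊗[R] A) ≃ₐ[T] T ⊗[R] A :=
  AlgEquiv.ofLinearEquiv (TensorProduct.AlgebraTensorModule.cancelBaseChange R S T T A)
    (by simp [Algebra.TensorProduct.one_def])
    (LinearMap.map_mul_of_map_mul_tmul (fun t t' x x' ↦ by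
      induction x with
      | zero => simp
      | add p q hp hq => simp_all [add_mul, TensorProduct.tmul_add]
      | tmul a b =>
        induction x' with
        | zero => simp
        | add p q hp hq => simp_all [mul_add, TensorProduct.tmul_add]
        | tmul a' b' => simp [smul_smul, mul_comm a a']))

theorem cancelEquiv_tmul (R : Type u) [CommRing R] (S : Type*) [CommRing S] [Algebra R S] (T : Type*)
    [CommRing T] [Algebra R T] [Algebra S T] [IsScalarTower R S T] (A : Type v) [Ring A] [Algebra R A]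
    (t : T) (s : S) (a : A) : cancelEquiv R S T A (t ⊗ₜ[S] (s ⊗ₜ[R] a)) = (s • t) ⊗ₜ[R] a := rfl

/-- Fibrewise Azumaya at the closed points. -/
theorem isAzumaya_of_maximal [Module.Finite R A] [Module.Projective R A]
    (h : ∀ (m : Ideal R) [m.IsMaximal], IsAzumaya m.ResidueField (m.ResidueField ⊗[R] A)) :
    IsAzumaya R A := by
  obtain ⟨n, p, g, -, -, hpg⟩ := Module.Finite.exists_comp_eq_id_of_projective R A
  have hρ : ∃ ρ : A →ₗ[R] R, ρ 1 = 1 := by
    refine exists_retraction_of_span (fun i : Fin n => (LinearMap.proj i).comp g) ?_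
    by_contra hne
    obtain ⟨m, hm, hle⟩ := Ideal.exists_le_maximal _ hne
    have := h m
    have : Nontrivial (m.ResidueField ⊗[R] A) :=
      (FaithfulSMul.algebraMap_injective m.ResidueField (m.ResidueField ⊗[R] A)).nontrivial
    apply one_ne_zero (α := m.ResidueField ⊗[R] A)
    rw [Algebra.TensorProduct.one_def,
      show (1 : A) = ∑ i, g 1 i • p (Pi.single i 1) by
        conv_lhs => rw [← LinearMap.id_apply (R := R) (1 : A), ← hpg, LinearMap.comp_apply,
          pi_eq_sum_univ' (g 1), map_sum]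
        exact Finset.sum_congr rfl fun i _ => map_smul p _ _,
      TensorProduct.tmul_sum]
    refine Finset.sum_eq_zero fun i _ => ?_
    have h0 : algebraMap R m.ResidueField (g 1 i) = 0 :=
      Ideal.algebraMap_residueField_eq_zero.2 (hle (Ideal.subset_span ⟨i, rfl⟩))
    rw [← TensorProduct.smul_tmul, ← Algebra.algebraMap_eq_smul_one, h0, TensorProduct.zero_tmul]
  obtain ⟨ρ, hρ⟩ := hρ
  refine { bij := ?_, toFaithfulSMul := (faithfulSMul_iff_algebraMap_injective R A).2 (injective_of_retraction ρ hρ) }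
  have key : ∀ (C : Type v) [AddCommGroup C] [Module R C] [Module.Finite R C],
      (∀ (m : Ideal R) [m.IsMaximal], Subsingleton (m.ResidueField ⊗[R] C)) → Subsingleton C := by
    intro C _ _ _ hC
    rw [← Module.support_eq_empty_iff (R := R), Set.eq_empty_iff_forall_notMem]
    intro q hq
    obtain ⟨m, hm, hle⟩ := Ideal.exists_le_maximal q.asIdeal q.isPrime.ne_top
    have hq' := Module.mem_support_mono (q := ⟨m, hm.isPrime⟩) hle hq
    rw [Module.mem_support_iff_nontrivial_residueField_tensorProduct] at hq'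
    exact @false_of_nontrivial_of_subsingleton _ hq' (hC m)
  refine bijective_of_subsingleton (fun hfin => key _ fun m _ => ?_) fun π hπ hfin => key _ fun m _ => ?_
  · have := h m
    exact subsingleton_coker (R := R) (B := A) m.ResidueField
  · have := h m
    exact subsingleton_ker m.ResidueField π hπ

theorem fibre_csa [IsAzumaya R A] (K : Type w) [Field K] [Algebra R K] :
    Algebra.IsCentral K (K ⊗[R] A) ∧ IsSimpleRing (K ⊗[R] A) := by
  have := isAzumaya_baseChange (R := R) (A := A) K
  exact ⟨isCentral, isSimpleRing_of_field K _⟩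

theorem isAzumaya_iff_fibres [Module.Finite R A] [Module.Projective R A] :
    IsAzumaya R A ↔ ∀ (p : Ideal R) [p.IsPrime],
      Algebra.IsCentral p.ResidueField (p.ResidueField ⊗[R] A) ∧ IsSimpleRing (p.ResidueField ⊗[R] A) := by
  refine ⟨fun h p _ => fibre_csa p.ResidueField, fun h => isAzumaya_of_maximal fun m _ => ?_⟩
  obtain ⟨_, _⟩ := h m
  exact isAzumaya_of_csa m.ResidueField _

theorem isAzumaya_iff_closed_fibre [IsLocalRing R] [Module.Finite R A] [Module.Projective R A] :
    IsAzumaya R A ↔ Algebra.IsCentral (IsLocalRing.ResidueField R) (IsLocalRing.ResidueField R ⊗[R] A) ∧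
      IsSimpleRing (IsLocalRing.ResidueField R ⊗[R] A) := by
  refine ⟨fun h => fibre_csa _, fun h => isAzumaya_of_maximal fun m hm => ?_⟩
  obtain rfl := IsLocalRing.eq_maximalIdeal hm
  let e : IsLocalRing.ResidueField R ≃ₐ[R] (IsLocalRing.maximalIdeal R).ResidueField :=
    AlgEquiv.ofBijective (IsScalarTower.toAlgHom R (IsLocalRing.ResidueField R) _)
      (Ideal.bijective_algebraMap_quotient_residueField (IsLocalRing.maximalIdeal R))
  obtain ⟨_, _⟩ := h
  have := isAzumaya_of_csa (IsLocalRing.ResidueField R) (IsLocalRing.ResidueField R ⊗[R] A)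
  let _ : Algebra (IsLocalRing.ResidueField R) (IsLocalRing.maximalIdeal R).ResidueField :=
    e.toAlgHom.toAlgebra
  have : IsScalarTower R (IsLocalRing.ResidueField R) (IsLocalRing.maximalIdeal R).ResidueField :=
    IsScalarTower.of_algebraMap_eq fun r => (e.commutes r).symm
  have := isAzumaya_baseChange (R := IsLocalRing.ResidueField R)
    (A := IsLocalRing.ResidueField R ⊗[R] A) (IsLocalRing.maximalIdeal R).ResidueField
  let c := cancelEquiv R (IsLocalRing.ResidueField R) (IsLocalRing.maximalIdeal R).ResidueField A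
  exact IsAzumaya.of_AlgEquiv (IsLocalRing.maximalIdeal R).ResidueField _ _ c

theorem isAzumaya_of_split [Module.FinitePresentation R A] (S : Type w) [CommRing S] [Algebra R S]
    [Module.FaithfullyFlat R S] {r : ℕ} (hr : 1 ≤ r)
    (e : (S ⊗[R] A) ≃ₐ[S] Matrix (Fin r) (Fin r) S) : IsAzumaya R A := by
  have : Nonempty (Fin r) := ⟨⟨0, hr⟩⟩
  have : Module.Finite S (S ⊗[R] A) := Module.Finite.equiv e.symm.toLinearEquiv
  have : Module.Projective S (S ⊗[R] A) := Module.Projective.of_equiv e.symm.toLinearEquiv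
  obtain ⟨_, _⟩ := finite_projective_of_faithfullyFlat (R := R) S A
  have : IsAzumaya S (Matrix (Fin r) (Fin r) S) := IsAzumaya.matrix S (Fin r)
  have : IsAzumaya S (S ⊗[R] A) := IsAzumaya.of_AlgEquiv S _ _ e.symm
  exact isAzumaya_of_baseChange S PrimeSpectrum.comap_surjective_of_faithfullyFlat

theorem inner_of_isLocalRing [IsLocalRing R] [IsAzumaya R A] (φ : A ≃ₐ[R] A) :
    (∃ a : Aˣ, ∀ x : A, φ x = (a : A) * x * (a⁻¹ : Aˣ)) ∧
      (∀ a a' : Aˣ, (∀ x : A, φ x = (a : A) * x * (a⁻¹ : Aˣ)) →
        (∀ x : A, φ x = (a' : A) * x * (a'⁻¹ : Aˣ)) →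
          ∃ c : Rˣ, (a' : A) = algebraMap R A (c : R) * (a : A)) := by
  refine ⟨?_, fun a a' ha ha' => ?_⟩
  · obtain ⟨x, hx, hxu⟩ := exists_unit_intertwiner φ (IsLocalRing.maximalIdeal R)
    obtain ⟨f, hf, hfu⟩ := exists_isUnit_away.{u, v, u} (IsLocalRing.maximalIdeal R) hxu
    have hu : IsUnit x := by
      have h1 := (hfu R (by
        rw [Algebra.algebraMap_self, RingHom.id_apply]
        exact (IsLocalRing.notMem_maximalIdeal).1 hf)).map (Algebra.TensorProduct.lid R A)
      simpa using h1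
    refine ⟨hu.unit, fun y => ?_⟩
    rw [Units.eq_mul_inv_iff_mul_eq, IsUnit.unit_spec]
    exact hx y
  · have hz : ∀ x : A, Commute ((a' : A) * (a⁻¹ : Aˣ)) x := fun y => by
      have h := (ha ((a⁻¹ : Aˣ) * y * (a : A))).symm.trans (ha' _)
      simp only [← mul_assoc, Units.mul_inv, one_mul] at h
      simp only [mul_assoc, Units.mul_inv, mul_one] at h
      show _ = _
      calc (a' : A) * (a⁻¹ : Aˣ) * y
          = (a' : A) * ((a⁻¹ : Aˣ) * (y * ((a : A) * (a'⁻¹ : Aˣ)))) * ((a' : A) * (a⁻¹ : Aˣ)) := by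
            simp [mul_assoc]
        _ = y * ((a' : A) * (a⁻¹ : Aˣ)) := by rw [← h]
    obtain ⟨r, hr⟩ := mem_range_of_commute (R := R) hz
    obtain ⟨ρ, hρ⟩ := exists_retraction' (R := R) (A := A)
    have hu : IsUnit (algebraMap R A r) := by rw [hr]; exact a'.isUnit.mul (Units.isUnit _)
    obtain ⟨v, hv⟩ := hu.exists_right_inv
    have hru : IsUnit r := IsUnit.of_mul_eq_one (ρ v) (by
      rw [← smul_eq_mul, ← map_smul, Algebra.smul_def, hv, hρ])
    exact ⟨hru.unit, by rw [IsUnit.unit_spec, hr, mul_assoc, Units.inv_mul, mul_one]⟩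

end AzumayaLib
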