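import Groth.Agent.AzumayaLib.Regular

/-!
# Maximal étale subalgebras over local rings
-/

set_option autoImplicit false

universe u v w

open scoped TensorProduct Polynomial
open Polynomial Module IsLocalRing

namespace AzumayaLib.Et

variable {R : Type u} [CommRing R] [IsLocalRing R] {A : Type v} [Ring A] [Algebra R A] [IsAzumaya R A]

theorem free_of_azumaya : Module.Free R A := Module.free_of_flat_of_isLocalRing

theorem fibre_finrank {r : ℕ} (hA : finrank R A = r ^ 2) (K : Type w) [Field K] [Algebra R K] :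
    finrank K (K ⊗[R] A) = r ^ 2 := by
  have := free_of_azumaya (R := R) (A := A)
  rw [Module.finrank_baseChange, hA]

theorem regular_span {r : ℕ} (hA : finrank R A = r ^ 2) (ξ : A)
    (hs : (minpoly (ResidueField R) ((1 : ResidueField R) ⊗ₜ[R] ξ)).Separable)
    (hd : (minpoly (ResidueField R) ((1 : ResidueField R) ⊗ₜ[R] ξ)).natDegree = r) :
    LinearIndependent R (fun i : Fin r => ξ ^ (i : ℕ)) ∧
      Function.Injective ((Fintype.linearCombination R (fun i : Fin r => ξ ^ (i : ℕ))).baseChange
        (ResidueField R)) ∧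
      ∀ z : A, Commute ξ z → z ∈ Submodule.span R (Set.range fun i : Fin r => ξ ^ (i : ℕ)) := by
  classical
  have := free_of_azumaya (R := R) (A := A)
  set k := ResidueField R
  obtain ⟨_, _⟩ := fibre_csa (R := R) (A := A) k
  let W := Fintype.linearCombination R (fun i : Fin r => ξ ^ (i : ℕ))
  let bk := (Pi.basisFun R (Fin r)).baseChange k
  have hWb : ∀ i, W.baseChange k (bk i) = ((1 : k) ⊗ₜ[R] ξ) ^ (i : ℕ) := fun i => by
    simp [W, bk, Fintype.linearCombination_apply_single]
  have hWk : Function.Injective (W.baseChange k) := by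
    have hli := (Reg.linearIndependent_pow_iff ((1 : k) ⊗ₜ[R] ξ)).2 hd.ge
    have : W.baseChange k = bk.constr k (fun i : Fin r => ((1 : k) ⊗ₜ[R] ξ) ^ (i : ℕ)) :=
      bk.ext fun i => by rw [hWb, Basis.constr_basis]
    rw [this, ← LinearMap.ker_eq_bot]
    refine LinearMap.ker_eq_bot'.2 fun y hy => ?_
    rw [Basis.constr_apply_fintype] at hy
    have h0 := Fintype.linearIndependent_iff.1 hli _ hy
    exact bk.equivFun.injective ((funext h0).trans (map_zero bk.equivFun).symm)
  obtain ⟨σ, hσ⟩ := (split_injective_iff_lTensor_residueField_injective W).2 hWk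
  have hli : LinearIndependent R (fun i : Fin r => ξ ^ (i : ℕ)) := by
    rw [linearIndependent_iff_injective_fintypeLinearCombination]
    exact Function.LeftInverse.injective (g := σ) (LinearMap.congr_fun hσ)
  refine ⟨hli, hWk, fun z hz => ?_⟩
  let ad : A →ₗ[R] A := LinearMap.mulLeft R ξ - LinearMap.mulRight R ξ
  have hadW : ∀ c, ad (W c) = 0 := fun c => by
    simp only [ad, W, LinearMap.sub_apply, LinearMap.mulLeft_apply, LinearMap.mulRight_apply,
      Fintype.linearCombination_apply, Finset.mul_sum, Finset.sum_mul, mul_smul_comm, smul_mul_assoc,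
      ← pow_succ, ← pow_succ', sub_self]
  let K := LinearMap.ker σ
  let π : A →ₗ[R] K := LinearMap.codRestrict K (LinearMap.id - W.comp σ) fun y => by
    have := LinearMap.congr_fun hσ (σ y)
    simp only [LinearMap.comp_apply, LinearMap.id_apply] at this
    simp [K, LinearMap.mem_ker, this]
  have hπK : π.comp K.subtype = LinearMap.id := LinearMap.ext fun y => Subtype.ext (by
    simp [π, show σ (y : A) = 0 from y.2])
  have : Module.Finite R K := Module.Finite.of_surjective π fun y => ⟨y, LinearMap.congr_fun hπK y⟩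
  have hadk : ∀ y : k ⊗[R] A, ad.baseChange k y = (1 ⊗ₜ[R] ξ) * y - y * (1 ⊗ₜ[R] ξ) := fun y => by
    induction y with
    | zero => simp
    | add a b ha hb => rw [map_add, ha, hb, mul_add, add_mul]; abel
    | tmul c a => simp [ad, TensorProduct.tmul_sub]
  have hinj : Function.Injective ((ad.comp K.subtype).lTensor k) := by
    rw [injective_iff_map_eq_zero]
    intro y hy
    set y' := K.subtype.baseChange k y
    have hmem : y' ∈ LinearMap.ker (LinearMap.mulLeft k ((1 : k) ⊗ₜ[R] ξ) -
        LinearMap.mulRight k ((1 : k) ⊗ₜ[R] ξ)) := by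
      rw [LinearMap.mem_ker, LinearMap.sub_apply, LinearMap.mulLeft_apply, LinearMap.mulRight_apply,
        ← hadk]
      rw [LinearMap.lTensor_comp, LinearMap.comp_apply] at hy
      exact hy
    have hle : LinearMap.range (W.baseChange k) ≤ LinearMap.ker (LinearMap.mulLeft k ((1 : k) ⊗ₜ[R] ξ) -
        LinearMap.mulRight k ((1 : k) ⊗ₜ[R] ξ)) := by
      rintro _ ⟨c, rfl⟩
      rw [LinearMap.mem_ker, LinearMap.sub_apply, LinearMap.mulLeft_apply, LinearMap.mulRight_apply, ← hadk,
        ← LinearMap.comp_apply, ← LinearMap.baseChange_comp, show ad.comp W = 0 from LinearMap.ext hadW,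
        LinearMap.baseChange_zero, LinearMap.zero_apply]
    have heq : LinearMap.range (W.baseChange k) = LinearMap.ker (LinearMap.mulLeft k ((1 : k) ⊗ₜ[R] ξ) -
        LinearMap.mulRight k ((1 : k) ⊗ₜ[R] ξ)) := by
      refine Submodule.eq_of_le_of_finrank_le hle ?_
      rw [LinearMap.finrank_range_of_inj hWk, Module.finrank_baseChange, Module.finrank_fintype_fun_eq_card,
        Fintype.card_fin]
      exact Reg.centralizer_le (k ⊗[R] A) (fibre_finrank hA k) _ hs hd
    rw [← heq] at hmem
    obtain ⟨c, hc⟩ := hmem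
    have h1 : σ.baseChange k y' = 0 := by
      show σ.baseChange k (K.subtype.baseChange k y) = 0
      rw [← LinearMap.comp_apply, ← LinearMap.baseChange_comp, show σ.comp K.subtype = 0 from
        LinearMap.ext fun w => w.2, LinearMap.baseChange_zero, LinearMap.zero_apply]
    rw [← hc, ← LinearMap.comp_apply, ← LinearMap.baseChange_comp, hσ, LinearMap.baseChange_id,
      LinearMap.id_apply] at h1
    rw [h1, map_zero] at hc
    have h2 := congrArg (π.baseChange k) hc
    rw [map_zero] at h2
    show y = 0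
    rw [h2, show π.baseChange k (K.subtype.baseChange k y) = y by
      rw [← LinearMap.comp_apply, ← LinearMap.baseChange_comp, hπK, LinearMap.baseChange_id,
        LinearMap.id_apply]]
  obtain ⟨τ, hτ⟩ := (split_injective_iff_lTensor_residueField_injective (ad.comp K.subtype)).2 hinj
  have hπz : π z = 0 := by
    have h1 := LinearMap.congr_fun hτ (π z)
    rw [LinearMap.id_apply] at h1
    rw [← h1, LinearMap.comp_apply, LinearMap.comp_apply]
    have : ad ((π z : K) : A) = 0 := by
      simp only [π, LinearMap.codRestrict_apply, LinearMap.sub_apply, LinearMap.id_apply, LinearMap.comp_apply,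
        map_sub, hadW, sub_zero]
      simp [ad, hz.eq]
    rw [show ad (K.subtype (π z)) = 0 from this, map_zero]
  have : z = W (σ z) := by
    have := congrArg Subtype.val hπz
    simpa [π, sub_eq_zero] using this
  rw [this]
  show ∑ i, σ z i • ξ ^ (i : ℕ) ∈ _
  exact Submodule.sum_mem _ fun i _ => Submodule.smul_mem _ _ (Submodule.subset_span ⟨i, rfl⟩)

theorem powers_basis {r : ℕ} (hA : finrank R A = r ^ 2) (ξ : A)
    (hsep : Algebra.IsSeparable (ResidueField R)
      (Algebra.adjoin (ResidueField R) ({(1 : ResidueField R) ⊗ₜ[R] ξ} : Set (ResidueField R ⊗[R] A))))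
    (hrk : finrank (ResidueField R)
      (Algebra.adjoin (ResidueField R) ({(1 : ResidueField R) ⊗ₜ[R] ξ} : Set (ResidueField R ⊗[R] A))) = r) :
    LinearIndependent R (fun i : Fin r => ξ ^ (i : ℕ)) ∧
      ξ ^ r ∈ Submodule.span R (Set.range (fun i : Fin r => ξ ^ (i : ℕ))) := by
  obtain ⟨_, _⟩ := fibre_csa (R := R) (A := A) (ResidueField R)
  rw [Reg.finrank_adjoin] at hrk
  have hs : (minpoly (ResidueField R) ((1 : ResidueField R) ⊗ₜ[R] ξ)).Separable := by
    have h := hsep.isSeparable' ⟨_, Algebra.self_mem_adjoin_singleton (ResidueField R) ((1 : ResidueField R) ⊗ₜ[R] ξ)⟩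
    unfold IsSeparable at h
    rw [← minpoly.algHom_eq (Subalgebra.val _) Subtype.val_injective] at h
    exact h
  obtain ⟨h1, -, h3⟩ := regular_span hA ξ hs hrk
  exact ⟨h1, h3 _ (Commute.self_pow ξ r)⟩

theorem exists_regular_poly {r : ℕ} (hA : finrank R A = r ^ 2) :
    ∃ (ξ : A) (f : R[X]), f.Monic ∧ f.natDegree = r ∧ aeval ξ f = 0 ∧
      (f.map (algebraMap R (ResidueField R))).Separable ∧
      Function.Injective ((Fintype.linearCombination R (fun i : Fin r => ξ ^ (i : ℕ))).baseChange
        (ResidueField R)) := by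
  classical
  have := free_of_azumaya (R := R) (A := A)
  obtain ⟨_, _⟩ := fibre_csa (R := R) (A := A) (ResidueField R)
  obtain ⟨x, hs, hd⟩ := Reg.exists_regular (ResidueField R ⊗[R] A) (fibre_finrank hA _)
  obtain ⟨ξ, rfl⟩ := TensorProduct.mk_surjective R A (ResidueField R) IsLocalRing.residue_surjective x
  obtain ⟨-, h2, h3⟩ := regular_span hA ξ hs hd
  obtain ⟨c, hc⟩ := (Submodule.mem_span_range_iff_exists_fun R).1 (h3 _ (Commute.self_pow ξ r))
  have hdeg : (∑ i : Fin r, C (c i) * X ^ (i : ℕ)).degree < (r : WithBot ℕ) := by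
    refine lt_of_le_of_lt (Polynomial.degree_sum_le _ _) ?_
    rw [Finset.sup_lt_iff (WithBot.bot_lt_coe _)]
    exact fun i _ => lt_of_le_of_lt (Polynomial.degree_C_mul_X_pow_le _ _) (by exact_mod_cast i.2)
  set f : R[X] := X ^ r - ∑ i : Fin r, C (c i) * X ^ (i : ℕ) with hfdef
  have hm : f.Monic := monic_X_pow_sub (lt_of_lt_of_le hdeg le_rfl)
  have hfd : f.natDegree = r :=
    Polynomial.natDegree_eq_of_degree_eq_some (by
      rw [hfdef, Polynomial.degree_sub_eq_left_of_degree_lt (by rwa [degree_X_pow]), degree_X_pow])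
  have h0 : aeval ξ f = 0 := by
    rw [hfdef, map_sub, map_pow, aeval_X, map_sum, sub_eq_zero, ← hc]
    exact Finset.sum_congr rfl fun i _ => by rw [map_mul, aeval_C, map_pow, aeval_X, Algebra.smul_def]
  refine ⟨ξ, f, hm, hfd, h0, ?_, h2⟩
  have hmin : minpoly (ResidueField R) (TensorProduct.mk R (ResidueField R) A 1 ξ) =
      f.map (algebraMap R (ResidueField R)) := by
    refine (Polynomial.eq_of_monic_of_dvd_of_natDegree_le (minpoly.monic (IsIntegral.of_finite _ _))
      (hm.map _) (minpoly.dvd _ _ ?_) ?_).symm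
    · rw [aeval_map_algebraMap]
      show aeval (Algebra.TensorProduct.includeRight (R := R) (A := ResidueField R) ξ) f = 0
      rw [aeval_algHom_apply, h0, map_zero]
    · rw [hm.natDegree_map, hfd]
      exact hd.ge
  rwa [← hmin]

omit [IsAzumaya R A] in
theorem separable_of_map {f : R[X]} (hm : f.Monic)
    (hs : (f.map (algebraMap R (ResidueField R))).Separable) : f.Separable := by
  classical
  have := hm.finite_adjoinRoot
  have hu : IsUnit (AdjoinRoot.mk f (derivative f)) := by
    by_contra hnu
    obtain ⟨M, hM, hle⟩ := Ideal.exists_le_maximal (Ideal.span {AdjoinRoot.mk f (derivative f)})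
      (by rwa [Ne, Ideal.span_singleton_eq_top])
    have hMc : M.comap (algebraMap R (AdjoinRoot f)) = maximalIdeal R :=
      IsLocalRing.eq_maximalIdeal (Ideal.isMaximal_comap_of_isIntegral_of_isMaximal M)
    obtain ⟨a, b, hab⟩ := hs
    obtain ⟨a, rfl⟩ := Polynomial.map_surjective _ IsLocalRing.residue_surjective a
    obtain ⟨b, rfl⟩ := Polynomial.map_surjective _ IsLocalRing.residue_surjective b
    have hh : ∀ n, (a * f + b * derivative f - 1).coeff n ∈ maximalIdeal R := fun n => by
      rw [← IsLocalRing.residue_eq_zero_iff]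
      have h2 : (a * f + b * derivative f - 1).map (IsLocalRing.residue R) = 0 := by
        rw [Polynomial.map_sub, Polynomial.map_add, Polynomial.map_mul, Polynomial.map_mul, Polynomial.map_one,
          ← derivative_map, sub_eq_zero]
        exact hab
      rw [← Polynomial.coeff_map, h2, Polynomial.coeff_zero]
    have hmem : AdjoinRoot.mk f (a * f + b * derivative f - 1) ∈ M := by
      rw [Polynomial.as_sum_range_C_mul_X_pow (a * f + b * derivative f - 1), map_sum]
      refine Ideal.sum_mem _ fun n _ => ?_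
      rw [map_mul]
      refine Ideal.mul_mem_right _ _ ?_
      rw [AdjoinRoot.mk_C, ← AdjoinRoot.algebraMap_eq, ← Ideal.mem_comap, hMc]
      exact hh n
    rw [map_sub, map_add, map_mul, map_mul, AdjoinRoot.mk_self, mul_zero, zero_add, map_one] at hmem
    refine hM.ne_top ((Ideal.eq_top_iff_one _).2 ?_)
    have hb : AdjoinRoot.mk f b * AdjoinRoot.mk f (derivative f) ∈ M :=
      Ideal.mul_mem_left _ _ (hle (Ideal.mem_span_singleton_self _))
    simpa using M.sub_mem hb hmem
  obtain ⟨v, hv⟩ := hu.exists_left_inv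
  obtain ⟨v, rfl⟩ := AdjoinRoot.mk_surjective v
  rw [← map_mul, ← map_one (AdjoinRoot.mk f), AdjoinRoot.mk_eq_mk] at hv
  obtain ⟨q, hq⟩ := hv
  exact ⟨-q, v, by linear_combination hq⟩

omit [IsLocalRing R] [IsAzumaya R A] in
theorem etale_adjoinRoot {f : R[X]} (hm : f.Monic) (hs : f.Separable) : Algebra.Etale R (AdjoinRoot f) := by
  obtain ⟨a, b, hab⟩ := hs
  let P : StandardEtalePair R := ⟨f, hm, 1, b, a, 0, by rw [pow_zero]; linear_combination hab⟩
  have hu : IsUnit (AdjoinRoot.mk P.f P.g) := by simp [P]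
  let e : AdjoinRoot f ≃ₐ[R] P.Ring :=
    ((IsLocalization.atUnits (AdjoinRoot P.f) (Submonoid.powers (AdjoinRoot.mk P.f P.g))
      (S := Localization.Away (AdjoinRoot.mk P.f P.g))
      (by rintro _ ⟨n, rfl⟩; exact hu.pow n)).restrictScalars R).trans P.equivAwayAdjoinRoot.symm
  exact Algebra.Etale.of_equiv e.symm

theorem exists_maximal_etale {r : ℕ} (hA : finrank R A = r ^ 2) :
    ∃ (E : Type u) (_ : CommRing E) (_ : Algebra R E), Algebra.Etale R E ∧ Module.Finite R E ∧
      Module.Free R E ∧ finrank R E = r ∧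
        ∃ u : E →ₐ[R] A, Function.Injective (u.toLinearMap.lTensor (ResidueField R)) := by
  classical
  obtain ⟨ξ, f, hm, hfd, h0, hs, hinj⟩ := exists_regular_poly hA
  have hfs := separable_of_map hm hs
  let b := (AdjoinRoot.powerBasis' hm)
  refine ⟨AdjoinRoot f, inferInstance, inferInstance, etale_adjoinRoot hm hfs, hm.finite_adjoinRoot,
    hm.free_adjoinRoot, by rw [b.finrank]; exact hfd, ?_⟩
  let u : AdjoinRoot f →ₐ[R] A :=
    Ideal.Quotient.liftₐ (Ideal.span {f}) (aeval ξ) fun a ha => by
      obtain ⟨t, rfl⟩ := Ideal.mem_span_singleton'.1 ha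
      rw [map_mul, h0, mul_zero]
  refine ⟨u, ?_⟩
  have hu : ∀ i : Fin f.natDegree, u (b.basis i) = ξ ^ (i : ℕ) := fun i => by
    rw [b.coe_basis]
    show u ((AdjoinRoot.root f) ^ (i : ℕ)) = _
    rw [map_pow]
    congr 1
    exact aeval_X ξ
  have hdim : b.dim = r := hfd
  let ε : (Fin r → R) ≃ₗ[R] AdjoinRoot f :=
    (LinearEquiv.funCongrLeft R R (finCongr hdim)).trans b.basis.equivFun.symm
  have hcomp : u.toLinearMap.comp ε.toLinearMap = Fintype.linearCombination R (fun i : Fin r => ξ ^ (i : ℕ)) := by
    refine (Pi.basisFun R (Fin r)).ext fun i => ?_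
    have : ε (Pi.single i 1) = b.basis (finCongr hdim.symm i) := by
      apply b.basis.equivFun.injective
      funext j
      rw [show ε (Pi.single i 1) = b.basis.equivFun.symm (fun j => (Pi.single i 1 : Fin r → R) (finCongr hdim j)) from rfl,
        LinearEquiv.apply_symm_apply]
      refine Eq.trans ?_ (congrFun (congrArg DFunLike.coe (b.basis.repr_self _)) j).symm
      rw [Finsupp.single_apply, Pi.single_apply]
      refine if_congr ⟨fun h => ?_, fun h => ?_⟩ rfl rfl <;> exact Fin.ext (congrArg Fin.val h).symm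
    simp only [LinearMap.comp_apply, Pi.basisFun_apply, LinearEquiv.coe_coe, AlgHom.toLinearMap_apply,
      Fintype.linearCombination_apply_single, one_smul, this]
    exact hu _
  have h1 : Function.Injective ((u.toLinearMap.comp ε.toLinearMap).lTensor (ResidueField R)) := by
    rw [hcomp]; exact hinj
  rw [LinearMap.lTensor_comp, LinearMap.coe_comp] at h1
  exact (Function.Injective.of_comp_iff' _
    (TensorProduct.congr (LinearEquiv.refl R (ResidueField R)) ε).bijective).1 h1

omit [IsAzumaya R A] in
theorem finite_maximal (E : Type w) [CommRing E] [Algebra R E] [Module.Finite R E] :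
    Finite (MaximalSpectrum E) := by
  let J := (maximalIdeal R).map (algebraMap R E)
  let _ : Algebra (ResidueField R) (E ⧸ J) :=
    Ideal.Quotient.algebraQuotientOfLEComap Ideal.le_comap_map
  have : IsScalarTower R (ResidueField R) (E ⧸ J) := IsScalarTower.of_algebraMap_eq fun x => rfl
  have : Module.Finite (ResidueField R) (E ⧸ J) :=
    have : Module.Finite R (E ⧸ J) := Module.Finite.of_surjective (Ideal.Quotient.mkₐ R J).toLinearMap
      Ideal.Quotient.mk_surjective
    Module.Finite.of_restrictScalars_finite R (ResidueField R) (E ⧸ J)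
  have : IsArtinianRing (E ⧸ J) := IsArtinianRing.of_finite (ResidueField R) (E ⧸ J)
  have hle : ∀ q : MaximalSpectrum E, J ≤ q.asIdeal := fun q => by
    rw [Ideal.map_le_iff_le_comap]
    have := q.isMaximal
    rw [IsLocalRing.eq_maximalIdeal (Ideal.isMaximal_comap_of_isIntegral_of_isMaximal q.asIdeal)]
  refine Finite.of_injective (fun q : MaximalSpectrum E => (⟨q.asIdeal.map (Ideal.Quotient.mk J),
    (Ideal.map_eq_top_or_isMaximal_of_surjective _ Ideal.Quotient.mk_surjective q.isMaximal).resolve_left
      fun h => q.isMaximal.ne_top (by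
        have := congrArg (Ideal.comap (Ideal.Quotient.mk J)) h
        rwa [Ideal.comap_map_mk (hle q), Ideal.comap_top] at this)⟩ : MaximalSpectrum (E ⧸ J))) fun p q h => ?_
  have h' := congrArg (fun t : MaximalSpectrum (E ⧸ J) => t.asIdeal.comap (Ideal.Quotient.mk J)) h
  simp only [Ideal.comap_map_mk (hle p), Ideal.comap_map_mk (hle q)] at h'
  exact MaximalSpectrum.ext h'

end AzumayaLib.Et
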