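import Groth.Agent.AzumayaLib.Etale

/-!
# Splitting by maximal étale subalgebras
-/

set_option autoImplicit false

universe u v w z

open scoped TensorProduct
open Module IsLocalRing

namespace AzumayaLib.Spl

theorem surjective_of_quotients {S : Type w} [CommRing S] {M : Type v} [AddCommGroup M] [Module S M]
    {N : Type z} [AddCommGroup N] [Module S N] [Module.Finite S N] (f : M →ₗ[S] N)
    (h : ∀ (q : Ideal S) [q.IsMaximal], LinearMap.range f ⊔ q • (⊤ : Submodule S N) = ⊤) :
    Function.Surjective f := by
  rw [← LinearMap.range_eq_top, ← Submodule.Quotient.subsingleton_iff, ← Module.support_eq_empty_iff (R := S),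
    Set.eq_empty_iff_forall_notMem]
  intro p hp
  rw [Module.mem_support_iff_of_finite] at hp
  obtain ⟨q, hq, hle⟩ := Ideal.exists_le_maximal p.asIdeal p.isPrime.ne_top
  have htop : (⊤ : Submodule S (N ⧸ LinearMap.range f)) ≤ q • ⊤ := by
    have h' := congrArg (Submodule.map (LinearMap.range f).mkQ) (h q)
    rw [Submodule.map_sup, Submodule.mkQ_map_self, bot_sup_eq, Submodule.map_smul'', Submodule.map_top,
      Submodule.range_mkQ] at h'
    exact h'.ge
  obtain ⟨r, hr, hr0⟩ := Submodule.exists_sub_one_mem_and_smul_eq_zero_of_fg_of_le_smul q ⊤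
    Module.Finite.fg_top htop
  have hrq : r ∈ q := hle (hp (Module.mem_annihilator.2 fun x => hr0 x Submodule.mem_top))
  exact hq.ne_top ((Ideal.eq_top_iff_one _).2 (by simpa using q.sub_mem hrq hr))

/-- A homomorphism from an Azumaya algebra to a matrix algebra of the same rank is bijective. -/
theorem bijective_to_matrix {S : Type w} [CommRing S] {B : Type v} [Ring B] [Algebra S B] [IsAzumaya S B]
    {r : ℕ} (hr : 0 < r) (hB : ∀ (q : Ideal S) [q.IsMaximal],
      finrank (S ⧸ q) ((S ⧸ q) ⊗[S] B) = r ^ 2)
    (Ψ : B →ₐ[S] Matrix (Fin r) (Fin r) S) : Function.Bijective Ψ := by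
  have : Nonempty (Fin r) := ⟨⟨0, hr⟩⟩
  constructor
  · rw [injective_iff_map_eq_zero]
    intro x hx
    have h := twoSidedIdeal_eq_map (R := S) (TwoSidedIdeal.ker Ψ)
    have hc : (TwoSidedIdeal.asIdeal (TwoSidedIdeal.ker Ψ)).comap (algebraMap S B) = ⊥ := by
      rw [eq_bot_iff]
      intro s hs
      rw [Ideal.mem_comap, TwoSidedIdeal.mem_asIdeal, TwoSidedIdeal.mem_ker, AlgHom.commutes] at hs
      simpa [Matrix.algebraMap_matrix_apply] using congrFun (congrFun hs ⟨0, hr⟩) ⟨0, hr⟩
    rw [hc, Ideal.map_bot] at h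
    have hxm : x ∈ TwoSidedIdeal.asIdeal (TwoSidedIdeal.ker Ψ) := by
      rw [TwoSidedIdeal.mem_asIdeal, TwoSidedIdeal.mem_ker]
      exact hx
    rw [h, Submodule.mem_bot] at hxm
    exact hxm
  · refine surjective_of_quotients Ψ.toLinearMap fun q hq => ?_
    let _ : Field (S ⧸ q) := Ideal.Quotient.field q
    obtain ⟨_, _⟩ := fibre_csa (R := S) (A := B) (S ⧸ q)
    let ψ : (S ⧸ q) ⊗[S] B →ₐ[S ⧸ q] Matrix (Fin r) (Fin r) (S ⧸ q) :=
      Algebra.TensorProduct.lift (Algebra.ofId _ _) ((Ideal.Quotient.mkₐ S q).mapMatrix.comp Ψ)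
        fun s b => Algebra.commutes s _
    have hψinj : Function.Injective ψ := CSALib.injective_algHom ψ
    have : Module.Finite (S ⧸ q) ((S ⧸ q) ⊗[S] B) := inferInstance
    have hψ : Function.Surjective ψ := by
      refine (LinearMap.injective_iff_surjective_of_finrank_eq_finrank (f := ψ.toLinearMap) ?_).1 hψinj
      rw [hB q, CSALib.finrank_matrix_self]
    refine eq_top_iff.2 fun M _ => ?_
    obtain ⟨y, hy⟩ := hψ (M.map (Ideal.Quotient.mk q))
    obtain ⟨b, rfl⟩ := TensorProduct.mk_surjective S B (S ⧸ q) Ideal.Quotient.mk_surjective y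
    have hb : (Ψ b).map (Ideal.Quotient.mk q) = M.map (Ideal.Quotient.mk q) := by
      rw [← hy]
      refine Eq.symm ((Algebra.TensorProduct.lift_tmul (Algebra.ofId (S ⧸ q) _)
        ((Ideal.Quotient.mkₐ S q).mapMatrix.comp Ψ) (fun s b => Algebra.commutes s _) 1 b).trans ?_)
      rw [map_one, one_mul]
      rfl
    refine Submodule.mem_sup.2 ⟨Ψ b, ⟨b, rfl⟩, M - Ψ b, ?_, add_sub_cancel _ _⟩
    rw [Matrix.matrix_eq_sum_single (M - Ψ b)]
    refine Submodule.sum_mem _ fun i _ => Submodule.sum_mem _ fun j _ => ?_
    have hij : (M - Ψ b) i j ∈ q := by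
      rw [← Ideal.Quotient.eq_zero_iff_mem, Matrix.sub_apply, map_sub, sub_eq_zero]
      exact (congrFun (congrFun hb i) j).symm
    have := Submodule.smul_mem_smul hij (Submodule.mem_top :
      Matrix.single i j (1 : S) ∈ (⊤ : Submodule S (Matrix (Fin r) (Fin r) S)))
    simpa [Matrix.smul_single] using this

section Free

variable {R : Type u} [CommRing R] [IsLocalRing R] {A : Type v} [Ring A] [Algebra R A] [IsAzumaya R A]
  {E : Type w} [CommRing E] [Algebra R E] [Algebra.Etale R E] [Module.Finite R E] [Module.Free R E]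

/-- Left multiplication as an `E`-linear map of the right `E`-module `A`. -/
def mulLHom [Module E A] (u : E →ₐ[R] A) (hmod : ∀ (e : E) (a : A), e • a = a * u e) (a : A) :
    Module.End E A :=
  { toFun := fun x => a * x
    map_add' := mul_add a
    map_smul' := fun e x => by simp only [hmod, RingHom.id_apply, mul_assoc] }

/-- The action of `A` by left multiplication on the right `E`-module `A`. -/
def mulL [Module E A] (u : E →ₐ[R] A) (hmod : ∀ (e : E) (a : A), e • a = a * u e) :
    A →+* Module.End E A where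
  toFun := mulLHom u hmod
  map_one' := LinearMap.ext one_mul
  map_mul' a b := LinearMap.ext fun x => mul_assoc a b x
  map_zero' := LinearMap.ext zero_mul
  map_add' a b := LinearMap.ext fun x => add_mul a b x

omit [IsLocalRing R] [IsAzumaya R A] [Algebra.Etale R E] [Module.Finite R E] [Module.Free R E] in
theorem isScalarTower_of_hmod [Module E A] (u : E →ₐ[R] A) (hmod : ∀ (e : E) (a : A), e • a = a * u e) :
    IsScalarTower R E A :=
  ⟨fun r e a => by rw [hmod, hmod, map_smul, mul_smul_comm]⟩

omit [Module.Finite R E] [Module.Free R E] in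
theorem exists_lift_mod {r : ℕ} (hA : finrank R A = r ^ 2) (u : E →ₐ[R] A)
    (huinj : Function.Injective u) [Module E A]
    (hmod : ∀ (e : E) (a : A), e • a = a * u e) (q : Ideal E) [q.IsMaximal] :
    ∃ g : A →ₗ[E] (Fin r → E), LinearMap.range g ⊔ q • (⊤ : Submodule E (Fin r → E)) = ⊤ := by
  classical
  have := Et.free_of_azumaya (R := R) (A := A)
  have : IsScalarTower R E A := isScalarTower_of_hmod u hmod
  have : Module.Finite E A := Module.Finite.of_restrictScalars_finite R E A
  have : Module.Projective E A := Algebra.FormallyUnramified.projective_of_restrictScalars R E A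
  let _ : Field (E ⧸ q) := Ideal.Quotient.field q
  let N : Submodule E A := q • ⊤
  have hN : N ≠ ⊤ := by
    intro htop
    obtain ⟨e, he, he0⟩ := Submodule.exists_sub_one_mem_and_smul_eq_zero_of_fg_of_le_smul q ⊤
      Module.Finite.fg_top htop.ge
    have h1 := he0 1 Submodule.mem_top
    rw [hmod, one_mul] at h1
    rw [huinj (h1.trans (map_zero u).symm), zero_sub] at he
    exact (‹q.IsMaximal›).ne_top ((Ideal.eq_top_iff_one _).2 (by simpa using he))
  have : Nontrivial (A ⧸ N) := Submodule.Quotient.nontrivial_iff.2 hN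
  let act : A → Module.End (E ⧸ q) (A ⧸ q • (⊤ : Submodule E A)) := fun a =>
    { toFun := Submodule.mapQ N N (mulL u hmod a) (by
        intro x hx
        rw [Submodule.mem_comap]
        exact (Submodule.smul_top_le_comap_smul_top q (mulL u hmod a)) hx)
      map_add' := map_add _
      map_smul' := fun e x => by
        obtain ⟨e, rfl⟩ := Ideal.Quotient.mk_surjective e
        obtain ⟨x, rfl⟩ := Submodule.Quotient.mk_surjective _ x
        exact (congrArg _ (Submodule.Quotient.mk_smul N e x).symm).trans
          ((Submodule.mapQ_apply _ _ _ _).trans ((congrArg Submodule.Quotient.mk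
            (map_smul (mulL u hmod a) e x)).trans (Submodule.Quotient.mk_smul N e _))) }
  have hact : ∀ a x, act a (Submodule.Quotient.mk x) = Submodule.Quotient.mk (a * x) := fun a x => rfl
  have hV : IsScalarTower R (E ⧸ q) (A ⧸ q • (⊤ : Submodule E A)) := ⟨fun c e x => by
    obtain ⟨e, rfl⟩ := Ideal.Quotient.mk_surjective e
    obtain ⟨x, rfl⟩ := Submodule.Quotient.mk_surjective _ x
    show Submodule.Quotient.mk ((c • e) • x) = Submodule.Quotient.mk (c • e • x)
    rw [smul_assoc]⟩
  let actₐ : A →ₐ[R] Module.End (E ⧸ q) (A ⧸ q • (⊤ : Submodule E A)) :=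
    { toFun := act
      map_one' := LinearMap.ext fun x => by
        obtain ⟨x, rfl⟩ := Submodule.Quotient.mk_surjective _ x
        rw [hact, one_mul]; rfl
      map_mul' := fun a b => LinearMap.ext fun x => by
        obtain ⟨x, rfl⟩ := Submodule.Quotient.mk_surjective _ x
        rw [Module.End.mul_apply, hact, hact, hact, mul_assoc]
      map_zero' := LinearMap.ext fun x => by
        obtain ⟨x, rfl⟩ := Submodule.Quotient.mk_surjective _ x
        rw [hact, zero_mul]; rfl
      map_add' := fun a b => LinearMap.ext fun x => by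
        obtain ⟨x, rfl⟩ := Submodule.Quotient.mk_surjective _ x
        rw [LinearMap.add_apply, hact, hact, hact, add_mul]; rfl
      commutes' := fun c => LinearMap.ext fun x => by
        obtain ⟨x, rfl⟩ := Submodule.Quotient.mk_surjective _ x
        show act _ (Submodule.Quotient.mk x) = _
        rw [hact, ← Algebra.smul_def]; rfl }
  let φ := Algebra.TensorProduct.lift (Algebra.ofId (E ⧸ q) _) actₐ fun s b => Algebra.commutes s _
  obtain ⟨_, _⟩ := fibre_csa (R := R) (A := A) (E ⧸ q)
  have hφ : Function.Injective φ := CSALib.injective_algHom φ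
  have hdim : r ≤ finrank (E ⧸ q) (A ⧸ q • (⊤ : Submodule E A)) := by
    have h := LinearMap.finrank_le_finrank_of_injective (f := φ.toLinearMap) hφ
    rw [Et.fibre_finrank hA, Module.finrank_linearMap, ← sq] at h
    exact (Nat.pow_le_pow_iff_left two_ne_zero).1 h
  let bV := Module.finBasis (E ⧸ q) (A ⧸ q • (⊤ : Submodule E A))
  let sq' : (A ⧸ q • (⊤ : Submodule E A)) →ₗ[E ⧸ q] (Fin r → E ⧸ q) :=
    LinearMap.pi fun i => bV.coord (Fin.castLE hdim i)
  have hsq : Function.Surjective sq' := fun c => by
    refine ⟨∑ i, c i • bV (Fin.castLE hdim i), ?_⟩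
    funext j
    simp [sq', Finsupp.single_apply, (Fin.castLE_injective hdim).eq_iff]
  let pr : (Fin r → E) →ₗ[E] (Fin r → E ⧸ q) :=
    LinearMap.pi fun i => (Submodule.mkQ q).comp (LinearMap.proj i)
  have hpr : Function.Surjective pr := fun c => by
    choose d hd using fun i => Ideal.Quotient.mk_surjective (c i)
    exact ⟨d, funext hd⟩
  obtain ⟨g, hg⟩ := Module.projective_lifting_property pr
    ((sq'.restrictScalars E).comp (Submodule.mkQ N)) hpr
  refine ⟨g, eq_top_iff.2 fun c _ => ?_⟩
  obtain ⟨y, hy⟩ := hsq (pr c)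
  obtain ⟨x, rfl⟩ := Submodule.Quotient.mk_surjective _ y
  refine Submodule.mem_sup.2 ⟨g x, ⟨x, rfl⟩, c - g x, ?_, add_sub_cancel _ _⟩
  have h0 : ∀ i, (c - g x) i ∈ q := fun i => by
    have h1 : pr (g x) = pr c := (LinearMap.congr_fun hg x).trans hy
    rw [← Ideal.Quotient.eq_zero_iff_mem, Pi.sub_apply, map_sub, sub_eq_zero]
    exact (congrFun h1 i).symm
  rw [pi_eq_sum_univ' (c - g x)]
  exact Submodule.sum_mem _ fun i _ => Submodule.smul_mem_smul (h0 i) Submodule.mem_top

theorem free_and_split {r : ℕ} (hA : finrank R A = r ^ 2) (hE : finrank R E = r) (u : E →ₐ[R] A)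
    (hu : Function.Injective (u.toLinearMap.lTensor (ResidueField R))) [Module E A]
    (hmod : ∀ (e : E) (a : A), e • a = a * u e) :
    Module.Free E A ∧ finrank E A = r ∧ Nonempty ((E ⊗[R] A) ≃ₐ[E] Module.End E A) := by
  classical
  have := Et.free_of_azumaya (R := R) (A := A)
  have : IsScalarTower R E A := isScalarTower_of_hmod u hmod
  have : Module.Finite E A := Module.Finite.of_restrictScalars_finite R E A
  have : Module.Projective E A := Algebra.FormallyUnramified.projective_of_restrictScalars R E A
  have : Nontrivial A := (FaithfulSMul.algebraMap_injective R A).nontrivial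
  have hr : 0 < r := by
    rcases Nat.eq_zero_or_pos r with rfl | h
    · have : 0 < finrank R A := (Module.finrank_pos_iff_of_free R A).2 inferInstance
      omega
    · exact h
  obtain ⟨σ, hσ⟩ := (split_injective_iff_lTensor_residueField_injective u.toLinearMap).2 hu
  have huinj : Function.Injective u :=
    Function.LeftInverse.injective (g := σ) (LinearMap.congr_fun hσ)
  have hlift := exists_lift_mod hA u huinj hmod
  have : Finite (MaximalSpectrum E) := Et.finite_maximal (R := R) E
  let _ : Fintype (MaximalSpectrum E) := Fintype.ofFinite _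
  choose g hg using hlift
  have hcop : Pairwise fun p q : MaximalSpectrum E => IsCoprime p.asIdeal q.asIdeal := fun p q h =>
    Ideal.isCoprime_of_isMaximal fun h' => h (MaximalSpectrum.ext h')
  choose ε hε using fun q : MaximalSpectrum E =>
    (Ideal.quotientInfToPiQuotient_surj hcop) (Pi.single q 1)
  choose ε' hε' using fun q => Ideal.Quotient.mk_surjective (ε q)
  let G : A →ₗ[E] (Fin r → E) := ∑ q : MaximalSpectrum E, ε' q • @g q.asIdeal q.isMaximal
  have hGsurj : Function.Surjective G := surjective_of_quotients G fun q hq => by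
    refine eq_top_iff.2 ((@hg q hq).symm.le.trans (sup_le ?_ le_sup_right))
    rintro _ ⟨x, rfl⟩
    refine Submodule.mem_sup.2 ⟨G x, ⟨x, rfl⟩, g q x - G x, ?_, add_sub_cancel _ _⟩
    have key : ∀ p : MaximalSpectrum E,
        Ideal.Quotient.mk q (ε' p) = if p = ⟨q, hq⟩ then 1 else 0 := fun p => by
      have h := congrFun (hε p) ⟨q, hq⟩
      rw [← hε' p, Ideal.quotientInfToPiQuotient_mk'] at h
      by_cases hp : p = ⟨q, hq⟩
      · subst hp
        rw [if_pos rfl]
        exact h.trans (Pi.single_eq_same _ _)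
      · rw [if_neg hp]
        exact h.trans (Pi.single_eq_of_ne (Ne.symm hp) _)
    have hco : ∀ i, (g q x - G x) i ∈ q := fun i => by
      rw [← Ideal.Quotient.eq_zero_iff_mem]
      simp [G, LinearMap.sum_apply, Finset.sum_apply, key]
    rw [pi_eq_sum_univ' (g q x - G x)]
    exact Submodule.sum_mem _ fun i _ => Submodule.smul_mem_smul (hco i) Submodule.mem_top
  obtain ⟨s, hs⟩ := Module.projective_lifting_property G LinearMap.id hGsurj
  have hGinj : Function.Injective G := by
    let GR := G.restrictScalars R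
    have hrk : finrank R A = finrank R (Fin r → E) := by
      rw [hA, Module.finrank_pi_fintype, Finset.sum_const, Finset.card_univ, Fintype.card_fin, hE,
        smul_eq_mul, sq]
    let e := LinearEquiv.ofFinrankEq A (Fin r → E) hrk
    have : Function.Injective (GR.comp e.symm.toLinearMap) :=
      OrzechProperty.injective_of_surjective_endomorphism _ (hGsurj.comp e.symm.surjective)
    exact (Function.Injective.of_comp_iff' _ e.symm.bijective).1 this
  let b : Basis (Fin r) E A := Basis.ofEquivFun (LinearEquiv.ofBijective G ⟨hGinj, hGsurj⟩)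
  have : Module.Free E A := Module.Free.of_basis b
  have : Nontrivial E := Module.nontrivial_of_finrank_pos (R := R) (hE.symm ▸ hr : 0 < finrank R E)
  refine ⟨inferInstance, by rw [finrank_eq_card_basis b, Fintype.card_fin], ?_⟩
  let L : A →ₐ[R] Module.End E A :=
    { mulL u hmod with
      commutes' := fun c => LinearMap.ext fun x => (Algebra.smul_def c x).symm }
  let Φ : E ⊗[R] A →ₐ[E] Module.End E A :=
    Algebra.TensorProduct.lift (Algebra.ofId E _) L fun s b => Algebra.commutes s _
  have := isAzumaya_baseChange (R := R) (A := A) E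
  have hrk : ∀ (q : Ideal E) [q.IsMaximal], finrank (E ⧸ q) ((E ⧸ q) ⊗[E] (E ⊗[R] A)) = r ^ 2 := by
    intro q hq
    have : Nontrivial E := (Ideal.Quotient.mk_surjective (I := q)).nontrivial
    let _ : Field (E ⧸ q) := Ideal.Quotient.field q
    rw [Module.finrank_baseChange, Module.finrank_baseChange, hA]
  have hbij := bijective_to_matrix hr hrk ((algEquivMatrix b).toAlgHom.comp Φ)
  exact ⟨AlgEquiv.ofBijective Φ ((Function.Bijective.of_comp_iff' (algEquivMatrix b).bijective Φ).1 hbij)⟩

end Free

end AzumayaLib.Spl
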