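import Mathlib

/-!
# Azumaya algebras by dual bases
-/

set_option autoImplicit false

universe u v w x

open scoped TensorProduct
open MulOpposite

namespace AzumayaLib

variable (R : Type u) [CommRing R] (A : Type v) [Ring A] [Algebra R A]

/-- Certificate that `mulLeftRight` is bijective. -/
structure Data where
  /-- index -/
  n : ℕ
  /-- generators -/
  a : Fin n → A
  /-- coordinates -/
  f : Fin n → (A →ₗ[R] R)
  /-- preimages -/
  t : Fin n → A ⊗[R] Aᵐᵒᵖ
  sum_eq : ∀ x, ∑ i, f i x • a i = x
  mu_t : ∀ i x, AlgHom.mulLeftRight R A (t i) x = f i x • 1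
  left : ∀ b, ∑ i, ((a i * b) ⊗ₜ[R] (1 : Aᵐᵒᵖ)) * t i = 1 ⊗ₜ[R] op b

variable {R A}

theorem exists_data [h : IsAzumaya R A] : Nonempty (Data R A) := by
  obtain ⟨n, p, g, -, -, hpg⟩ := Module.Finite.exists_comp_eq_id_of_projective R A
  let a : Fin n → A := fun i => p (Pi.single i 1)
  let f : Fin n → (A →ₗ[R] R) := fun i => (LinearMap.proj i).comp g
  have hsum : ∀ x, ∑ i, f i x • a i = x := fun x => by
    conv_rhs => rw [← LinearMap.id_apply (R := R) x, ← hpg, LinearMap.comp_apply, pi_eq_sum_univ' (g x),
      map_sum]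
    exact Finset.sum_congr rfl fun i _ => (map_smul p _ _).symm
  choose t ht using fun i => h.bij.2 (LinearMap.smulRight (f i) (1 : A))
  have hmu : ∀ i x, AlgHom.mulLeftRight R A (t i) x = f i x • 1 := fun i x => by
    rw [ht, LinearMap.smulRight_apply]
  refine ⟨⟨n, a, f, t, hsum, hmu, fun b => h.bij.1 (LinearMap.ext fun x => ?_)⟩⟩
  simp only [map_sum, LinearMap.sum_apply, map_mul, Module.End.mul_apply, hmu, AlgHom.mulLeftRight_apply,
    unop_op, unop_one, mul_one, one_mul, mul_smul_comm, ← smul_mul_assoc, ← Finset.sum_mul, hsum]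

theorem Data.projective (D : Data R A) : Module.Projective R A ∧ Module.Finite R A := by
  let g : A →ₗ[R] (Fin D.n → R) := LinearMap.pi D.f
  let p : (Fin D.n → R) →ₗ[R] A := Fintype.linearCombination R D.a
  have h : p.comp g = LinearMap.id := LinearMap.ext fun x => by
    simp [p, g, Fintype.linearCombination_apply, D.sum_eq]
  exact ⟨Module.Projective.of_split g p h, Module.Finite.of_surjective p fun x => ⟨g x, LinearMap.congr_fun h x⟩⟩

theorem Data.bijective (D : Data R A) : Function.Bijective (AlgHom.mulLeftRight R A) := by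
  let L : Module.End R A → A ⊗[R] Aᵐᵒᵖ := fun φ => ∑ i, ((φ (D.a i)) ⊗ₜ[R] (1 : Aᵐᵒᵖ)) * D.t i
  have hL : ∀ φ, AlgHom.mulLeftRight R A (L φ) = φ := fun φ => LinearMap.ext fun x => by
    conv_rhs => rw [← D.sum_eq x]
    simp [L, D.mu_t]
  have hL' : ∀ z, L (AlgHom.mulLeftRight R A z) = z := fun z => by
    induction z with
    | zero => simp [L]
    | add p q hp hq =>
      simp only [L, map_add, LinearMap.add_apply, TensorProduct.add_tmul, add_mul, Finset.sum_add_distrib]
        at hp hq ⊢
      rw [hp, hq]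
    | tmul c b =>
      have h := congrArg ((c ⊗ₜ[R] (1 : Aᵐᵒᵖ)) * ·) (D.left b.unop)
      simp only [Finset.mul_sum, ← mul_assoc, Algebra.TensorProduct.tmul_mul_tmul, one_mul, mul_one,
        op_unop] at h
      simpa [L, mul_assoc] using h
  exact ⟨(Function.LeftInverse.injective hL'), fun φ => ⟨L φ, hL φ⟩⟩

theorem Data.isAzumaya (D : Data R A) (h : Function.Injective (algebraMap R A)) : IsAzumaya R A :=
  have := D.projective.1
  have := D.projective.2
  have : FaithfulSMul R A := (faithfulSMul_iff_algebraMap_injective R A).2 h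
  ⟨D.bijective⟩

/-- A retraction of the structure map from functionals whose values at 1 generate. -/
theorem exists_retraction_of_span {ι : Type w} (f : ι → (A →ₗ[R] R))
    (h : Ideal.span (Set.range fun i => f i 1) = ⊤) : ∃ ρ : A →ₗ[R] R, ρ 1 = 1 := by
  obtain ⟨c, hc⟩ := Finsupp.mem_span_range_iff_exists_finsupp.1 ((Ideal.eq_top_iff_one _).1 h)
  exact ⟨c.sum fun i r => r • f i, by simpa [Finsupp.sum] using hc⟩

theorem exists_retraction [Module.Projective R A] [Module.Finite R A]
    (h : Function.Injective (algebraMap R A)) : ∃ ρ : A →ₗ[R] R, ρ 1 = 1 := by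
  refine exists_retraction_of_span (fun f : A →ₗ[R] R => f) ?_
  by_contra hne
  obtain ⟨m, hm, hle⟩ := Ideal.exists_le_maximal _ hne
  obtain ⟨n, p, g, -, -, hpg⟩ := Module.Finite.exists_comp_eq_id_of_projective R A
  have h1 : (1 : A) ∈ m • (⊤ : Submodule R A) := by
    rw [show (1 : A) = ∑ i, g 1 i • p (Pi.single i 1) by
      conv_lhs => rw [← LinearMap.id_apply (R := R) (1 : A), ← hpg, LinearMap.comp_apply,
        pi_eq_sum_univ' (g 1), map_sum]
      exact Finset.sum_congr rfl fun i _ => map_smul p _ _]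
    exact Submodule.sum_mem _ fun i _ => Submodule.smul_mem_smul
      (hle (Ideal.subset_span ⟨(LinearMap.proj i).comp g, rfl⟩)) Submodule.mem_top
  have htop : (⊤ : Submodule R A) ≤ m • ⊤ := fun x _ => by
    have := Submodule.mem_map_of_mem (f := LinearMap.mulLeft R x) h1
    rw [Submodule.map_smul'', LinearMap.mulLeft_apply, mul_one] at this
    exact (smul_mono_right m le_top : m • _ ≤ m • (⊤ : Submodule R A)) this
  obtain ⟨r, hr, hr0⟩ := Submodule.exists_sub_one_mem_and_smul_eq_zero_of_fg_of_le_smul m ⊤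
    Module.Finite.fg_top htop
  have : r = 0 := h (by rw [map_zero, Algebra.algebraMap_eq_smul_one]; exact hr0 1 Submodule.mem_top)
  subst this
  exact hm.ne_top ((Ideal.eq_top_iff_one _).2 (by simpa using m.neg_mem hr))

theorem injective_of_retraction (ρ : A →ₗ[R] R) (h : ρ 1 = 1) : Function.Injective (algebraMap R A) :=
  Function.LeftInverse.injective (g := ρ) fun r => by
    rw [Algebra.algebraMap_eq_smul_one, map_smul, h, smul_eq_mul, mul_one]

theorem exists_retraction' [h : IsAzumaya R A] : ∃ ρ : A →ₗ[R] R, ρ 1 = 1 :=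
  exists_retraction (FaithfulSMul.algebraMap_injective R A)

section BaseChange

variable (S : Type w) [CommRing S] [Algebra R S]

variable (R A) in
/-- The comparison map for enveloping algebras. -/
noncomputable def envBaseChange : A ⊗[R] Aᵐᵒᵖ →ₐ[R] (S ⊗[R] A) ⊗[S] (S ⊗[R] A)ᵐᵒᵖ :=
  Algebra.TensorProduct.lift
    (((Algebra.TensorProduct.includeLeft : (S ⊗[R] A) →ₐ[S] _).restrictScalars R).comp
      Algebra.TensorProduct.includeRight)
    (((Algebra.TensorProduct.includeRight : (S ⊗[R] A)ᵐᵒᵖ →ₐ[S] _).restrictScalars R).comp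
      (AlgHom.op (Algebra.TensorProduct.includeRight : A →ₐ[R] S ⊗[R] A)))
    fun _ _ => ((Commute.one_right _).tmul (Commute.one_left _))

theorem envBaseChange_tmul (a : A) (b : Aᵐᵒᵖ) :
    envBaseChange R A S (a ⊗ₜ b) = ((1 : S) ⊗ₜ[R] a) ⊗ₜ[S] op ((1 : S) ⊗ₜ[R] b.unop) := by
  refine (Algebra.TensorProduct.lift_tmul _ _
    (fun _ _ => ((Commute.one_right _).tmul (Commute.one_left _))) a b).trans ?_
  simp

/-- Base change of the certificate. -/
noncomputable def Data.baseChange (D : Data R A) : Data S (S ⊗[R] A) where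
  n := D.n
  a i := (1 : S) ⊗ₜ D.a i
  f i := (TensorProduct.AlgebraTensorModule.rid R S S).toLinearMap ∘ₗ (D.f i).baseChange S
  t i := envBaseChange R A S (D.t i)
  sum_eq z := by
    induction z with
    | zero => simp
    | add p q hp hq => simp only [map_add, add_smul, Finset.sum_add_distrib, hp, hq]
    | tmul s x =>
      conv_rhs => rw [← D.sum_eq x, TensorProduct.tmul_sum]
      refine Finset.sum_congr rfl fun i _ => ?_
      simp [TensorProduct.smul_tmul']
  mu_t i z := by
    induction z with
    | zero => simp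
    | add p q hp hq => simp only [map_add, add_smul, hp, hq]
    | tmul s x =>
      have key : ∀ w, AlgHom.mulLeftRight S (S ⊗[R] A) (envBaseChange R A S w) (s ⊗ₜ[R] x) =
          s ⊗ₜ[R] (AlgHom.mulLeftRight R A w x) := fun w => by
        induction w with
        | zero => simp
        | add p q hp hq => simp only [map_add, LinearMap.add_apply, hp, hq, TensorProduct.tmul_add]
        | tmul a b => simp [envBaseChange_tmul]
      rw [key, D.mu_t]
      simp [Algebra.TensorProduct.one_def, TensorProduct.smul_tmul']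
  left z := by
    induction z with
    | zero => simp
    | add p q hp hq =>
      simp only [mul_add, TensorProduct.add_tmul, add_mul, Finset.sum_add_distrib, hp, hq, op_add,
        TensorProduct.tmul_add]
    | tmul s b =>
      have h := congrArg (fun w => s • envBaseChange R A S w) (D.left b)
      simp only [map_sum, map_mul, envBaseChange_tmul, Finset.smul_sum, ← smul_mul_assoc, unop_one,
        unop_op, ← Algebra.TensorProduct.one_def, op_one] at h
      have hs : (s ⊗ₜ[R] b : S ⊗[R] A) = s • ((1 : S) ⊗ₜ[R] b) := by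
        rw [TensorProduct.smul_tmul', smul_eq_mul, mul_one]
      rw [hs, op_smul, TensorProduct.tmul_smul, ← h]
      refine Finset.sum_congr rfl fun i _ => ?_
      rw [← hs]
      simp [TensorProduct.smul_tmul']

theorem isAzumaya_baseChange [IsAzumaya R A] : IsAzumaya S (S ⊗[R] A) := by
  obtain ⟨D⟩ := exists_data (R := R) (A := A)
  obtain ⟨ρ, hρ⟩ := exists_retraction' (R := R) (A := A)
  refine (D.baseChange S).isAzumaya (injective_of_retraction
    ((TensorProduct.AlgebraTensorModule.rid R S S).toLinearMap ∘ₗ ρ.baseChange S) ?_)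
  simp [Algebra.TensorProduct.one_def, hρ]

end BaseChange

section Tensor

variable {B : Type w} [Ring B] [Algebra R B]

variable (R A B) in
/-- The comparison map of enveloping algebras for a tensor product. -/
noncomputable def envTensor :
    (A ⊗[R] Aᵐᵒᵖ) ⊗[R] (B ⊗[R] Bᵐᵒᵖ) →ₐ[R] (A ⊗[R] B) ⊗[R] (A ⊗[R] B)ᵐᵒᵖ :=
  (Algebra.TensorProduct.map (AlgHom.id R _) (Algebra.TensorProduct.opAlgEquiv R R A B).toAlgHom).comp
    (Algebra.TensorProduct.tensorTensorTensorComm R R R R A Aᵐᵒᵖ B Bᵐᵒᵖ).toAlgHom

theorem envTensor_tmul (a : A) (a' : Aᵐᵒᵖ) (b : B) (b' : Bᵐᵒᵖ) :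
    envTensor R A B ((a ⊗ₜ a') ⊗ₜ (b ⊗ₜ b')) = (a ⊗ₜ b) ⊗ₜ op (a'.unop ⊗ₜ b'.unop) := by
  simp [envTensor]

/-- The certificate of a tensor product. -/
noncomputable def Data.tensor (D : Data R A) (E : Data R B) : Data R (A ⊗[R] B) where
  n := D.n * E.n
  a p := D.a (finProdFinEquiv.symm p).1 ⊗ₜ E.a (finProdFinEquiv.symm p).2
  f p := (TensorProduct.lid R R).toLinearMap ∘ₗ
    TensorProduct.map (D.f (finProdFinEquiv.symm p).1) (E.f (finProdFinEquiv.symm p).2)
  t p := envTensor R A B (D.t (finProdFinEquiv.symm p).1 ⊗ₜ E.t (finProdFinEquiv.symm p).2)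
  sum_eq z := by
    rw [← finProdFinEquiv.sum_comp]
    simp only [Equiv.symm_apply_apply, Fintype.sum_prod_type]
    induction z with
    | zero => simp
    | add p q hp hq => simp only [map_add, add_smul, Finset.sum_add_distrib, hp, hq]
    | tmul x y =>
      conv_rhs => rw [← D.sum_eq x, ← E.sum_eq y]
      simp [TensorProduct.sum_tmul, TensorProduct.tmul_sum, TensorProduct.smul_tmul', smul_smul]
      rw [Finset.sum_comm]
      refine Finset.sum_congr rfl fun j _ => ?_
      rw [Finset.smul_sum]
      exact Finset.sum_congr rfl fun i _ => by rw [TensorProduct.smul_tmul', smul_smul, mul_comm]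
  mu_t p z := by
    induction z with
    | zero => simp
    | add p q hp hq => simp only [map_add, add_smul, hp, hq]
    | tmul x y =>
      have key : ∀ w w', AlgHom.mulLeftRight R (A ⊗[R] B) (envTensor R A B (w ⊗ₜ w')) (x ⊗ₜ[R] y) =
          AlgHom.mulLeftRight R A w x ⊗ₜ[R] AlgHom.mulLeftRight R B w' y := fun w w' => by
        induction w with
        | zero => simp
        | add p q hp hq => simp only [TensorProduct.add_tmul, map_add, LinearMap.add_apply, hp, hq]
        | tmul a a' =>
          induction w' with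
          | zero => simp
          | add p q hp hq => simp only [TensorProduct.tmul_add, map_add, LinearMap.add_apply, hp, hq]
          | tmul b b' => simp [envTensor_tmul]
      rw [key, D.mu_t, E.mu_t]
      simp [Algebra.TensorProduct.one_def, TensorProduct.smul_tmul', TensorProduct.tmul_smul, smul_smul]
      ring_nf
  left z := by
    rw [← finProdFinEquiv.sum_comp]
    simp only [Equiv.symm_apply_apply, Fintype.sum_prod_type]
    induction z with
    | zero => simp
    | add p q hp hq =>
      simp only [mul_add, TensorProduct.add_tmul, add_mul, Finset.sum_add_distrib, hp, hq, op_add,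
        TensorProduct.tmul_add]
    | tmul x y =>
      have h := congrArg₂ (fun w w' => envTensor R A B (w ⊗ₜ[R] w')) (D.left x) (E.left y)
      simp only [TensorProduct.sum_tmul, TensorProduct.tmul_sum, map_sum,
        ← Algebra.TensorProduct.tmul_mul_tmul, map_mul, envTensor_tmul, unop_one, unop_op,
        ← Algebra.TensorProduct.one_def, op_one] at h
      rw [← h]
      simp [Algebra.TensorProduct.tmul_mul_tmul]
      rw [Finset.sum_comm]

theorem isAzumaya_tensor [IsAzumaya R A] [IsAzumaya R B] : IsAzumaya R (A ⊗[R] B) := by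
  obtain ⟨D⟩ := exists_data (R := R) (A := A)
  obtain ⟨E⟩ := exists_data (R := R) (A := B)
  obtain ⟨ρ, hρ⟩ := exists_retraction' (R := R) (A := A)
  obtain ⟨σ, hσ⟩ := exists_retraction' (R := R) (A := B)
  refine (D.tensor E).isAzumaya (injective_of_retraction
    ((TensorProduct.lid R R).toLinearMap ∘ₗ TensorProduct.map ρ σ) ?_)
  simp [Algebra.TensorProduct.one_def, hρ, hσ]

end Tensor

end AzumayaLib
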