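import Groth.Agent.AzumayaLib.End

/-!
# Corners of Azumaya algebras
-/

set_option autoImplicit false

universe u v w

open scoped TensorProduct
open MulOpposite

namespace AzumayaLib.Cr

variable (R : Type u) [CommRing R] {A : Type v} [Ring A] [Algebra R A] (e : A) [he : Fact (IsIdempotentElem e)]

/-- The map `x ↦ e x e`. -/
def sw : A →ₗ[R] A := (LinearMap.mulLeft R e).comp (LinearMap.mulRight R e)

omit he in
theorem sw_apply (x : A) : sw R e x = e * (x * e) := rfl

/-- The corner `e A e`. -/
def Cor : Type v := LinearMap.range (sw R e)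

variable {R e}

/-- The inclusion. -/
def val (b : Cor R e) : A := Subtype.val b

omit he in
theorem val_injective : Function.Injective (val (R := R) (e := e)) := Subtype.val_injective

theorem e_mul (b : Cor R e) : e * val b = val b := by
  obtain ⟨x, hx⟩ := (show val b ∈ LinearMap.range (sw R e) from Subtype.prop _)
  rw [← hx, sw_apply, ← mul_assoc e e, he.out.eq]

theorem mul_e (b : Cor R e) : val b * e = val b := by
  obtain ⟨x, hx⟩ := (show val b ∈ LinearMap.range (sw R e) from Subtype.prop _)
  rw [← hx, sw_apply, mul_assoc, mul_assoc x, he.out.eq]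

instance : AddCommGroup (Cor R e) := inferInstanceAs (AddCommGroup (LinearMap.range (sw R e)))

instance : Module R (Cor R e) := inferInstanceAs (Module R (LinearMap.range (sw R e)))

variable (R e) in
/-- The compression. -/
def proj : A →ₗ[R] Cor R e := (sw R e).rangeRestrict

omit he in
theorem val_proj (x : A) : val (proj R e x) = e * (x * e) := rfl

theorem proj_val (b : Cor R e) : proj R e (val b) = b :=
  val_injective (by rw [val_proj, mul_e, e_mul])

omit he in
theorem val_add (a b : Cor R e) : val (a + b) = val a + val b := rfl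

omit he in
theorem val_smul (c : R) (b : Cor R e) : val (c • b) = c • val b := rfl

omit he in
theorem val_zero : val (0 : Cor R e) = 0 := rfl

instance : Mul (Cor R e) := ⟨fun a b => proj R e (val a * val b)⟩

instance : One (Cor R e) := ⟨proj R e 1⟩

theorem val_mul (a b : Cor R e) : val (a * b) = val a * val b := by
  show e * (val a * val b * e) = _
  rw [mul_assoc, mul_e, ← mul_assoc, e_mul]

theorem val_one : val (1 : Cor R e) = e := by
  show e * (1 * e) = e
  rw [one_mul, he.out.eq]

instance : Ring (Cor R e) :=
  { (inferInstance : AddCommGroup (Cor R e)), (inferInstance : Mul (Cor R e)), (inferInstance : One (Cor R e)) with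
    mul_assoc := fun a b c => val_injective (by simp only [val_mul, mul_assoc])
    one_mul := fun a => val_injective (by rw [val_mul, val_one, e_mul])
    mul_one := fun a => val_injective (by rw [val_mul, val_one, mul_e])
    left_distrib := fun a b c => val_injective (by simp only [val_mul, val_add, mul_add])
    right_distrib := fun a b c => val_injective (by simp only [val_mul, val_add, add_mul])
    zero_mul := fun a => val_injective (by simp only [val_mul, val_zero, zero_mul])
    mul_zero := fun a => val_injective (by simp only [val_mul, val_zero, mul_zero]) }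

instance : Algebra R (Cor R e) :=
  Algebra.ofModule
    (fun c a b => val_injective (by simp only [val_mul, val_smul, smul_mul_assoc]))
    (fun c a b => val_injective (by simp only [val_mul, val_smul, mul_smul_comm]))

/-- The inclusion as a linear map. -/
def valL : Cor R e →ₗ[R] A := (LinearMap.range (sw R e)).subtype

theorem valL_apply (b : Cor R e) : valL b = val b := rfl

theorem proj_comp_valL : (proj R e).comp valL = LinearMap.id := LinearMap.ext proj_val

variable [IsAzumaya R A]

theorem finite_projective : Module.Finite R (Cor R e) ∧ Module.Projective R (Cor R e) :=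
  ⟨Module.Finite.of_surjective (proj R e) fun b => ⟨val b, proj_val b⟩,
    Module.Projective.of_split valL (proj R e) proj_comp_valL⟩

theorem exists_functional [ConnectedSpace (PrimeSpectrum R)] (hne : e ≠ 0) : ∃ ρ : A →ₗ[R] R, ρ e = 1 := by
  obtain ⟨n, p, g, -, -, hpg⟩ := Module.Finite.exists_comp_eq_id_of_projective R A
  have hspan : Ideal.span (Set.range fun i : Fin n => g e i) = ⊤ := by
    by_contra hspan
    obtain ⟨m, hm, hle⟩ := Ideal.exists_le_maximal _ hspan
    refine hne (idempotent_eq_zero (R := R) he.out m.ResidueField ?_)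
    conv_lhs => rw [← LinearMap.id_apply (R := R) e, ← hpg, LinearMap.comp_apply, pi_eq_sum_univ' (g e),
      map_sum, TensorProduct.tmul_sum]
    refine Finset.sum_eq_zero fun i _ => ?_
    rw [map_smul, TensorProduct.tmul_smul, ← IsScalarTower.algebraMap_smul m.ResidueField,
      Ideal.algebraMap_residueField_eq_zero.2 (hle (Ideal.subset_span ⟨i, rfl⟩)), zero_smul]
  obtain ⟨c, hc⟩ := (Ideal.mem_span_range_iff_exists_fun).1 ((Ideal.eq_top_iff_one _).1 hspan)
  refine ⟨∑ i, c i • (LinearMap.proj i).comp g, ?_⟩
  simpa [LinearMap.sum_apply] using hc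

theorem isAzumaya_cor [ConnectedSpace (PrimeSpectrum R)] (hne : e ≠ 0) : IsAzumaya R (Cor R e) := by
  obtain ⟨_, _⟩ := finite_projective (R := R) (e := e)
  obtain ⟨ρ, hρ⟩ := exists_functional (R := R) hne
  have : FaithfulSMul R (Cor R e) := (faithfulSMul_iff_algebraMap_injective R _).2 <|
    injective_of_retraction (ρ.comp valL) (by rw [LinearMap.comp_apply, valL_apply, val_one, hρ])
  refine { bij := ?_ }
  constructor
  · rw [injective_iff_map_eq_zero]
    intro z hz
    let incl : Cor R e ⊗[R] (Cor R e)ᵐᵒᵖ →ₗ[R] A ⊗[R] Aᵐᵒᵖ := TensorProduct.map valL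
      ((opLinearEquiv R).toLinearMap.comp (valL.comp (opLinearEquiv R).symm.toLinearMap))
    let back : A ⊗[R] Aᵐᵒᵖ →ₗ[R] Cor R e ⊗[R] (Cor R e)ᵐᵒᵖ := TensorProduct.map (proj R e)
      ((opLinearEquiv R).toLinearMap.comp ((proj R e).comp (opLinearEquiv R).symm.toLinearMap))
    have hback : ∀ w, back (incl w) = w := fun w => by
      induction w with
      | zero => simp
      | add a b ha hb => rw [map_add, map_add, ha, hb]
      | tmul a b => simp [incl, back, valL_apply, proj_val]
    have key : ∀ w x, AlgHom.mulLeftRight R A (incl w) x =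
        val (AlgHom.mulLeftRight R (Cor R e) w (proj R e x)) := fun w x => by
      induction w with
      | zero => simp [val_zero]
      | add a b ha hb => simp only [map_add, LinearMap.add_apply, val_add, ha, hb]
      | tmul a b =>
        rw [show incl (a ⊗ₜ b) = val a ⊗ₜ op (val b.unop) from rfl, AlgHom.mulLeftRight_apply,
          AlgHom.mulLeftRight_apply, val_mul, val_mul, val_proj, unop_op,
          show val a * (e * (x * e)) * val b.unop = val a * e * x * (e * val b.unop) by simp only [mul_assoc],
          mul_e, e_mul]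
    have h0 : incl z = 0 := (IsAzumaya.bij (R := R) (A := A)).1 (LinearMap.ext fun x => by
      rw [key, hz, map_zero, LinearMap.zero_apply, LinearMap.zero_apply, val_zero])
    rw [← hback z, h0, map_zero]
  · intro φ
    obtain ⟨w, hw⟩ := (IsAzumaya.bij (R := R) (A := A)).2 (valL.comp (φ.comp (proj R e)))
    refine ⟨TensorProduct.map (proj R e)
      ((opLinearEquiv R).toLinearMap.comp ((proj R e).comp (opLinearEquiv R).symm.toLinearMap)) w, ?_⟩
    refine LinearMap.ext fun b => val_injective ?_
    have key : ∀ w, val (AlgHom.mulLeftRight R (Cor R e) (TensorProduct.map (proj R e)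
        ((opLinearEquiv R).toLinearMap.comp ((proj R e).comp (opLinearEquiv R).symm.toLinearMap)) w) b) =
        e * AlgHom.mulLeftRight R A w (val b) * e := fun w => by
      induction w with
      | zero => simp [val_zero]
      | add a b ha hb => simp only [map_add, LinearMap.add_apply, val_add, ha, hb, mul_add, add_mul]
      | tmul a c =>
        rw [TensorProduct.map_tmul, AlgHom.mulLeftRight_apply, AlgHom.mulLeftRight_apply]
        show val (proj R e a * b * proj R e c.unop) = _
        rw [val_mul, val_mul, val_proj, val_proj]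
        conv_lhs => rw [show e * (a * e) * val b * (e * (c.unop * e)) =
          e * a * (e * val b) * e * c.unop * e by simp only [mul_assoc]]
        rw [e_mul, mul_assoc (e * a) (val b) e, mul_e]
        simp only [mul_assoc]
    rw [key, hw, LinearMap.comp_apply, LinearMap.comp_apply, valL_apply, proj_val, e_mul, mul_e]

/-- The module `e A`. -/
abbrev Row (R : Type u) [CommRing R] {A : Type v} [Ring A] [Algebra R A] (e : A) : Submodule R A :=
  LinearMap.range (LinearMap.mulLeft R e)

omit [IsAzumaya R A] in
theorem e_mul_row (x : Row R e) : e * (x : A) = x := by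
  obtain ⟨y, hy⟩ := x.2
  rw [← hy, LinearMap.mulLeft_apply, ← mul_assoc, he.out.eq]

theorem row_props [ConnectedSpace (PrimeSpectrum R)] (hne : e ≠ 0) :
    Module.Finite R (Row R e) ∧ Module.Projective R (Row R e) ∧ FaithfulSMul R (Row R e) := by
  obtain ⟨ρ, hρ⟩ := exists_functional (R := R) hne
  have hsplit : (LinearMap.mulLeft R e).rangeRestrict.comp (Row R e).subtype = LinearMap.id :=
    LinearMap.ext fun x => Subtype.ext (e_mul_row x)
  refine ⟨inferInstance, Module.Projective.of_split _ _ hsplit, ⟨fun {a b} h => ?_⟩⟩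
  have h1 := congrArg (fun y : Row R e => ρ (y : A)) (h ⟨e, 1, mul_one e⟩)
  simpa [hρ] using h1

/-- `Aᵒᵖ ⊗ eAe → End (eA)`. -/
noncomputable def act : Cor R e ⊗[R] Aᵐᵒᵖ →ₐ[R] Module.End R (Row R e) :=
  Algebra.TensorProduct.lift
    (AlgHom.ofLinearMap
      { toFun := fun b => (LinearMap.mulLeft R (val b)).restrict (p := Row R e) (q := Row R e)
          (fun x _ => ⟨val b * x, by rw [LinearMap.mulLeft_apply, LinearMap.mulLeft_apply, ← mul_assoc, e_mul]⟩)
        map_add' := fun a b => LinearMap.ext fun x => Subtype.ext (add_mul (val a) (val b) _)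
        map_smul' := fun c b => LinearMap.ext fun x => Subtype.ext (smul_mul_assoc c (val b) _) }
      (LinearMap.ext fun x => Subtype.ext (by
        show val (1 : Cor R e) * (x : A) = x
        rw [val_one, e_mul_row]))
      (fun a b => LinearMap.ext fun x => Subtype.ext (by
        show val (a * b) * (x : A) = val a * (val b * x)
        rw [val_mul, mul_assoc])))
    (AlgHom.ofLinearMap
      { toFun := fun a => (LinearMap.mulRight R a.unop).restrict (p := Row R e) (q := Row R e)
          (fun x hx => by
            obtain ⟨y, rfl⟩ := hx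
            exact ⟨y * a.unop, by
              rw [LinearMap.mulRight_apply, LinearMap.mulLeft_apply, LinearMap.mulLeft_apply, mul_assoc]⟩)
        map_add' := fun a b => LinearMap.ext fun x => Subtype.ext (mul_add (x : A) a.unop b.unop)
        map_smul' := fun c b => LinearMap.ext fun x => Subtype.ext (mul_smul_comm c (x : A) b.unop) }
      (LinearMap.ext fun x => Subtype.ext (mul_one _))
      (fun a b => LinearMap.ext fun x => Subtype.ext (mul_assoc (x : A) b.unop a.unop).symm))
    fun b a => LinearMap.ext fun x => Subtype.ext (mul_assoc (val b) (x : A) a.unop).symm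

omit [IsAzumaya R A] in
theorem act_tmul (b : Cor R e) (a : Aᵐᵒᵖ) (x : Row R e) :
    ((act (b ⊗ₜ a) x : Row R e) : A) = val b * x * a.unop := by
  show val b * ((x : A) * a.unop) = _
  rw [mul_assoc]

theorem act_bijective : Function.Bijective (act (R := R) (e := e)) := by
  let q := (LinearMap.mulLeft R e).rangeRestrict
  constructor
  · rw [injective_iff_map_eq_zero]
    intro z hz
    let incl : Cor R e ⊗[R] Aᵐᵒᵖ →ₗ[R] A ⊗[R] Aᵐᵒᵖ := LinearMap.rTensor Aᵐᵒᵖ valL
    let back : A ⊗[R] Aᵐᵒᵖ →ₗ[R] Cor R e ⊗[R] Aᵐᵒᵖ := LinearMap.rTensor Aᵐᵒᵖ (proj R e)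
    have key : ∀ w x, AlgHom.mulLeftRight R A (incl w) x = ((act w (q x) : Row R e) : A) := fun w x => by
      induction w with
      | zero => simp
      | add a b ha hb => simp only [map_add, LinearMap.add_apply, Submodule.coe_add, ha, hb]
      | tmul b a =>
        rw [act_tmul, show incl (b ⊗ₜ a) = val b ⊗ₜ a from rfl, AlgHom.mulLeftRight_apply]
        show val b * x * a.unop = val b * (e * x) * a.unop
        rw [← mul_assoc (val b), mul_e]
    have h0 : incl z = 0 := (IsAzumaya.bij (R := R) (A := A)).1 (LinearMap.ext fun x => by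
      rw [key, hz, map_zero, LinearMap.zero_apply, LinearMap.zero_apply, Submodule.coe_zero])
    have hb : back (incl z) = z := by
      rw [← LinearMap.comp_apply, ← LinearMap.rTensor_comp, proj_comp_valL, LinearMap.rTensor_id,
        LinearMap.id_apply]
    rw [← hb, h0, map_zero]
  · intro φ
    obtain ⟨w, hw⟩ := (IsAzumaya.bij (R := R) (A := A)).2 ((Row R e).subtype.comp (φ.comp q))
    refine ⟨LinearMap.rTensor Aᵐᵒᵖ (proj R e) w, LinearMap.ext fun x => Subtype.ext ?_⟩
    have key : ∀ w, ((act (LinearMap.rTensor Aᵐᵒᵖ (proj R e) w) x : Row R e) : A) =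
        e * AlgHom.mulLeftRight R A w (x : A) := fun w => by
      induction w with
      | zero => simp
      | add a b ha hb => simp only [map_add, LinearMap.add_apply, Submodule.coe_add, ha, hb, mul_add]
      | tmul a c =>
        rw [LinearMap.rTensor_tmul, act_tmul, val_proj, AlgHom.mulLeftRight_apply,
          mul_assoc e (a * e), mul_assoc a e, e_mul_row, mul_assoc]
    have hx : q (x : A) = x := Subtype.ext (e_mul_row x)
    rw [key, hw, LinearMap.comp_apply, LinearMap.comp_apply, hx, Submodule.subtype_apply, e_mul_row]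

theorem exists_trivial_idempotents [ConnectedSpace (PrimeSpectrum R)] :
    ∃ e : A, ∃ _ : Fact (IsIdempotentElem e), e ≠ 0 ∧
      ∀ b : Cor R e, IsIdempotentElem b → b = 0 ∨ b = 1 := by
  classical
  obtain ⟨q⟩ := (inferInstance : Nonempty (PrimeSpectrum R))
  have : Nontrivial R := PrimeSpectrum.nontrivial q
  obtain ⟨m, hm⟩ := Ideal.exists_maximal R
  let K := m.ResidueField
  have hA1 : (1 : A) ≠ 0 := by
    intro h
    exact one_ne_zero (FaithfulSMul.algebraMap_injective R A (by rw [map_one, map_zero, h]))
  let d : A → ℕ := fun e => Module.finrank K (LinearMap.range ((sw R e).baseChange K))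
  have hex : ∃ k, ∃ e : A, IsIdempotentElem e ∧ e ≠ 0 ∧ d e = k := ⟨_, 1, .one, hA1, rfl⟩
  obtain ⟨e, hei, hne, hd⟩ := Nat.find_spec hex
  refine ⟨e, ⟨hei⟩, hne, fun b hb => ?_⟩
  have : Fact (IsIdempotentElem e) := ⟨hei⟩
  by_contra hcon
  push Not at hcon
  set f := val b
  have hf : IsIdempotentElem f := by
    show f * f = f
    rw [← val_mul, hb.eq]
  have hf0 : f ≠ 0 := fun h => hcon.1 (val_injective h)
  have hef : e - f ≠ 0 := fun h => hcon.2 (val_injective (by rw [val_one]; exact (sub_eq_zero.1 h).symm))
  have hg : IsIdempotentElem (e - f) := by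
    show (e - f) * (e - f) = e - f
    rw [mul_sub, sub_mul, sub_mul, hei.eq, e_mul, mul_e, hf.eq]
    abel
  have hle : LinearMap.range ((sw R f).baseChange K) ≤ LinearMap.range ((sw R e).baseChange K) := by
    have : (sw R f) = (sw R e).comp (sw R f) := LinearMap.ext fun x => by
      simp only [LinearMap.comp_apply, sw_apply]
      rw [show e * (f * (x * f) * e) = (e * f) * (x * (f * e)) by simp only [mul_assoc], e_mul, mul_e]
    rw [this, LinearMap.baseChange_comp]
    exact LinearMap.range_comp_le_range _ _
  have hlt : d f < d e := by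
    refine Submodule.finrank_lt_finrank_of_lt (lt_of_le_of_ne hle fun heq => ?_)
    have h1 : (1 : K) ⊗ₜ[R] (e - f) ∈ LinearMap.range ((sw R e).baseChange K) :=
      ⟨(1 : K) ⊗ₜ[R] (e - f), by
        rw [LinearMap.baseChange_tmul, sw_apply, sub_mul, hei.eq, mul_e, mul_sub, hei.eq, e_mul]⟩
    rw [← heq] at h1
    obtain ⟨w, hw⟩ := h1
    have hff : (sw R f).comp (sw R f) = sw R f := LinearMap.ext fun x => by
      simp only [LinearMap.comp_apply, sw_apply]
      rw [show f * (f * (x * f) * f) = (f * f) * (x * (f * f)) by simp only [mul_assoc], hf.eq]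
    have h2 : (sw R f).baseChange K ((1 : K) ⊗ₜ[R] (e - f)) = (1 : K) ⊗ₜ[R] (e - f) := by
      rw [← hw, ← LinearMap.comp_apply, ← LinearMap.baseChange_comp, hff]
    rw [LinearMap.baseChange_tmul, sw_apply, sub_mul, e_mul, hf.eq, sub_self, mul_zero,
      TensorProduct.tmul_zero] at h2
    exact hef (idempotent_eq_zero hg K h2.symm)
  exact Nat.find_min hex (hd ▸ hlt) ⟨f, hf, hf0, rfl⟩

theorem main [ConnectedSpace (PrimeSpectrum R)] :
    ∃ (B : Type v) (_ : Ring B) (_ : Algebra R B) (_ : IsAzumaya R B) (P Q : Type v) (_ : AddCommGroup P)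
      (_ : Module R P) (_ : AddCommGroup Q) (_ : Module R Q),
      (∀ b : B, IsIdempotentElem b → b = 0 ∨ b = 1) ∧ Module.Finite R P ∧ Module.Projective R P ∧
      FaithfulSMul R P ∧ Module.Finite R Q ∧ Module.Projective R Q ∧ FaithfulSMul R Q ∧
      Nonempty (A ⊗[R] Module.End R P ≃ₐ[R] B ⊗[R] Module.End R Q) := by
  obtain ⟨e, hef, hne, hB⟩ := exists_trivial_idempotents (R := R) (A := A)
  obtain ⟨h1, h2, h3⟩ := row_props (R := R) (e := e) hne
  refine ⟨Cor R e, inferInstance, inferInstance, isAzumaya_cor hne, Row R e, A, inferInstance, inferInstance,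
    inferInstance, inferInstance, hB, h1, h2, h3, inferInstance, inferInstance, inferInstance, ⟨?_⟩⟩
  let a₁ : Module.End R (Row R e) ≃ₐ[R] Cor R e ⊗[R] Aᵐᵒᵖ :=
    (AlgEquiv.ofBijective (act (R := R) (e := e)) act_bijective).symm
  let a₂ : A ⊗[R] Aᵐᵒᵖ ≃ₐ[R] Module.End R A :=
    AlgEquiv.ofBijective (AlgHom.mulLeftRight R A) IsAzumaya.bij
  exact ((Algebra.TensorProduct.congr AlgEquiv.refl a₁).trans
    (((Algebra.TensorProduct.assoc R R R A (Cor R e) Aᵐᵒᵖ).symm).trans
      ((Algebra.TensorProduct.congr (Algebra.TensorProduct.comm R A (Cor R e)) AlgEquiv.refl).trans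
        (Algebra.TensorProduct.assoc R R R (Cor R e) A Aᵐᵒᵖ)))).trans
    (Algebra.TensorProduct.congr AlgEquiv.refl a₂)

end AzumayaLib.Cr
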