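import Groth.Agent.AzumayaLib.Basic

/-!
# Descent of the Azumaya property
-/

set_option autoImplicit false

universe u v w

open scoped TensorProduct
open MulOpposite

namespace AzumayaLib

variable {R : Type u} [CommRing R] (S : Type v) [CommRing S] [Algebra R S]

theorem subsingleton_of_baseChange (hS : Function.Surjective (PrimeSpectrum.comap (algebraMap R S)))
    {C : Type w} [AddCommGroup C] [Module R C] [Module.Finite R C] [Subsingleton (S ⊗[R] C)] :
    Subsingleton C := by
  rw [← Module.support_eq_empty_iff (R := R), Set.eq_empty_iff_forall_notMem]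
  intro p hp
  rw [Module.mem_support_iff_nontrivial_residueField_tensorProduct] at hp
  obtain ⟨q, rfl⟩ := hS p
  let f : (PrimeSpectrum.comap (algebraMap R S) q).asIdeal.ResidueField →+* q.asIdeal.ResidueField :=
    Ideal.ResidueField.lift _ ((algebraMap S q.asIdeal.ResidueField).comp (algebraMap R S))
      (fun r hr => RingHom.mem_ker.2 (Ideal.algebraMap_residueField_eq_zero.2 hr))
      (fun r hr => (isUnit_iff_ne_zero.2 fun h => hr (show algebraMap R S r ∈ q.asIdeal from Ideal.algebraMap_residueField_eq_zero.1 h) :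
        IsUnit (algebraMap S q.asIdeal.ResidueField (algebraMap R S r))))
  algebraize [f]
  have : IsScalarTower R (PrimeSpectrum.comap (algebraMap R S) q).asIdeal.ResidueField q.asIdeal.ResidueField :=
    IsScalarTower.of_algebraMap_eq fun r => by
      rw [RingHom.algebraMap_toAlgebra]
      exact ((Ideal.ResidueField.lift_algebraMap _ _ _ _ r).trans
        (IsScalarTower.algebraMap_apply R S _ r).symm).symm
  have e₁ := TensorProduct.AlgebraTensorModule.cancelBaseChange R
    (PrimeSpectrum.comap (algebraMap R S) q).asIdeal.ResidueField q.asIdeal.ResidueField q.asIdeal.ResidueField C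
  have e₂ := TensorProduct.AlgebraTensorModule.cancelBaseChange R S q.asIdeal.ResidueField
    q.asIdeal.ResidueField C
  have : Subsingleton (q.asIdeal.ResidueField ⊗[R] C) := e₂.symm.toEquiv.subsingleton
  have : Subsingleton (q.asIdeal.ResidueField ⊗[(PrimeSpectrum.comap (algebraMap R S) q).asIdeal.ResidueField]
      ((PrimeSpectrum.comap (algebraMap R S) q).asIdeal.ResidueField ⊗[R] C)) := e₁.toEquiv.subsingleton
  refine not_nontrivial_iff_subsingleton.2 ⟨fun a b => ?_⟩ hp
  have hflat := Module.Flat.rTensor_preserves_injective_linearMap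
    (R := (PrimeSpectrum.comap (algebraMap R S) q).asIdeal.ResidueField)
    (M := (PrimeSpectrum.comap (algebraMap R S) q).asIdeal.ResidueField ⊗[R] C)
    (Algebra.linearMap (PrimeSpectrum.comap (algebraMap R S) q).asIdeal.ResidueField q.asIdeal.ResidueField)
    (algebraMap (PrimeSpectrum.comap (algebraMap R S) q).asIdeal.ResidueField q.asIdeal.ResidueField).injective
  exact (TensorProduct.lid (PrimeSpectrum.comap (algebraMap R S) q).asIdeal.ResidueField _).symm.injective
    (hflat (Subsingleton.elim _ _))

variable {B : Type w} [Ring B] [Algebra R B]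

/-- Base change of endomorphisms. -/
noncomputable def endBaseChange : S ⊗[R] Module.End R B →ₗ[S] Module.End S (S ⊗[R] B) :=
  TensorProduct.AlgebraTensorModule.lift
    (LinearMap.toSpanSingleton S _ (LinearMap.baseChangeHom R S B B))

theorem endBaseChange_tmul (s : S) (φ : Module.End R B) :
    endBaseChange S (s ⊗ₜ[R] φ) = s • φ.baseChange S := rfl

theorem endBaseChange_injective [Module.Finite R B] [Module.Projective R B] :
    Function.Injective (endBaseChange (R := R) (B := B) S) := by
  obtain ⟨n, p, g, -, -, hpg⟩ := Module.Finite.exists_comp_eq_id_of_projective R B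
  let a : Fin n → B := fun i => p (Pi.single i 1)
  let c : Fin n → (B →ₗ[R] R) := fun i => (LinearMap.proj i).comp g
  let Θ : Module.End S (S ⊗[R] B) → S ⊗[R] Module.End R B := fun ψ =>
    ∑ i, LinearMap.lTensor S (LinearMap.smulRightₗ (c i) : B →ₗ[R] Module.End R B) (ψ ((1 : S) ⊗ₜ a i))
  refine Function.LeftInverse.injective (g := Θ) fun z => ?_
  induction z with
  | zero => simp [Θ]
  | add x y hx hy =>
    simp only [Θ, map_add, LinearMap.add_apply, Finset.sum_add_distrib] at hx hy ⊢
    rw [hx, hy]
  | tmul s φ =>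
    simp only [Θ, endBaseChange_tmul, LinearMap.smul_apply, LinearMap.baseChange_tmul,
      TensorProduct.smul_tmul', smul_eq_mul, mul_one, LinearMap.lTensor_tmul, ← TensorProduct.tmul_sum]
    congr 1
    refine LinearMap.ext fun x => ?_
    conv_rhs => rw [← LinearMap.id_apply (R := R) x, ← hpg, LinearMap.comp_apply, pi_eq_sum_univ' (g x),
      map_sum, map_sum]
    rw [LinearMap.sum_apply]
    refine Finset.sum_congr rfl fun i _ => ?_
    rw [map_smul, map_smul]
    simp [c, a]

theorem subsingleton_coker [Module.Finite R B] [Module.Projective R B] [h : IsAzumaya S (S ⊗[R] B)] :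
    Subsingleton (S ⊗[R] (Module.End R B ⧸ LinearMap.range (AlgHom.mulLeftRight R B).toLinearMap)) := by
  classical
  let μ := (AlgHom.mulLeftRight R B).toLinearMap
  let env : S ⊗[R] (B ⊗[R] Bᵐᵒᵖ) ≃ₗ[S] (S ⊗[R] B) ⊗[S] (S ⊗[R] B)ᵐᵒᵖ :=
    TensorProduct.AlgebraTensorModule.distribBaseChange R S B Bᵐᵒᵖ ≪≫ₗ
      TensorProduct.congr (LinearEquiv.refl S _)
        ((TensorProduct.AlgebraTensorModule.congr (LinearEquiv.refl S S) (opLinearEquiv R).symm) ≪≫ₗ
          opLinearEquiv S)
  have henv : ∀ (s : S) (a : B) (b : Bᵐᵒᵖ),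
      env (s ⊗ₜ (a ⊗ₜ b)) = (s ⊗ₜ[R] a) ⊗ₜ[S] op ((1 : S) ⊗ₜ[R] b.unop) := fun s a b => rfl
  have hcomm : ∀ z, endBaseChange S (μ.lTensor S z) = AlgHom.mulLeftRight S (S ⊗[R] B) (env z) := fun z => by
    induction z with
    | zero => simp
    | add x y hx hy => rw [map_add, map_add, map_add, map_add, hx, hy]
    | tmul s w =>
      induction w with
      | zero => simp
      | add x y hx hy => rw [TensorProduct.tmul_add, map_add, map_add, map_add, map_add, hx, hy]
      | tmul a b =>
        rw [henv, LinearMap.lTensor_tmul, endBaseChange_tmul]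
        refine LinearMap.ext fun y => ?_
        induction y with
        | zero => simp
        | add u u' hu hu' => rw [map_add, map_add, hu, hu']
        | tmul t x => simp [μ, TensorProduct.smul_tmul']
  refine ⟨fun a b => ?_⟩
  have key : ∀ z : S ⊗[R] (Module.End R B ⧸ LinearMap.range μ), z = 0 := fun z => by
    obtain ⟨w, rfl⟩ := LinearMap.lTensor_surjective S (Submodule.mkQ_surjective (LinearMap.range μ)) z
    obtain ⟨v, hv⟩ := h.bij.2 (endBaseChange S w)
    obtain ⟨z', rfl⟩ := env.surjective v
    have hw : w = μ.lTensor S z' := endBaseChange_injective S (by rw [hcomm, hv])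
    rw [hw, ← LinearMap.comp_apply, ← LinearMap.lTensor_comp, LinearMap.range_mkQ_comp,
      LinearMap.lTensor_zero, LinearMap.zero_apply]
  rw [key a, key b]

theorem subsingleton_ker [Module.Finite R B] [Module.Projective R B] [h : IsAzumaya S (S ⊗[R] B)]
    (π : B ⊗[R] Bᵐᵒᵖ →ₗ[R] LinearMap.ker (AlgHom.mulLeftRight R B).toLinearMap)
    (hπ : π.comp (LinearMap.ker (AlgHom.mulLeftRight R B).toLinearMap).subtype = LinearMap.id) :
    Subsingleton (S ⊗[R] LinearMap.ker (AlgHom.mulLeftRight R B).toLinearMap) := by
  classical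
  let μ := (AlgHom.mulLeftRight R B).toLinearMap
  let env : S ⊗[R] (B ⊗[R] Bᵐᵒᵖ) ≃ₗ[S] (S ⊗[R] B) ⊗[S] (S ⊗[R] B)ᵐᵒᵖ :=
    TensorProduct.AlgebraTensorModule.distribBaseChange R S B Bᵐᵒᵖ ≪≫ₗ
      TensorProduct.congr (LinearEquiv.refl S _)
        ((TensorProduct.AlgebraTensorModule.congr (LinearEquiv.refl S S) (opLinearEquiv R).symm) ≪≫ₗ
          opLinearEquiv S)
  have henv : ∀ (s : S) (a : B) (b : Bᵐᵒᵖ),
      env (s ⊗ₜ (a ⊗ₜ b)) = (s ⊗ₜ[R] a) ⊗ₜ[S] op ((1 : S) ⊗ₜ[R] b.unop) := fun s a b => rfl
  have hcomm : ∀ z, endBaseChange S (μ.lTensor S z) = AlgHom.mulLeftRight S (S ⊗[R] B) (env z) := fun z => by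
    induction z with
    | zero => simp
    | add x y hx hy => rw [map_add, map_add, map_add, map_add, hx, hy]
    | tmul s w =>
      induction w with
      | zero => simp
      | add x y hx hy => rw [TensorProduct.tmul_add, map_add, map_add, map_add, map_add, hx, hy]
      | tmul a b =>
        rw [henv, LinearMap.lTensor_tmul, endBaseChange_tmul]
        refine LinearMap.ext fun y => ?_
        induction y with
        | zero => simp
        | add u u' hu hu' => rw [map_add, map_add, hu, hu']
        | tmul t x => simp [μ, TensorProduct.smul_tmul']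
  let K := LinearMap.ker μ
  refine ⟨fun a b => ?_⟩
  have key : ∀ z : S ⊗[R] K, z = 0 := fun z => by
    have h1 : AlgHom.mulLeftRight S (S ⊗[R] B) (env (K.subtype.lTensor S z)) = 0 := by
      rw [← hcomm, ← LinearMap.comp_apply (LinearMap.lTensor S μ), ← LinearMap.lTensor_comp,
        LinearMap.comp_ker_subtype, LinearMap.lTensor_zero, LinearMap.zero_apply, map_zero]
    have h2 := env.injective ((h.bij.1 (h1.trans (map_zero _).symm)).trans (map_zero env).symm)
    have h3 := congrArg (π.lTensor S) h2
    rwa [← LinearMap.comp_apply, ← LinearMap.lTensor_comp, hπ, LinearMap.lTensor_id, LinearMap.id_apply,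
      map_zero] at h3
  rw [key a, key b]

omit S in
theorem bijective_of_subsingleton [Module.Finite R B] [Module.Projective R B]
    (h₁ : Module.Finite R (Module.End R B ⧸ LinearMap.range (AlgHom.mulLeftRight R B).toLinearMap) →
      Subsingleton (Module.End R B ⧸ LinearMap.range (AlgHom.mulLeftRight R B).toLinearMap))
    (h₂ : ∀ π : B ⊗[R] Bᵐᵒᵖ →ₗ[R] LinearMap.ker (AlgHom.mulLeftRight R B).toLinearMap,
      π.comp (LinearMap.ker (AlgHom.mulLeftRight R B).toLinearMap).subtype = LinearMap.id →
        Module.Finite R (LinearMap.ker (AlgHom.mulLeftRight R B).toLinearMap) →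
          Subsingleton (LinearMap.ker (AlgHom.mulLeftRight R B).toLinearMap)) :
    Function.Bijective (AlgHom.mulLeftRight R B) := by
  classical
  let μ := (AlgHom.mulLeftRight R B).toLinearMap
  obtain ⟨n, p, g, -, -, hpg⟩ := Module.Finite.exists_comp_eq_id_of_projective R B
  have : Module.Finite R (Module.End R B) := by
    refine Module.Finite.of_surjective (LinearMap.lcomp R B g ∘ₗ LinearMap.id) fun φ => ⟨φ.comp p, ?_⟩
    rw [LinearMap.comp_apply, LinearMap.id_apply, LinearMap.lcomp_apply', LinearMap.comp_assoc, hpg,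
      LinearMap.comp_id]
  have hsurj : Function.Surjective μ := by
    rw [← LinearMap.range_eq_top, ← Submodule.Quotient.subsingleton_iff]
    exact h₁ inferInstance
  refine ⟨?_, hsurj⟩
  have : Module.Projective R (Module.End R B) := by
    obtain ⟨m, hm⟩ : ∃ m, m = n := ⟨n, rfl⟩
    have : Module.Projective R (Fin n → B) :=
      Module.Projective.of_equiv (DFinsupp.linearEquivFunOnFintype (R := R) (M := fun _ : Fin n => B))
    refine Module.Projective.of_split (M := Fin n → B)
      (LinearMap.pi fun i => LinearMap.applyₗ (p (Pi.single i 1)))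
      (LinearMap.lsum R (fun _ : Fin n => B) R fun i => LinearMap.smulRightₗ ((LinearMap.proj i).comp g)) ?_
    refine LinearMap.ext fun φ => LinearMap.ext fun x => ?_
    conv_rhs => rw [LinearMap.id_apply, ← LinearMap.id_apply (R := R) x, ← hpg, LinearMap.comp_apply,
      pi_eq_sum_univ' (g x), map_sum, map_sum]
    simp only [LinearMap.comp_apply, LinearMap.lsum_apply, LinearMap.sum_apply, LinearMap.pi_apply,
      LinearMap.proj_apply]
    refine Finset.sum_congr rfl fun i _ => ?_
    rw [map_smul, map_smul]
    simp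
  obtain ⟨σ, hσ⟩ := Module.projective_lifting_property μ LinearMap.id hsurj
  let K := LinearMap.ker μ
  have hmem : ∀ z, z - σ (μ z) ∈ K := fun z => by
    have := LinearMap.congr_fun hσ (μ z)
    simp only [LinearMap.comp_apply, LinearMap.id_apply] at this
    rw [LinearMap.mem_ker, map_sub, this, sub_self]
  let π : B ⊗[R] Bᵐᵒᵖ →ₗ[R] K := LinearMap.codRestrict K (LinearMap.id - σ.comp μ) hmem
  have hπ : π.comp K.subtype = LinearMap.id := LinearMap.ext fun z => Subtype.ext (by
    simp [π, show μ (z : B ⊗[R] Bᵐᵒᵖ) = 0 from z.2])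
  have : Module.Finite R K := Module.Finite.of_surjective π fun z => ⟨z, LinearMap.congr_fun hπ z⟩
  have := h₂ π hπ ‹_›
  exact LinearMap.ker_eq_bot.1 (Submodule.eq_bot_of_subsingleton (p := K))

theorem isAzumaya_of_baseChange (hS : Function.Surjective (PrimeSpectrum.comap (algebraMap R S)))
    [Module.Finite R B] [Module.Projective R B] [h : IsAzumaya S (S ⊗[R] B)] : IsAzumaya R B := by
  obtain ⟨ρ', hρ'⟩ := exists_retraction' (R := S) (A := S ⊗[R] B)
  obtain ⟨n, p, g, -, -, hpg⟩ := Module.Finite.exists_comp_eq_id_of_projective R B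
  have hρ : ∃ ρ : B →ₗ[R] R, ρ 1 = 1 := by
    refine exists_retraction_of_span (fun i : Fin n => (LinearMap.proj i).comp g) ?_
    by_contra hne
    obtain ⟨m, hm, hle⟩ := Ideal.exists_le_maximal _ hne
    obtain ⟨q, hq⟩ := hS ⟨m, hm.isPrime⟩
    have hqm : ∀ r ∈ m, algebraMap R S r ∈ q.asIdeal := fun r hr => by
      have := congrArg PrimeSpectrum.asIdeal hq
      rwa [← Ideal.mem_comap, ← PrimeSpectrum.comap_asIdeal, this]
    apply q.isPrime.ne_top
    rw [Ideal.eq_top_iff_one, ← hρ', Algebra.TensorProduct.one_def,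
      show ((1 : S) ⊗ₜ[R] (1 : B)) = ∑ i, algebraMap R S (g 1 i) • ((1 : S) ⊗ₜ[R] p (Pi.single i 1)) by
        conv_lhs => rw [← LinearMap.id_apply (R := R) (1 : B), ← hpg, LinearMap.comp_apply,
          pi_eq_sum_univ' (g 1), map_sum, TensorProduct.tmul_sum]
        refine Finset.sum_congr rfl fun i _ => ?_
        rw [map_smul, TensorProduct.tmul_smul, IsScalarTower.algebraMap_smul], map_sum]
    refine Submodule.sum_mem _ fun i _ => ?_
    rw [map_smul, smul_eq_mul]
    exact Ideal.mul_mem_right _ _ (hqm _ (hle (Ideal.subset_span ⟨i, rfl⟩)))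
  obtain ⟨ρ, hρ⟩ := hρ
  refine { bij := ?_, toFaithfulSMul := (faithfulSMul_iff_algebraMap_injective R B).2 (injective_of_retraction ρ hρ) }
  refine bijective_of_subsingleton (fun hfin => ?_) fun π hπ hfin => ?_
  · have := subsingleton_coker (R := R) (B := B) S
    exact subsingleton_of_baseChange S hS
  · have := subsingleton_ker S π hπ
    exact subsingleton_of_baseChange S hS

/-- Finiteness and projectivity descend along faithfully flat maps. -/
theorem finite_projective_of_faithfullyFlat [Module.FaithfullyFlat R S] (M : Type w) [AddCommGroup M]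
    [Module R M] [Module.Finite S (S ⊗[R] M)] [Module.Projective S (S ⊗[R] M)] :
    Module.Finite R M ∧ Module.Projective R M := by
  have : Module.Finite R M := Module.Finite.of_finite_tensorProduct_of_faithfullyFlat S
  have : Module.Flat R M := Module.Flat.of_flat_tensorProduct R M S
  refine ⟨inferInstance, ?_⟩
  obtain ⟨n, f, hf⟩ := Module.Finite.exists_fin' R M
  let K := LinearMap.ker f
  let fS : S ⊗[R] (Fin n → R) →ₗ[S] S ⊗[R] M := f.baseChange S
  have hfS : Function.Surjective fS := LinearMap.lTensor_surjective S hf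
  obtain ⟨σ, hσ⟩ := Module.projective_lifting_property fS LinearMap.id hfS
  let π := LinearMap.id - σ.comp fS
  have hker : LinearMap.ker fS = LinearMap.range π := by
    refine le_antisymm (fun z hz => ⟨z, by simp [π, LinearMap.mem_ker.1 hz]⟩) ?_
    rintro _ ⟨z, rfl⟩
    have := LinearMap.congr_fun hσ (fS z)
    simp only [LinearMap.comp_apply, LinearMap.id_apply] at this
    simp [π, this]
  have : Module.Finite S (LinearMap.ker (TensorProduct.AlgebraTensorModule.lTensor S S f)) :=
    (show Module.Finite S (LinearMap.ker fS) from hker ▸ inferInstance)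
  have : Module.Finite S (S ⊗[R] K) := Module.Finite.equiv (LinearMap.tensorKerEquiv S S f).symm
  have : Module.Finite R K := Module.Finite.of_finite_tensorProduct_of_faithfullyFlat S
  have : Module.FinitePresentation R M :=
    Module.finitePresentation_of_surjective f hf (Module.Finite.iff_fg.1 this)
  exact Module.Flat.projective_of_finitePresentation

end AzumayaLib
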