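import Groth.Agent.AzumayaLib.Basic

/-!
# Endomorphism algebras are Azumaya; ideals of Azumaya algebras
-/

set_option autoImplicit false

universe u v w

open scoped TensorProduct
open MulOpposite

namespace AzumayaLib

variable {R : Type u} [CommRing R]

theorem isAzumaya_end (P : Type v) [AddCommGroup P] [Module R P] [Module.Finite R P]
    [Module.Projective R P] [FaithfulSMul R P] : IsAzumaya R (Module.End R P) := by
  classical
  obtain ⟨n, p, g, -, -, hpg⟩ := Module.Finite.exists_comp_eq_id_of_projective R P
  let b : Fin n → P := fun i => p (Pi.single i 1)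
  let c : Fin n → (P →ₗ[R] R) := fun i => (LinearMap.proj i).comp g
  have hsum : ∀ x, ∑ i, c i x • b i = x := fun x => by
    conv_rhs => rw [← LinearMap.id_apply (R := R) x, ← hpg, LinearMap.comp_apply, pi_eq_sum_univ' (g x),
      map_sum]
    exact Finset.sum_congr rfl fun i _ => (map_smul p _ _).symm
  let e : P → (P →ₗ[R] R) → Module.End R P := fun x γ => γ.smulRight x
  have hone : ∑ i, e (b i) (c i) = 1 := LinearMap.ext fun x => by simp [e, hsum]
  have he : ∀ x γ y δ, e x γ * e y δ = γ y • e x δ := fun x γ y δ => LinearMap.ext fun z => by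
    simp [e, smul_smul, mul_comm]
  have he' : ∀ x γ (φ : Module.End R P) y δ, e x γ * φ * e y δ = γ (φ y) • e x δ := fun x γ φ y δ =>
    LinearMap.ext fun z => by simp [e, smul_smul, mul_comm]
  let D : Data R (Module.End R P) :=
    { n := n * n
      a := fun ij => e (b (finProdFinEquiv.symm ij).1) (c (finProdFinEquiv.symm ij).2)
      f := fun ij => (c (finProdFinEquiv.symm ij).1).comp (LinearMap.applyₗ (b (finProdFinEquiv.symm ij).2))
      t := fun ij => ∑ m, e (b m) (c (finProdFinEquiv.symm ij).1) ⊗ₜ[R]
        op (e (b (finProdFinEquiv.symm ij).2) (c m))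
      sum_eq := fun φ => by
        rw [← finProdFinEquiv.sum_comp]
        simp only [Equiv.symm_apply_apply, Fintype.sum_prod_type]
        refine LinearMap.ext fun x => ?_
        simp only [LinearMap.sum_apply, LinearMap.smul_apply, LinearMap.comp_apply, LinearMap.applyₗ_apply_apply]
        rw [Finset.sum_comm]
        conv_rhs => rw [← hsum x, map_sum]
        refine Finset.sum_congr rfl fun j _ => ?_
        conv_rhs => rw [map_smul, ← hsum (φ (b j)), Finset.smul_sum]
        exact Finset.sum_congr rfl fun i _ => by simp [e, smul_smul, mul_comm]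
      mu_t := fun ij φ => by
        simp only [map_sum, LinearMap.sum_apply, AlgHom.mulLeftRight_apply, unop_op, he', ← Finset.smul_sum,
          hone, LinearMap.comp_apply, LinearMap.applyₗ_apply_apply]
      left := fun ψ => by
        rw [← finProdFinEquiv.sum_comp]
        simp only [Equiv.symm_apply_apply, Fintype.sum_prod_type, Finset.mul_sum,
          Algebra.TensorProduct.tmul_mul_tmul, one_mul, he', TensorProduct.smul_tmul]
        calc ∑ i, ∑ j, ∑ m, e (b i) (c i) ⊗ₜ[R] (c j (ψ (b m)) • op (e (b j) (c m)))
            = ∑ i, e (b i) (c i) ⊗ₜ[R] (∑ j, ∑ m, c j (ψ (b m)) • op (e (b j) (c m))) := by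
              simp only [TensorProduct.tmul_sum]
          _ = (1 : Module.End R P) ⊗ₜ[R] op ψ := by
              rw [← TensorProduct.sum_tmul, hone]
              congr 1
              refine unop_injective (LinearMap.ext fun x => ?_)
              simp only [Finset.unop_sum, unop_smul, unop_op, LinearMap.sum_apply, LinearMap.smul_apply]
              rw [Finset.sum_comm]
              conv_rhs => rw [← hsum x, map_sum]
              refine Finset.sum_congr rfl fun j _ => ?_
              conv_rhs => rw [map_smul, ← hsum (ψ (b j)), Finset.smul_sum]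
              exact Finset.sum_congr rfl fun i _ => by simp [e, smul_smul, mul_comm] }
  refine D.isAzumaya fun r s h => FaithfulSMul.eq_of_smul_eq_smul (α := P) fun x => ?_
  simpa using LinearMap.congr_fun h x

variable {A : Type v} [Ring A] [Algebra R A]

theorem twoSidedIdeal_eq_map [IsAzumaya R A] (I : TwoSidedIdeal A) :
    TwoSidedIdeal.asIdeal I = Ideal.map (algebraMap R A) ((TwoSidedIdeal.asIdeal I).comap (algebraMap R A)) := by
  obtain ⟨D⟩ := exists_data (R := R) (A := A)
  refine le_antisymm (fun x hx => ?_) Ideal.map_comap_le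
  rw [TwoSidedIdeal.mem_asIdeal] at hx
  have hmu : ∀ z : A ⊗[R] Aᵐᵒᵖ, AlgHom.mulLeftRight R A z x ∈ I := fun z => by
    induction z with
    | zero => simp [I.zero_mem]
    | add p q hp hq => rw [map_add, LinearMap.add_apply]; exact I.add_mem hp hq
    | tmul a b => rw [AlgHom.mulLeftRight_apply]; exact I.mul_mem_right _ _ (I.mul_mem_left _ _ hx)
  rw [← D.sum_eq x]
  refine Submodule.sum_mem _ fun i _ => ?_
  rw [Algebra.smul_def, Algebra.commutes]
  refine Ideal.mul_mem_left _ _ (Ideal.mem_map_of_mem _ ?_)
  rw [Ideal.mem_comap, TwoSidedIdeal.mem_asIdeal, Algebra.algebraMap_eq_smul_one, ← D.mu_t]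
  exact hmu _

theorem comap_map_eq [IsAzumaya R A] (J : Ideal R) :
    (Ideal.map (algebraMap R A) J).comap (algebraMap R A) = J := by
  obtain ⟨ρ, hρ⟩ := exists_retraction' (R := R) (A := A)
  refine le_antisymm (fun r hr => ?_) Ideal.le_comap_map
  have hle : ∀ x ∈ Ideal.map (algebraMap R A) J, ρ x ∈ J := by
    intro x hx
    induction hx using Submodule.span_induction with
    | mem y hy => obtain ⟨s, hs, rfl⟩ := hy; rwa [Algebra.algebraMap_eq_smul_one, map_smul, hρ, smul_eq_mul, mul_one]
    | zero => simp
    | add y z _ _ hy hz => rw [map_add]; exact J.add_mem hy hz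
    | smul a y hy ih =>
      have hJ : ∀ z ∈ Ideal.map (algebraMap R A) J, z ∈ J • (⊤ : Submodule R A) := fun z hz => by
        induction hz using Submodule.span_induction with
        | mem w hw => obtain ⟨s, hs, rfl⟩ := hw; rw [Algebra.algebraMap_eq_smul_one]; exact Submodule.smul_mem_smul hs Submodule.mem_top
        | zero => simp
        | add _ _ _ _ h1 h2 => exact add_mem h1 h2
        | smul c w _ hw =>
          have := Submodule.mem_map_of_mem (f := LinearMap.mulLeft R c) hw
          rw [Submodule.map_smul'', LinearMap.mulLeft_apply] at this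
          exact (smul_mono_right J le_top : J • _ ≤ J • (⊤ : Submodule R A)) this
      have := Submodule.mem_map_of_mem (f := ρ) (hJ _ (Submodule.smul_mem _ a hy))
      rw [Submodule.map_smul''] at this
      exact Submodule.smul_induction_on this (fun r hr x _ => J.mul_mem_right x hr) fun x y hx hy => J.add_mem hx hy
  have := hle _ hr
  rwa [Algebra.algebraMap_eq_smul_one, map_smul, hρ, smul_eq_mul, mul_one] at this

theorem idempotent_eq_zero [ConnectedSpace (PrimeSpectrum R)] [Module.Finite R A] [Module.Projective R A]
    {e : A} (he : IsIdempotentElem e) (S : Type w) [CommRing S] [Nontrivial S] [Algebra R S]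
    (h : (1 : S) ⊗ₜ[R] e = (0 : S ⊗[R] A)) : e = 0 := by
  let π : A →ₗ[R] A := LinearMap.mulLeft R e
  let Q : Submodule R A := LinearMap.range π
  let i : Q →ₗ[R] A := Q.subtype
  let q : A →ₗ[R] Q := π.rangeRestrict
  have hqi : q.comp i = LinearMap.id := LinearMap.ext fun ⟨x, y, hy⟩ => Subtype.ext (by
    change e * x = x
    rw [← hy, LinearMap.mulLeft_apply, ← mul_assoc, he.eq])
  have : Module.Projective R Q := Module.Projective.of_split i q hqi
  have : Module.Finite R Q := Module.Finite.of_surjective q π.surjective_rangeRestrict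
  have hzero : Subsingleton (S ⊗[R] Q) := ⟨fun a b => by
    have key : ∀ z : S ⊗[R] Q, z = 0 := fun z => by
      obtain ⟨w, rfl⟩ : ∃ w, LinearMap.lTensor S q w = z :=
        LinearMap.lTensor_surjective S π.surjective_rangeRestrict z
      have hinj : Function.Injective (LinearMap.lTensor S i) := Function.LeftInverse.injective
        (g := LinearMap.lTensor S q) fun z => by
          rw [← LinearMap.comp_apply, ← LinearMap.lTensor_comp, hqi, LinearMap.lTensor_id, LinearMap.id_apply]
      apply hinj
      rw [map_zero, ← LinearMap.comp_apply, ← LinearMap.lTensor_comp]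
      induction w with
      | zero => simp
      | add x y hx hy => rw [map_add, hx, hy, add_zero]
      | tmul s x =>
        change s ⊗ₜ[R] (e * x) = 0
        rw [show s ⊗ₜ[R] (e * x) = ((1 : S) ⊗ₜ[R] e) * (s ⊗ₜ[R] x) by simp, h, zero_mul]
    rw [key a, key b]⟩
  obtain ⟨p⟩ : Nonempty (PrimeSpectrum S) := inferInstance
  have h0 : Module.rankAtStalk (R := R) Q (p.comap (algebraMap R S)) = 0 := by
    rw [← Module.rankAtStalk_baseChange, Module.rankAtStalk_eq_zero_of_subsingleton, Pi.zero_apply]
  have : Module.FinitePresentation R Q := Module.finitePresentation_of_projective R Q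
  have hconst := (Module.isLocallyConstant_rankAtStalk (R := R) (M := Q)).apply_eq_of_preconnectedSpace
  have : Subsingleton Q := (Module.rankAtStalk_eq_zero_iff_subsingleton (R := R)).1
    (funext fun r => (hconst r _).trans h0)
  have := congrArg Subtype.val (Subsingleton.elim (q 1) 0)
  change e * 1 = 0 at this
  rwa [mul_one] at this

end AzumayaLib
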