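import Groth.Agent.AzumayaLib.Descent
import Groth.Prelude.Def_EtMil

/-!
# Gluing finite projective modules over a fibre square
-/

set_option autoImplicit false

universe u

open scoped TensorProduct

namespace AzumayaLib.Milnor

variable {B' B A' A : Type u} [CommRing B'] [CommRing B] [CommRing A'] [CommRing A]
  [Algebra B' B] [Algebra B' A'] [Algebra B A] [Algebra A' A] [Algebra B' A]
  [IsScalarTower B' B A] [IsScalarTower B' A' A]

theorem surjective_left (hsq : EtMil.IsFibreSquare B' B A' A) : Function.Surjective (algebraMap B' B) :=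
  fun b => by
    obtain ⟨a', ha⟩ := hsq.1 (algebraMap B A b)
    obtain ⟨b', ⟨h, -⟩, -⟩ := hsq.2 b a' ha.symm
    exact ⟨b', h⟩

theorem ext_pair (hsq : EtMil.IsFibreSquare B' B A' A) {x y : B'}
    (h1 : algebraMap B' B x = algebraMap B' B y) (h2 : algebraMap B' A' x = algebraMap B' A' y) : x = y := by
  obtain ⟨z, -, hu⟩ := hsq.2 (algebraMap B' B x) (algebraMap B' A' x)
    (by rw [← IsScalarTower.algebraMap_apply, ← IsScalarTower.algebraMap_apply])
  exact (hu x ⟨rfl, rfl⟩).trans (hu y ⟨h1.symm, h2.symm⟩).symm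

theorem exists_ker (hsq : EtMil.IsFibreSquare B' B A' A) {a' : A'} (h : algebraMap A' A a' = 0) :
    ∃ i : B', algebraMap B' B i = 0 ∧ algebraMap B' A' i = a' :=
  (hsq.2 0 a' (by rw [map_zero, h])).exists

theorem mem_ker_smul_of_tmul_eq_zero (hsq : EtMil.IsFibreSquare B' B A' A) {M' : Type u} [AddCommGroup M']
    [Module A' M'] {m : M'} (h : (1 : A) ⊗ₜ[A'] m = 0) :
    m ∈ RingHom.ker (algebraMap A' A) • (⊤ : Submodule A' M') := by
  let I := RingHom.ker (algebraMap A' A)
  have hex : Function.Exact I.subtype (Algebra.linearMap A' A) := fun a => by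
    simp [I, RingHom.mem_ker]
  have h' : (Algebra.linearMap A' A).rTensor M' ((1 : A') ⊗ₜ[A'] m) = 0 := by
    rw [LinearMap.rTensor_tmul]
    simpa using h
  obtain ⟨z, hz⟩ := (rTensor_exact M' hex hsq.1 _).1 h'
  have hmem : ∀ w : I ⊗[A'] M', TensorProduct.lid A' M' (I.subtype.rTensor M' w) ∈ I • (⊤ : Submodule A' M') :=
    fun w => by
      induction w with
      | zero => simp
      | add x y hx hy => rw [map_add, map_add]; exact add_mem hx hy
      | tmul i x =>
        rw [LinearMap.rTensor_tmul, TensorProduct.lid_tmul]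
        exact Submodule.smul_mem_smul i.2 Submodule.mem_top
  have := hmem z
  rwa [hz, TensorProduct.lid_tmul, one_smul] at this

/-- Gluing data for a module. -/
structure GlueData (hsq : EtMil.IsFibreSquare B' B A' A) (M : Type u) [AddCommGroup M] [Module B' M]
    (N : Type u) [AddCommGroup N] [Module B N] [Module B' N] [IsScalarTower B' B N]
    (M' : Type u) [AddCommGroup M'] [Module A' M'] [Module B' M'] [IsScalarTower B' A' M'] where
  /-- gluing isomorphism -/
  φ : A ⊗[B] N ≃ₗ[A] A ⊗[A'] M'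
  /-- first projection -/
  π₁ : M →ₗ[B'] N
  /-- second projection -/
  π₂ : M →ₗ[B'] M'
  inj : ∀ d : M, π₁ d = 0 → π₂ d = 0 → d = 0
  img : ∀ n m', φ ((1 : A) ⊗ₜ[B] n) = (1 : A) ⊗ₜ[A'] m' ↔ ∃ d : M, π₁ d = n ∧ π₂ d = m'

namespace GlueData

variable {hsq : EtMil.IsFibreSquare B' B A' A} {M N M' : Type u} [AddCommGroup M] [Module B' M]
  [AddCommGroup N] [Module B N] [Module B' N] [IsScalarTower B' B N]
  [AddCommGroup M'] [Module A' M'] [Module B' M'] [IsScalarTower B' A' M']
  (G : GlueData hsq M N M')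

include hsq in
theorem exists_one_tmul (z : A ⊗[A'] M') : ∃ m : M', z = (1 : A) ⊗ₜ[A'] m := by
  induction z with
  | zero => exact ⟨0, by rw [TensorProduct.tmul_zero]⟩
  | add x y hx hy =>
    obtain ⟨m, rfl⟩ := hx
    obtain ⟨m', rfl⟩ := hy
    exact ⟨m + m', by rw [TensorProduct.tmul_add]⟩
  | tmul a m =>
    obtain ⟨a', rfl⟩ := hsq.1 a
    exact ⟨a' • m, by rw [← TensorProduct.smul_tmul, Algebra.smul_def, mul_one]⟩

theorem pi₁_surjective (n : N) : ∃ d, G.π₁ d = n := by
  obtain ⟨m, hm⟩ := exists_one_tmul (hsq := hsq) (G.φ ((1 : A) ⊗ₜ n))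
  obtain ⟨d, hd, -⟩ := (G.img n m).1 hm
  exact ⟨d, hd⟩

theorem exists_zero_pair {m : M'} (hm : m ∈ RingHom.ker (algebraMap A' A) • (⊤ : Submodule A' M')) :
    ∃ d, G.π₁ d = 0 ∧ G.π₂ d = m := by
  refine (G.img 0 m).1 ?_
  rw [TensorProduct.tmul_zero, map_zero]
  refine (Submodule.smul_induction_on hm (fun r hr x _ => ?_) (fun x y hx hy => ?_) :
    (1 : A) ⊗ₜ[A'] m = 0).symm
  · rw [← TensorProduct.smul_tmul, Algebra.smul_def, RingHom.mem_ker.1 hr, zero_mul, TensorProduct.zero_tmul]
  · rw [TensorProduct.tmul_add, hx, hy, add_zero]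

theorem span_pi₂ : Submodule.span A' (Set.range G.π₂) = ⊤ := by
  refine eq_top_iff.2 fun m _ => ?_
  obtain ⟨z, hz⟩ := G.φ.surjective ((1 : A) ⊗ₜ m)
  have key : ∀ z : A ⊗[B] N, ∃ x ∈ Submodule.span A' (Set.range G.π₂), G.φ z = (1 : A) ⊗ₜ[A'] x := by
    intro z
    induction z with
    | zero => exact ⟨0, zero_mem _, by rw [map_zero, TensorProduct.tmul_zero]⟩
    | add x y hx hy =>
      obtain ⟨a, ha, hxa⟩ := hx
      obtain ⟨b, hb, hyb⟩ := hy
      exact ⟨a + b, add_mem ha hb, by rw [map_add, hxa, hyb, TensorProduct.tmul_add]⟩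
    | tmul a n =>
      obtain ⟨d, rfl⟩ := G.pi₁_surjective n
      obtain ⟨a', rfl⟩ := hsq.1 a
      refine ⟨a' • G.π₂ d, Submodule.smul_mem _ _ (Submodule.subset_span ⟨d, rfl⟩), ?_⟩
      rw [show algebraMap A' A a' ⊗ₜ[B] G.π₁ d = algebraMap A' A a' • ((1 : A) ⊗ₜ[B] G.π₁ d) by
        rw [TensorProduct.smul_tmul', smul_eq_mul, mul_one], map_smul, (G.img _ _).2 ⟨d, rfl, rfl⟩,
        TensorProduct.smul_tmul', smul_eq_mul, mul_one, ← TensorProduct.smul_tmul, Algebra.smul_def, mul_one]
  obtain ⟨x, hx, hzx⟩ := key z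
  rw [hz] at hzx
  have hmx : m - x ∈ RingHom.ker (algebraMap A' A) • (⊤ : Submodule A' M') :=
    mem_ker_smul_of_tmul_eq_zero hsq (by rw [TensorProduct.tmul_sub, hzx, sub_self])
  obtain ⟨d, -, hd⟩ := G.exists_zero_pair hmx
  rw [← sub_add_cancel m x, ← hd]
  exact add_mem (Submodule.subset_span ⟨d, rfl⟩) hx

include G in
theorem finite [Module.Finite B N] [Module.Finite A' M'] : Module.Finite B' M := by
  obtain ⟨n₁, g, hg⟩ := Module.Finite.exists_fin (R := B) (M := N)
  choose d hd using fun i => G.pi₁_surjective (g i)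
  obtain ⟨T, hT, hTspan⟩ : ∃ T : Finset M, True ∧ Submodule.span A' (G.π₂ '' T) = ⊤ := by
    classical
    obtain ⟨s, hs, hs'⟩ := Submodule.fg_span_iff_fg_span_finset_subset (R := A') (Set.range G.π₂) |>.1
      (G.span_pi₂ ▸ Module.Finite.fg_top)
    choose pre hpre using fun x : s => hs x.2
    refine ⟨Finset.univ.image pre, trivial, ?_⟩
    rw [Finset.coe_image, ← Set.image_comp, Finset.coe_univ, Set.image_univ,
      show G.π₂ ∘ pre = Subtype.val from funext hpre, Subtype.range_coe_subtype, ← G.span_pi₂, hs']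
    rfl
  refine ⟨Submodule.fg_def.2 ⟨Set.range d ∪ T, (Set.finite_range d).union T.finite_toSet, ?_⟩⟩
  refine eq_top_iff.2 fun x _ => ?_
  set Q := Submodule.span B' (Set.range d ∪ T)
  obtain ⟨q, hq, hqx⟩ : ∃ q ∈ Q, G.π₁ q = G.π₁ x := by
    obtain ⟨c, hc⟩ := Submodule.mem_span_range_iff_exists_fun B |>.1 (hg ▸ Submodule.mem_top (x := G.π₁ x))
    choose c' hc' using fun i => surjective_left hsq (c i)
    refine ⟨∑ i, c' i • d i, Submodule.sum_mem _ fun i _ => Submodule.smul_mem _ _
      (Submodule.subset_span (Or.inl ⟨i, rfl⟩)), ?_⟩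
    simp only [map_sum, map_smul, hd]
    rw [← hc]
    exact Finset.sum_congr rfl fun i _ => by rw [← hc', IsScalarTower.algebraMap_smul]
  have hmem : G.π₂ (x - q) ∈ RingHom.ker (algebraMap A' A) • (⊤ : Submodule A' M') := by
    refine mem_ker_smul_of_tmul_eq_zero hsq ?_
    rw [← (G.img _ _).2 ⟨x - q, rfl, rfl⟩, map_sub, hqx, sub_self, TensorProduct.tmul_zero, map_zero]
  rw [← hTspan] at hmem
  have hQ : ∀ m ∈ RingHom.ker (algebraMap A' A) • Submodule.span A' (G.π₂ '' T),
      ∃ q ∈ Q, G.π₁ q = 0 ∧ G.π₂ q = m := fun m hm => by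
    refine Submodule.smul_induction_on hm (fun r hr y hy => ?_) (fun y z hy hz => ?_)
    · suffices ∀ r, algebraMap A' A r = 0 → ∃ q ∈ Q, G.π₁ q = 0 ∧ G.π₂ q = r • y from this r hr
      induction hy using Submodule.span_induction with
      | mem w hw =>
        obtain ⟨t, ht, rfl⟩ := hw
        intro r hr
        obtain ⟨i, hi, hi'⟩ := exists_ker hsq hr
        refine ⟨i • t, Submodule.smul_mem _ _ (Submodule.subset_span (Or.inr ht)), ?_, ?_⟩
        · rw [map_smul, ← IsScalarTower.algebraMap_smul B i, hi, zero_smul]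
        · rw [map_smul, ← IsScalarTower.algebraMap_smul A' i, hi']
      | zero => exact fun r _ => ⟨0, zero_mem _, map_zero _, by rw [map_zero, smul_zero]⟩
      | add u v _ _ hu hv =>
        intro r hr
        obtain ⟨a, ha, ha1, ha2⟩ := hu r hr
        obtain ⟨b, hb, hb1, hb2⟩ := hv r hr
        exact ⟨a + b, add_mem ha hb, by rw [map_add, ha1, hb1, add_zero], by rw [map_add, ha2, hb2, smul_add]⟩
      | smul c u _ hu =>
        intro r hr
        obtain ⟨a, ha, ha1, ha2⟩ := hu (r * c) (by rw [map_mul, hr, zero_mul])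
        exact ⟨a, ha, ha1, by rw [ha2, mul_smul]⟩
    · obtain ⟨a, ha, ha1, ha2⟩ := hy
      obtain ⟨b, hb, hb1, hb2⟩ := hz
      exact ⟨a + b, add_mem ha hb, by rw [map_add, ha1, hb1, add_zero], by rw [map_add, ha2, hb2]⟩
  obtain ⟨q', hq', h1, h2⟩ := hQ _ hmem
  have : x = q + q' := sub_eq_iff_eq_add'.1 (sub_eq_zero.1 (G.inj (x - q - q')
    (by rw [map_sub, map_sub, hqx, sub_self, h1, sub_zero]) (by rw [map_sub, h2, sub_self])))
  rw [this]
  exact add_mem hq hq'

include G in
/-- The glued module is projective and base changes to the two factors. -/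
theorem main [Module.Finite B N] [Module.Projective B N] [Module.Finite A' M'] [Module.Projective A' M'] :
    Module.Projective B' M ∧ Function.Bijective (G.π₁.liftBaseChange B) ∧
      Function.Bijective (G.π₂.liftBaseChange A') := by
  classical
  have := G.finite
  obtain ⟨n, d, hd⟩ := Module.Finite.exists_fin (R := B') (M := M)
  let p : (Fin n → B') →ₗ[B'] M := Fintype.linearCombination B' d
  let p₁ : (Fin n → B) →ₗ[B] N := Fintype.linearCombination B fun i => G.π₁ (d i)
  let p₂ : (Fin n → A') →ₗ[A'] M' := Fintype.linearCombination A' fun i => G.π₂ (d i)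
  let pA : (Fin n → A) →ₗ[A] A ⊗[A'] M' := Fintype.linearCombination A fun i => (1 : A) ⊗ₜ G.π₂ (d i)
  have hpsurj : Function.Surjective p := by
    intro x
    obtain ⟨c, hc⟩ := Submodule.mem_span_range_iff_exists_fun B' |>.1 (hd ▸ Submodule.mem_top (x := x))
    exact ⟨c, by rw [← hc]; rfl⟩
  have hp₁ : ∀ v : Fin n → B', p₁ (algebraMap B' B ∘ v) = G.π₁ (p v) := fun v => by
    simp [p, p₁, Fintype.linearCombination_apply, map_sum]
  have hp₂ : ∀ v : Fin n → B', p₂ (algebraMap B' A' ∘ v) = G.π₂ (p v) := fun v => by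
    simp [p, p₂, Fintype.linearCombination_apply, map_sum]
  have h₁surj : Function.Surjective p₁ := fun x => by
    obtain ⟨y, rfl⟩ := G.pi₁_surjective x
    obtain ⟨v, rfl⟩ := hpsurj y
    exact ⟨_, hp₁ v⟩
  have h₂surj : Function.Surjective p₂ := by
    rw [← LinearMap.range_eq_top, eq_top_iff, ← G.span_pi₂, Submodule.span_le]
    rintro _ ⟨y, rfl⟩
    obtain ⟨v, rfl⟩ := hpsurj y
    exact ⟨_, hp₂ v⟩
  obtain ⟨s₁, hs₁⟩ := Module.projective_lifting_property p₁ LinearMap.id h₁surj
  obtain ⟨s₂, hs₂⟩ := Module.projective_lifting_property p₂ LinearMap.id h₂surj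
  let α₁ : (Fin n → B) →ₗ[B] (Fin n → A) := (Algebra.linearMap B A).compLeft (Fin n)
  let α₂ : (Fin n → A') →ₗ[A'] (Fin n → A) := (Algebra.linearMap A' A).compLeft (Fin n)
  let σ : A ⊗[A'] M' →ₗ[A] (Fin n → A) := ((α₁ ∘ₗ s₁).liftBaseChange A) ∘ₗ G.φ.symm.toLinearMap
  have hpA₁ : ∀ v, pA (α₁ v) = G.φ ((1 : A) ⊗ₜ[B] p₁ v) := fun v => by
    simp only [pA, α₁, p₁, Fintype.linearCombination_apply, TensorProduct.tmul_sum, map_sum]
    refine Finset.sum_congr rfl fun i _ => ?_
    rw [TensorProduct.tmul_smul, ← IsScalarTower.algebraMap_smul A (v i), map_smul,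
      (G.img _ _).2 ⟨d i, rfl, rfl⟩]
    rfl
  have hpA₂ : ∀ v, pA (α₂ v) = (1 : A) ⊗ₜ[A'] p₂ v := fun v => by
    simp only [pA, α₂, p₂, Fintype.linearCombination_apply, TensorProduct.tmul_sum]
    refine Finset.sum_congr rfl fun i _ => ?_
    rw [TensorProduct.tmul_smul, ← IsScalarTower.algebraMap_smul A (v i)]
    rfl
  have hσ : ∀ z, pA (σ z) = z := fun z => by
    obtain ⟨w, rfl⟩ := G.φ.surjective z
    simp only [σ, LinearMap.comp_apply, LinearEquiv.coe_coe, LinearEquiv.symm_apply_apply]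
    induction w with
    | zero => simp
    | add x y hx hy => rw [map_add, map_add, map_add, hx, hy]
    | tmul a m =>
      rw [LinearMap.liftBaseChange_tmul, map_smul, LinearMap.comp_apply, hpA₁,
        show p₁ (s₁ m) = m from LinearMap.congr_fun hs₁ m, ← map_smul, TensorProduct.smul_tmul', smul_eq_mul,
        mul_one]
  let δ : M' →ₗ[A'] (Fin n → A) := α₂ ∘ₗ s₂ - (σ.restrictScalars A') ∘ₗ TensorProduct.mk A' A M' 1
  obtain ⟨ε₀, hε₀⟩ := Module.projective_lifting_property α₂ δ fun v => by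
    choose w hw using fun i => hsq.1 (v i)
    exact ⟨w, funext hw⟩
  let ε := ε₀ - s₂ ∘ₗ p₂ ∘ₗ ε₀
  have hα₂ε : ∀ m, α₂ (ε m) = δ m := fun m => by
    have hker : (1 : A) ⊗ₜ[A'] p₂ (ε₀ m) = 0 := by
      rw [← hpA₂, show α₂ (ε₀ m) = δ m from LinearMap.congr_fun hε₀ m]
      simp only [δ, LinearMap.sub_apply, LinearMap.comp_apply, map_sub, hpA₂, LinearMap.restrictScalars_apply,
        hσ, show p₂ (s₂ m) = m from LinearMap.congr_fun hs₂ m, TensorProduct.mk_apply, sub_self]
    have hmem := mem_ker_smul_of_tmul_eq_zero hsq hker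
    have h0 : α₂ (s₂ (p₂ (ε₀ m))) = 0 := by
      refine Submodule.smul_induction_on hmem (fun r hr y _ => ?_) (fun y z hy hz => ?_)
      · rw [map_smul, map_smul]
        funext i
        change r • α₂ (s₂ y) i = 0
        rw [Algebra.smul_def, RingHom.mem_ker.1 hr, zero_mul]
      · rw [map_add, map_add, hy, hz, add_zero]
    simp only [ε, LinearMap.sub_apply, LinearMap.comp_apply, map_sub, h0, sub_zero]
    exact LinearMap.congr_fun hε₀ m
  let s₂' := s₂ - ε
  have hs₂' : ∀ m, p₂ (s₂' m) = m := fun m => by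
    simp only [s₂', ε, LinearMap.sub_apply, LinearMap.comp_apply, map_sub,
      show ∀ m, p₂ (s₂ m) = m from LinearMap.congr_fun hs₂, sub_self, sub_zero]
  have hcompat : ∀ x : M, α₁ (s₁ (G.π₁ x)) = α₂ (s₂' (G.π₂ x)) := fun x => by
    simp only [s₂', LinearMap.sub_apply, map_sub, hα₂ε, δ, LinearMap.comp_apply, sub_sub_cancel,
      LinearMap.restrictScalars_apply, TensorProduct.mk_apply, σ, LinearEquiv.coe_coe]
    rw [← (G.img _ _).2 ⟨x, rfl, rfl⟩, LinearEquiv.symm_apply_apply, LinearMap.liftBaseChange_tmul, one_smul,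
      LinearMap.comp_apply]
  choose s hs hsu using fun (x : M) (i : Fin n) =>
    hsq.2 (s₁ (G.π₁ x) i) (s₂' (G.π₂ x) i) (congrFun (hcompat x) i)
  let sl : M →ₗ[B'] (Fin n → B') :=
    { toFun := s
      map_add' := fun x y => funext fun i => ext_pair hsq
        (by rw [Pi.add_apply, map_add, (hs _ i).1, (hs _ i).1, (hs _ i).1, map_add, map_add, Pi.add_apply])
        (by rw [Pi.add_apply, map_add, (hs _ i).2, (hs _ i).2, (hs _ i).2, map_add, map_add, Pi.add_apply])
      map_smul' := fun c x => funext fun i => ext_pair hsq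
        (by rw [RingHom.id_apply, Pi.smul_apply, smul_eq_mul, map_mul, (hs _ i).1, (hs _ i).1, map_smul,
          ← IsScalarTower.algebraMap_smul B c, map_smul, Pi.smul_apply, smul_eq_mul])
        (by rw [RingHom.id_apply, Pi.smul_apply, smul_eq_mul, map_mul, (hs _ i).2, (hs _ i).2, map_smul,
          ← IsScalarTower.algebraMap_smul A' c, map_smul, Pi.smul_apply, smul_eq_mul]) }
  have hsl₁ : ∀ x, algebraMap B' B ∘ sl x = s₁ (G.π₁ x) := fun x => funext fun i => (hs x i).1
  have hsl₂ : ∀ x, algebraMap B' A' ∘ sl x = s₂' (G.π₂ x) := fun x => funext fun i => (hs x i).2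
  have hps : ∀ x, p (sl x) = x := fun x => sub_eq_zero.1 (G.inj _
    (by rw [map_sub, ← hp₁, hsl₁, show p₁ (s₁ (G.π₁ x)) = _ from LinearMap.congr_fun hs₁ _,
      LinearMap.id_apply, sub_self])
    (by rw [map_sub, ← hp₂, hsl₂, hs₂', sub_self]))
  refine ⟨Module.Projective.of_split sl p (LinearMap.ext hps), ?_, ?_⟩
  · let inv : N → B ⊗[B'] M := fun x => ∑ i, s₁ x i ⊗ₜ[B'] d i
    have hinv : ∀ z, inv (G.π₁.liftBaseChange B z) = z := fun z => by
      induction z with
      | zero => simp [inv]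
      | add x y hx hy =>
        simp only [inv, map_add, Pi.add_apply, TensorProduct.add_tmul, Finset.sum_add_distrib] at hx hy ⊢
        rw [hx, hy]
      | tmul b x =>
        conv_rhs => rw [← hps x]
        simp only [inv, LinearMap.liftBaseChange_tmul, map_smul, Pi.smul_apply, p,
          Fintype.linearCombination_apply, TensorProduct.tmul_sum, ← congrFun (hsl₁ x), Function.comp_apply]
        refine Finset.sum_congr rfl fun i _ => ?_
        rw [← TensorProduct.smul_tmul, smul_eq_mul, Algebra.smul_def, mul_comm]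
    refine ⟨Function.LeftInverse.injective hinv, fun x => ?_⟩
    obtain ⟨y, rfl⟩ := G.pi₁_surjective x
    exact ⟨1 ⊗ₜ y, by rw [LinearMap.liftBaseChange_tmul, one_smul]⟩
  · let inv : M' → A' ⊗[B'] M := fun x => ∑ i, s₂' x i ⊗ₜ[B'] d i
    have hinv : ∀ z, inv (G.π₂.liftBaseChange A' z) = z := fun z => by
      induction z with
      | zero => simp [inv]
      | add x y hx hy =>
        simp only [inv, map_add, Pi.add_apply, TensorProduct.add_tmul, Finset.sum_add_distrib] at hx hy ⊢
        rw [hx, hy]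
      | tmul b x =>
        conv_rhs => rw [← hps x]
        simp only [inv, LinearMap.liftBaseChange_tmul, map_smul, Pi.smul_apply, p,
          Fintype.linearCombination_apply, TensorProduct.tmul_sum, ← congrFun (hsl₂ x), Function.comp_apply]
        refine Finset.sum_congr rfl fun i _ => ?_
        rw [← TensorProduct.smul_tmul, smul_eq_mul, Algebra.smul_def, mul_comm]
    refine ⟨Function.LeftInverse.injective hinv, ?_⟩
    rw [← LinearMap.range_eq_top, eq_top_iff, ← G.span_pi₂, Submodule.span_le]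
    rintro _ ⟨y, rfl⟩
    exact ⟨1 ⊗ₜ y, by rw [LinearMap.liftBaseChange_tmul, one_smul]⟩

end GlueData

section OfBaseChange

variable (hsq : EtMil.IsFibreSquare B' B A' A) (M : Type u) [AddCommGroup M] [Module B' M]

include hsq in
theorem subsingleton_of_pair [Subsingleton (B ⊗[B'] M)] [Subsingleton (A' ⊗[B'] M)] : Subsingleton M := by
  refine ⟨fun x y => ?_⟩
  let I := RingHom.ker (algebraMap B' B)
  have hex : Function.Exact I.subtype (Algebra.linearMap B' B) := fun a => by simp [I, RingHom.mem_ker]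
  have key : ∀ x : M, x = 0 := by
    intro x
    obtain ⟨z, hz⟩ := (rTensor_exact M hex (surjective_left hsq) ((1 : B') ⊗ₜ x)).1 (Subsingleton.elim _ _)
    have hI : ∀ w : I ⊗[B'] M, TensorProduct.lid B' M (I.subtype.rTensor M w) = 0 := by
      intro w
      induction w with
      | zero => simp
      | add u v hu hv => rw [map_add, map_add, hu, hv, add_zero]
      | tmul i m =>
        rw [LinearMap.rTensor_tmul, TensorProduct.lid_tmul]
        -- the ideal is an `A'`-module
        have hex' : ∀ a : A', ∃ j : B', algebraMap B' B j = 0 ∧ algebraMap B' A' j = a * algebraMap B' A' i := by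
          intro a
          refine exists_ker hsq ?_
          rw [map_mul, ← IsScalarTower.algebraMap_apply B' A' A, IsScalarTower.algebraMap_apply B' B A,
            RingHom.mem_ker.1 i.2, map_zero, mul_zero]
        choose j hj hj' using hex'
        let J : A' →ₗ[B'] B' :=
          { toFun := j
            map_add' := fun a b => ext_pair hsq (by rw [map_add, hj, hj, hj, add_zero])
              (by rw [map_add, hj', hj', hj', add_mul])
            map_smul' := fun c a => ext_pair hsq (by rw [RingHom.id_apply, smul_eq_mul, map_mul, hj, hj, mul_zero])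
              (by rw [RingHom.id_apply, smul_eq_mul, map_mul, hj', hj', Algebra.smul_def, mul_assoc]) }
        have h1 : J 1 = (i : B') := ext_pair hsq ((hj 1).trans (RingHom.mem_ker.1 i.2).symm)
          ((hj' 1).trans (one_mul _))
        have h2 := congrArg (fun w => TensorProduct.lid B' M (J.rTensor M w))
          (Subsingleton.elim ((1 : A') ⊗ₜ[B'] m) 0)
        simp only [LinearMap.rTensor_tmul, TensorProduct.lid_tmul, map_zero, h1] at h2
        exact h2
    have := hI z
    rwa [hz, TensorProduct.lid_tmul, one_smul] at this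
  rw [key x, key y]

include hsq in
theorem glueData_nonempty [Module.Flat A' (A' ⊗[B'] M)] :
    ∃ φ : A ⊗[B] (B ⊗[B'] M) ≃ₗ[A] A ⊗[A'] (A' ⊗[B'] M),
      (∀ d : M, TensorProduct.mk B' B M 1 d = 0 → TensorProduct.mk B' A' M 1 d = 0 → d = 0) ∧
      ∀ n m', φ ((1 : A) ⊗ₜ[B] n) = (1 : A) ⊗ₜ[A'] m' ↔
        ∃ d : M, TensorProduct.mk B' B M 1 d = n ∧ TensorProduct.mk B' A' M 1 d = m' := by
  let I := RingHom.ker (algebraMap B' B)
  have hex : Function.Exact I.subtype (Algebra.linearMap B' B) := fun a => by simp [I, RingHom.mem_ker]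
  let φ : A ⊗[B] (B ⊗[B'] M) ≃ₗ[A] A ⊗[A'] (A' ⊗[B'] M) :=
    TensorProduct.AlgebraTensorModule.cancelBaseChange B' B A A M ≪≫ₗ
      (TensorProduct.AlgebraTensorModule.cancelBaseChange B' A' A A M).symm
  have hφ : ∀ x : M, φ ((1 : A) ⊗ₜ[B] ((1 : B) ⊗ₜ[B'] x)) = (1 : A) ⊗ₜ[A'] ((1 : A') ⊗ₜ[B'] x) := fun x => by
    simp [φ]
  refine ⟨φ, fun d h1 h2 => ?_, fun n m' => ⟨fun h => ?_, ?_⟩⟩
  · -- injectivity, using flatness
    obtain ⟨z, hz⟩ := (rTensor_exact M hex (surjective_left hsq) ((1 : B') ⊗ₜ d)).1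
      (by rw [LinearMap.rTensor_tmul]; simpa using h1)
    let I' := RingHom.ker (algebraMap A' A)
    choose j hj hj' using fun a : I' => exists_ker hsq (RingHom.mem_ker.1 a.2)
    let J : I' →ₗ[B'] I :=
      { toFun := fun a => ⟨j a, RingHom.mem_ker.2 (hj a)⟩
        map_add' := fun a b => Subtype.ext (ext_pair hsq (by simp [hj]) (by simp [hj']))
        map_smul' := fun c a => Subtype.ext (ext_pair hsq (by simp [hj]) (by simp [hj', Algebra.smul_def])) }
    have hJ : Function.Surjective J := fun i => by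
      refine ⟨⟨algebraMap B' A' i, RingHom.mem_ker.2 ?_⟩, Subtype.ext (ext_pair hsq ?_ ?_)⟩
      · rw [← IsScalarTower.algebraMap_apply, IsScalarTower.algebraMap_apply B' B A, RingHom.mem_ker.1 i.2,
          map_zero]
      · exact (hj _).trans (RingHom.mem_ker.1 i.2).symm
      · exact hj' _
    let e : I' ⊗[A'] (A' ⊗[B'] M) →ₗ[A'] A' ⊗[B'] M :=
      (TensorProduct.lid A' (A' ⊗[B'] M)).toLinearMap ∘ₗ I'.subtype.rTensor _
    have he : Function.Injective e := (TensorProduct.lid A' _).injective.comp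
      (Module.Flat.rTensor_preserves_injective_linearMap I'.subtype I'.injective_subtype)
    let c := (TensorProduct.AlgebraTensorModule.cancelBaseChange B' A' A' I' M)
    have hcomm : ∀ w : I' ⊗[B'] M,
        e (c.symm w) = (1 : A') ⊗ₜ[B'] TensorProduct.lid B' M (I.subtype.rTensor M (J.rTensor M w)) := fun w => by
      induction w with
      | zero => simp
      | add u v hu hv => simp only [map_add, hu, hv, TensorProduct.tmul_add]
      | tmul a m =>
        simp only [c, TensorProduct.AlgebraTensorModule.cancelBaseChange_symm_tmul, e, LinearMap.comp_apply,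
          LinearMap.rTensor_tmul, LinearEquiv.coe_coe, TensorProduct.lid_tmul, Submodule.coe_subtype]
        rw [TensorProduct.smul_tmul', smul_eq_mul, mul_one, ← TensorProduct.smul_tmul]
        congr 1
        change (a : A') = j a • 1
        rw [Algebra.smul_def, hj', mul_one]
    obtain ⟨w, rfl⟩ := LinearMap.rTensor_surjective M hJ z
    have : e (c.symm w) = 0 := by
      rw [hcomm, hz, TensorProduct.lid_tmul, one_smul]
      exact h2
    have hw : w = 0 := c.symm.injective ((he (this.trans (map_zero e).symm)).trans (map_zero c.symm).symm)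
    rw [hw, map_zero, map_zero] at hz
    simpa using (congrArg (TensorProduct.lid B' M) hz).symm
  · obtain ⟨x, rfl⟩ : ∃ x : M, (1 : B) ⊗ₜ[B'] x = n := by
      clear h
      induction n with
      | zero => exact ⟨0, by rw [TensorProduct.tmul_zero]⟩
      | add u v hu hv =>
        obtain ⟨a, rfl⟩ := hu
        obtain ⟨b, rfl⟩ := hv
        exact ⟨a + b, by rw [TensorProduct.tmul_add]⟩
      | tmul b x =>
        obtain ⟨b', rfl⟩ := surjective_left hsq b
        exact ⟨b' • x, by rw [← TensorProduct.smul_tmul, Algebra.smul_def, mul_one]⟩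
    rw [hφ] at h
    have hmem := mem_ker_smul_of_tmul_eq_zero hsq (m := m' - (1 : A') ⊗ₜ[B'] x)
      (by rw [TensorProduct.tmul_sub, h, sub_self])
    obtain ⟨y, hy, hy'⟩ : ∃ y : M, (1 : B) ⊗ₜ[B'] y = 0 ∧ (1 : A') ⊗ₜ[B'] y = m' - (1 : A') ⊗ₜ[B'] x := by
      refine Submodule.smul_induction_on hmem (fun r hr w hw => ?_) (fun u v hu hv => ?_)
      · clear hw
        induction w with
        | zero => exact ⟨0, by simp, by simp⟩
        | add u v hu hv =>
          obtain ⟨a, ha, ha'⟩ := hu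
          obtain ⟨b, hb, hb'⟩ := hv
          exact ⟨a + b, by simp [TensorProduct.tmul_add, ha, hb], by simp [TensorProduct.tmul_add, ha', hb']⟩
        | tmul a m =>
          obtain ⟨i, hi, hi'⟩ := exists_ker hsq (a' := r * a) (by rw [map_mul, RingHom.mem_ker.1 hr, zero_mul])
          refine ⟨i • m, ?_, ?_⟩
          · rw [← TensorProduct.smul_tmul, Algebra.smul_def, hi, zero_mul, TensorProduct.zero_tmul]
          · rw [← TensorProduct.smul_tmul, Algebra.smul_def, hi', mul_one, TensorProduct.smul_tmul', smul_eq_mul]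
      · obtain ⟨a, ha, ha'⟩ := hu
        obtain ⟨b, hb, hb'⟩ := hv
        exact ⟨a + b, by simp [TensorProduct.tmul_add, ha, hb], by simp [TensorProduct.tmul_add, ha', hb']⟩
    refine ⟨x + y, ?_, ?_⟩
    · simp [TensorProduct.tmul_add, hy]
    · simp [TensorProduct.tmul_add, hy']
  · rintro ⟨d, rfl, rfl⟩
    exact hφ d

end OfBaseChange

end AzumayaLib.Milnor
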