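import Groth.Agent.AzumayaLib.Milnor

/-!
# Azumaya algebras over a fibre square
-/

set_option autoImplicit false

universe u

open scoped TensorProduct

namespace AzumayaLib.Milnor

variable {B' B A' A : Type u} [CommRing B'] [CommRing B] [CommRing A'] [CommRing A]
  [Algebra B' B] [Algebra B' A'] [Algebra B A] [Algebra A' A] [Algebra B' A]
  [IsScalarTower B' B A] [IsScalarTower B' A' A]

theorem isAzumaya_of_pair (hsq : EtMil.IsFibreSquare B' B A' A) (D : Type u) [Ring D] [Algebra B' D]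
    [Module.Finite B' D] [Module.Projective B' D] [IsAzumaya B (B ⊗[B'] D)] [IsAzumaya A' (A' ⊗[B'] D)] :
    IsAzumaya B' D := by
  have hb : Function.Bijective (AlgHom.mulLeftRight B' D) := by
    refine bijective_of_subsingleton (fun hfin => ?_) fun π hπ hfin => ?_
    · have := subsingleton_coker (R := B') (B := D) B
      have := subsingleton_coker (R := B') (B := D) A'
      exact subsingleton_of_pair hsq _
    · have := subsingleton_ker B π hπ
      have := subsingleton_ker A' π hπ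
      exact subsingleton_of_pair hsq _
  have hf : FaithfulSMul B' D := by
    refine (faithfulSMul_iff_algebraMap_injective B' D).2 fun x y h => ext_pair hsq ?_ ?_
    · apply FaithfulSMul.algebraMap_injective B (B ⊗[B'] D)
      rw [← IsScalarTower.algebraMap_apply, ← IsScalarTower.algebraMap_apply,
        ← (Algebra.TensorProduct.includeRight : D →ₐ[B'] B ⊗[B'] D).commutes, h, AlgHom.commutes]
    · apply FaithfulSMul.algebraMap_injective A' (A' ⊗[B'] D)
      rw [← IsScalarTower.algebraMap_apply, ← IsScalarTower.algebraMap_apply,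
        ← (Algebra.TensorProduct.includeRight : D →ₐ[B'] A' ⊗[B'] D).commutes, h, AlgHom.commutes]
  exact ⟨hb⟩

theorem isAzumaya_glue (hsq : EtMil.IsFibreSquare B' B A' A) (N : Type u) [Ring N] [Algebra B N]
    [Algebra B' N] [IsScalarTower B' B N] [IsAzumaya B N] (M' : Type u) [Ring M'] [Algebra A' M']
    [Algebra B' M'] [IsScalarTower B' A' M'] [IsAzumaya A' M'] (φ : A ⊗[B] N ≃ₐ[A] A ⊗[A'] M')
    (D : Type u) [Ring D] [Algebra B' D] (π₁ : D →ₐ[B'] N) (π₂ : D →ₐ[B'] M')
    (hinj : ∀ d : D, π₁ d = 0 → π₂ d = 0 → d = 0)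
    (himg : ∀ (n : N) (m' : M'), φ ((1 : A) ⊗ₜ[B] n) = (1 : A) ⊗ₜ[A'] m' ↔ ∃ d : D, π₁ d = n ∧ π₂ d = m') :
    IsAzumaya B' D := by
  let G : GlueData hsq D N M' := ⟨φ.toLinearEquiv, π₁.toLinearMap, π₂.toLinearMap, hinj, himg⟩
  obtain ⟨hproj, h₁, h₂⟩ := G.main
  have := G.finite
  let f₁ : B ⊗[B'] D →ₐ[B] N := Algebra.TensorProduct.lift (Algebra.ofId B N) π₁ fun b d => Algebra.commutes b _
  let f₂ : A' ⊗[B'] D →ₐ[A'] M' :=
    Algebra.TensorProduct.lift (Algebra.ofId A' M') π₂ fun b d => Algebra.commutes b _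
  have e₁ : ⇑f₁ = ⇑(G.π₁.liftBaseChange B) := funext fun z => by
    induction z with
    | zero => simp
    | add x y hx hy => rw [map_add, map_add, hx, hy]
    | tmul b d =>
      refine (Algebra.TensorProduct.lift_tmul (Algebra.ofId B N) π₁ (fun b d => Algebra.commutes b _) b d).trans ?_
      simp [G, Algebra.smul_def, Algebra.ofId_apply]
  have e₂ : ⇑f₂ = ⇑(G.π₂.liftBaseChange A') := funext fun z => by
    induction z with
    | zero => simp
    | add x y hx hy => rw [map_add, map_add, hx, hy]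
    | tmul b d =>
      refine (Algebra.TensorProduct.lift_tmul (Algebra.ofId A' M') π₂ (fun b d => Algebra.commutes b _) b d).trans ?_
      simp [G, Algebra.smul_def, Algebra.ofId_apply]
  have : IsAzumaya B (B ⊗[B'] D) :=
    IsAzumaya.of_AlgEquiv B N _ (AlgEquiv.ofBijective f₁ (e₁ ▸ h₁)).symm
  have : IsAzumaya A' (A' ⊗[B'] D) :=
    IsAzumaya.of_AlgEquiv A' M' _ (AlgEquiv.ofBijective f₂ (e₂ ▸ h₂)).symm
  exact isAzumaya_of_pair hsq D

theorem isAzumaya_iff (hsq : EtMil.IsFibreSquare B' B A' A) (D : Type u) [Ring D] [Algebra B' D] :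
    IsAzumaya B' D ↔ IsAzumaya B (B ⊗[B'] D) ∧ IsAzumaya A' (A' ⊗[B'] D) := by
  refine ⟨fun h => ⟨isAzumaya_baseChange B, isAzumaya_baseChange A'⟩, fun ⟨h₁, h₂⟩ => ?_⟩
  obtain ⟨φ, hinj, himg⟩ := glueData_nonempty hsq D
  let G : GlueData hsq D (B ⊗[B'] D) (A' ⊗[B'] D) :=
    ⟨φ, TensorProduct.mk B' B D 1, TensorProduct.mk B' A' D 1, hinj, himg⟩
  obtain ⟨hproj, -, -⟩ := G.main
  have := G.finite
  exact isAzumaya_of_pair hsq D

end AzumayaLib.Milnor
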