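import Groth.Agent.AzumayaLib.Fibres
import Groth.Agent.CSALib.Split

/-!
# Regular separable elements
-/

set_option autoImplicit false

universe u v w

open scoped TensorProduct Polynomial
open Polynomial Module

namespace AzumayaLib.Reg

theorem linearIndependent_pow_iff {k : Type u} [Field k] {B : Type v} [Ring B] [Algebra k B]
    [FiniteDimensional k B] (x : B) {r : ℕ} :
    LinearIndependent k (fun i : Fin r => x ^ (i : ℕ)) ↔ r ≤ (minpoly k x).natDegree := by
  refine ⟨fun h => ?_, fun h => (linearIndependent_pow x).comp (Fin.castLE h) (Fin.castLE_injective h)⟩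
  by_contra hlt
  push Not at hlt
  set q := minpoly k x with hq
  have h0 : ∑ i : Fin r, q.coeff i • x ^ (i : ℕ) = 0 := by
    rw [Fin.sum_univ_eq_sum_range (fun i => q.coeff i • x ^ i) r, ← Polynomial.aeval_eq_sum_range' hlt,
      minpoly.aeval]
  have hz := Fintype.linearIndependent_iff.1 h _ h0 ⟨q.natDegree, hlt⟩
  rw [Polynomial.coeff_natDegree, (minpoly.monic (IsIntegral.of_finite k x)).leadingCoeff] at hz
  exact one_ne_zero hz

theorem finrank_adjoin {k : Type u} [Field k] {B : Type v} [Ring B] [Nontrivial B] [Algebra k B]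
    [FiniteDimensional k B] (x : B) :
    finrank k (Algebra.adjoin k ({x} : Set B)) = (minpoly k x).natDegree := by
  have hint := IsIntegral.of_finite k x
  have h : Subalgebra.toSubmodule (Algebra.adjoin k ({x} : Set B)) =
      Submodule.span k (Set.range fun i : Fin (minpoly k x).natDegree => x ^ (i : ℕ)) := by
    refine le_antisymm (fun z hz => ?_) (Submodule.span_le.2 ?_)
    · rw [Subalgebra.mem_toSubmodule, Algebra.adjoin_singleton_eq_range_aeval] at hz
      obtain ⟨p, rfl⟩ := hz
      change aeval x p ∈ _
      rw [← Polynomial.aeval_modByMonic_eq_self_of_root (minpoly.aeval k x),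
        Polynomial.aeval_eq_sum_range' (lt_of_lt_of_le
          (Polynomial.natDegree_modByMonic_lt p (minpoly.monic hint) (minpoly.ne_one k x)) le_rfl)]
      exact Submodule.sum_mem _ fun i hi => Submodule.smul_mem _ _
        (Submodule.subset_span ⟨⟨i, Finset.mem_range.1 hi⟩, rfl⟩)
    · rintro _ ⟨i, rfl⟩
      exact pow_mem (Algebra.self_mem_adjoin_singleton k x) _
  rw [← Subalgebra.finrank_toSubmodule, h, finrank_span_eq_card (linearIndependent_pow x), Fintype.card_fin]

/-- A matrix with separable minimal polynomial of full degree has small commutant. -/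
theorem commutant_le {Ω : Type u} [Field Ω] [IsAlgClosed Ω] {r : ℕ} (M : Module.End Ω (Fin r → Ω))
    (hs : (minpoly Ω M).Separable) (hd : (minpoly Ω M).natDegree = r) :
    finrank Ω (LinearMap.ker (LinearMap.mulLeft Ω M - LinearMap.mulRight Ω M)) ≤ r := by
  classical
  let s := (minpoly Ω M).roots.toFinset
  have hcard : s.card = r := by
    rw [Multiset.toFinset_card_of_nodup (Polynomial.nodup_roots hs),
      ← (IsAlgClosed.splits (minpoly Ω M)).natDegree_eq_card_roots, hd]
  have hv : ∀ μ : s, ∃ v, M.HasEigenvector (μ : Ω) v := fun μ =>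
    (Module.End.hasEigenvalue_iff_isRoot.2
      ((Polynomial.mem_roots'.1 (Multiset.mem_toFinset.1 μ.2)).2)).exists_hasEigenvector
  choose v hv using hv
  have hli : LinearIndependent Ω v :=
    Module.End.eigenvectors_linearIndependent' M _ Subtype.val_injective v hv
  have hfr : Fintype.card s = finrank Ω (Fin r → Ω) := by simp [hcard]
  rcases isEmpty_or_nonempty s with hE | hN
  · have hr : r = 0 := by rw [← hcard]; exact Finset.card_eq_zero.2 (Finset.isEmpty_coe_sort.1 hE)
    subst hr
    exact le_of_eq Module.finrank_zero_of_subsingleton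
  let b := basisOfLinearIndependentOfCardEqFinrank hli hfr
  have hb : ∀ μ, b μ = v μ := fun μ => by simp [b]
  let T : LinearMap.ker (LinearMap.mulLeft Ω M - LinearMap.mulRight Ω M) →ₗ[Ω] (s → Ω) :=
    { toFun := fun X μ => b.repr ((X : Module.End Ω (Fin r → Ω)) (b μ)) μ
      map_add' := fun X Y => by funext μ; simp
      map_smul' := fun c X => by funext μ; simp }
  have hdiag : ∀ (X : LinearMap.ker (LinearMap.mulLeft Ω M - LinearMap.mulRight Ω M)) (μ ν : s), ν ≠ μ →
      b.repr ((X : Module.End Ω (Fin r → Ω)) (b μ)) ν = 0 := by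
    intro X μ ν hne
    set X' : Module.End Ω (Fin r → Ω) := X.1
    have hX : M * X' = X' * M := sub_eq_zero.1 (LinearMap.mem_ker.1 X.2)
    have hMb : ∀ μ : s, M (b μ) = (μ : Ω) • b μ := fun μ => by rw [hb]; exact (hv μ).apply_eq_smul
    have h1 : M (X' (b μ)) = (μ : Ω) • X' (b μ) := by
      rw [← Module.End.mul_apply, hX, Module.End.mul_apply, hMb, map_smul]
    have h2 : ∀ y, b.repr (M y) ν = (ν : Ω) * b.repr y ν := fun y => by
      conv_lhs => rw [← b.sum_repr y]
      simp [map_sum, hMb, smul_smul, Finsupp.single_apply, mul_comm]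
    have h3 := h2 (X' (b μ))
    rw [h1, map_smul, Finsupp.smul_apply, smul_eq_mul] at h3
    rcases mul_eq_mul_right_iff.1 h3 with h | h
    · exact absurd (Subtype.val_injective h.symm) hne
    · exact h
  have hinj : Function.Injective T := by
    intro X Y hXY
    refine Subtype.ext (b.ext fun μ => b.repr.injective (Finsupp.ext fun ν => ?_))
    by_cases hne : ν = μ
    · subst hne; exact congrFun hXY ν
    · rw [hdiag X μ ν hne, hdiag Y μ ν hne]
  exact (LinearMap.finrank_le_finrank_of_injective hinj).trans
    (by rw [Module.finrank_fintype_fun_eq_card, hfr]; simp)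

/-- The commutant of a regular separable element of a central simple algebra. -/
theorem centralizer_le {k : Type u} [Field k] (B : Type v) [Ring B] [Algebra k B] [FiniteDimensional k B]
    [Algebra.IsCentral k B] [IsSimpleRing B] {r : ℕ} (hB : finrank k B = r ^ 2) (x : B)
    (hs : (minpoly k x).Separable) (hd : (minpoly k x).natDegree = r) :
    finrank k (LinearMap.ker (LinearMap.mulLeft k x - LinearMap.mulRight k x)) ≤ r := by
  classical
  let Ω := AlgebraicClosure k
  have := isAzumaya_of_csa k B
  obtain ⟨_, _⟩ := fibre_csa (R := k) (A := B) Ω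
  obtain ⟨n, hn, ⟨e⟩⟩ := CSALib.exists_matrix_of_isSepClosed (k := Ω) (Ω ⊗[k] B)
  have hnr : n = r := by
    have h := e.toLinearEquiv.finrank_eq
    rw [Module.finrank_baseChange, hB, CSALib.finrank_matrix_self] at h
    exact (Nat.pow_left_injective two_ne_zero h).symm
  rw [hnr] at e
  let ε := e.trans Matrix.toLinAlgEquiv'
  let y : Ω ⊗[k] B := (1 : Ω) ⊗ₜ[k] x
  have hy0 : Polynomial.aeval y ((minpoly k x).map (algebraMap k Ω)) = 0 := by
    rw [Polynomial.aeval_map_algebraMap]
    show Polynomial.aeval (Algebra.TensorProduct.includeRight (R := k) (A := Ω) x) (minpoly k x) = 0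
    rw [Polynomial.aeval_algHom_apply, minpoly.aeval, map_zero]
  have hyli : LinearIndependent Ω (fun i : Fin r => y ^ (i : ℕ)) := by
    have hinj : Function.Injective (Fintype.linearCombination k (fun i : Fin r => x ^ (i : ℕ))) :=
      ((linearIndependent_pow_iff x).2 hd.ge).fintypeLinearCombination_injective
    have h' : Function.Injective ((Fintype.linearCombination k (fun i : Fin r => x ^ (i : ℕ))).baseChange Ω) :=
      Module.Flat.lTensor_preserves_injective_linearMap _ hinj
    have hb : (fun i : Fin r => y ^ (i : ℕ)) =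
        ((Fintype.linearCombination k (fun i : Fin r => x ^ (i : ℕ))).baseChange Ω) ∘
          ((Pi.basisFun k (Fin r)).baseChange Ω) := by
      funext i
      simp [y, Fintype.linearCombination_apply_single]
    rw [hb]
    exact ((Pi.basisFun k (Fin r)).baseChange Ω).linearIndependent.map' _ (LinearMap.ker_eq_bot.2 h')
  have hmin : minpoly Ω (ε y) = (minpoly k x).map (algebraMap k Ω) := by
    rw [minpoly.algEquiv_eq ε]
    refine Polynomial.eq_of_monic_of_dvd_of_natDegree_le (minpoly.monic (IsIntegral.of_finite Ω y))
      ((minpoly.monic (IsIntegral.of_finite k x)).map _) (minpoly.dvd Ω y hy0) ?_ |>.symm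
    rw [Polynomial.natDegree_map, hd]
    exact (linearIndependent_pow_iff y).1 hyli
  have hle := commutant_le (ε y) (by rw [hmin]; exact hs.map) (by rw [hmin, Polynomial.natDegree_map, hd])
  set Z := LinearMap.ker (LinearMap.mulLeft k x - LinearMap.mulRight k x)
  let j : Ω ⊗[k] Z →ₗ[Ω] Module.End Ω (Fin r → Ω) := ε.toLinearMap.comp (Z.subtype.baseChange Ω)
  have hj : Function.Injective j :=
    ε.injective.comp (Module.Flat.lTensor_preserves_injective_linearMap Z.subtype Subtype.val_injective)
  have hjmem : ∀ w, j w ∈ LinearMap.ker (LinearMap.mulLeft Ω (ε y) - LinearMap.mulRight Ω (ε y)) := by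
    intro w
    induction w with
    | zero => simp
    | add a b ha hb => rw [map_add]; exact add_mem ha hb
    | tmul c z =>
      have hz : x * (z : B) = (z : B) * x := sub_eq_zero.1 (LinearMap.mem_ker.1 z.2)
      show ε y * ε (c ⊗ₜ (z : B)) - ε (c ⊗ₜ (z : B)) * ε y = 0
      rw [← map_mul, ← map_mul, sub_eq_zero]
      simp [y, hz]
  have := LinearMap.finrank_le_finrank_of_injective (f := j.codRestrict _ hjmem)
    (fun a b h => hj (congrArg Subtype.val h))
  rw [Module.finrank_baseChange] at this
  exact this.trans hle

theorem exists_regular {k : Type u} [Field k] (B : Type v) [Ring B] [Algebra k B] [FiniteDimensional k B]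
    [Algebra.IsCentral k B] [IsSimpleRing B] {r : ℕ} (hB : finrank k B = r ^ 2) :
    ∃ x : B, (minpoly k x).Separable ∧ (minpoly k x).natDegree = r := by
  classical
  obtain ⟨m, D, _, _, hm, _, _, ⟨e⟩⟩ := CSALib.wedderburn (k := k) B
  obtain ⟨K, _, _, ι, _, _, hK⟩ := CSALib.exists_separable_maximal_subfield (k := k) D
  have hr : r = m * finrank k K := by
    have h := e.toLinearEquiv.finrank_eq
    rw [hB, CSALib.finrank_matrix_fin, ← hK, ← mul_pow] at h
    exact Nat.pow_left_injective two_ne_zero h
  suffices ∃ M : Matrix (Fin m) (Fin m) D, (minpoly k M).Separable ∧ (minpoly k M).natDegree = r by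
    obtain ⟨M, h1, h2⟩ := this
    exact ⟨e.symm M, by rwa [minpoly.algEquiv_eq], by rwa [minpoly.algEquiv_eq]⟩
  cases finite_or_infinite k with
  | inl hfin =>
    have : Finite D := Module.finite_of_finite k
    have hcomm : ∀ a b : D, a * b = b * a := fun a b => (littleWedderburn D).mul_comm a b
    have hD1 : finrank k D = 1 := by
      rw [← Subalgebra.bot_eq_top_iff_finrank_eq_one, eq_comm, eq_bot_iff]
      intro z _
      exact Algebra.IsCentral.out (Subalgebra.mem_center_iff.2 fun b => hcomm b z)
    have hK1 : finrank k K = 1 := by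
      rw [hD1] at hK
      exact (Nat.pow_eq_one.1 hK).resolve_right two_ne_zero
    rw [hK1, mul_one] at hr
    subst hr
    have : Fact (0 < r) := ⟨hm⟩
    obtain ⟨p, hp⟩ := CharP.exists k
    have : Fact p.Prime := ⟨CharP.char_is_prime k p⟩
    have : NeZero r := ⟨hm.ne'⟩
    let L := FiniteField.Extension k p r
    obtain ⟨θ, hθ⟩ := Field.exists_primitive_element k L
    let f : L →ₐ[k] Matrix (Fin r) (Fin r) D :=
      (Algebra.ofId k D).mapMatrix.comp (Algebra.leftMulMatrix (Module.finBasisOfFinrankEq k L
        (FiniteField.finrank_extension k p r)))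
    refine ⟨f θ, ?_, ?_⟩
    · rw [minpoly.algHom_eq f f.toRingHom.injective]
      exact Algebra.IsSeparable.isSeparable k θ
    · rw [minpoly.algHom_eq f f.toRingHom.injective, ← IntermediateField.adjoin.finrank
        (IsIntegral.of_finite k θ), hθ, IntermediateField.finrank_top', FiniteField.finrank_extension]
  | inr hinf =>
    obtain ⟨θ, hθ⟩ := Field.exists_primitive_element k K
    set g := minpoly k θ with hg
    have hgd : g.natDegree = finrank k K := by
      rw [hg, ← IntermediateField.adjoin.finrank (IsIntegral.of_finite k θ), hθ,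
        IntermediateField.finrank_top']
    let Ω := AlgebraicClosure k
    let S : Set k := {c | ∃ a ∈ (g.map (algebraMap k Ω)).roots.toFinset,
      ∃ b ∈ (g.map (algebraMap k Ω)).roots.toFinset, algebraMap k Ω c = a - b}
    have hS : S.Finite := by
      refine Set.Finite.subset (((g.map (algebraMap k Ω)).roots.toFinset ×ˢ
        (g.map (algebraMap k Ω)).roots.toFinset).image
          (fun q : Ω × Ω => q.1 - q.2) |>.finite_toSet.preimage
            (algebraMap k Ω).injective.injOn) ?_
      rintro c ⟨a, ha, b, hb, h⟩
      simp only [Set.mem_preimage, Finset.mem_coe, Finset.mem_image, Finset.mem_product]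
      exact ⟨(a, b), ⟨ha, hb⟩, h.symm⟩
    have hc : ∀ n : ℕ, ∃ c : Fin n → k, ∀ i j, i ≠ j → c i - c j ∉ S := by
      intro n
      induction n with
      | zero => exact ⟨Fin.elim0, fun i => i.elim0⟩
      | succ n ih =>
        obtain ⟨c, hc⟩ := ih
        obtain ⟨z, hz⟩ := (Set.Finite.biUnion (Set.toFinite (Set.univ : Set (Fin n))) (fun i _ =>
          ((hS.image (fun s => c i + s)).union (hS.image (fun s => c i - s))))).exists_notMem
        simp only [Set.mem_iUnion, Set.mem_univ, Set.mem_union, Set.mem_image, exists_prop, true_and,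
          not_exists, not_or, not_and] at hz
        refine ⟨Fin.snoc c z, fun i j hij => ?_⟩
        refine Fin.lastCases ?_ ?_ i (motive := fun i => i ≠ j → (Fin.snoc c z : Fin (n+1) → k) i -
          (Fin.snoc c z : Fin (n+1) → k) j ∉ S) hij
        · refine Fin.lastCases ?_ ?_ j
          · exact fun h => absurd rfl h
          · intro j _ h
            rw [Fin.snoc_last, Fin.snoc_castSucc] at h
            exact (hz j).1 _ h (by ring)
        · intro i
          refine Fin.lastCases ?_ ?_ j
          · intro _ h
            rw [Fin.snoc_last, Fin.snoc_castSucc] at h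
            exact (hz i).2 _ h (by ring)
          · intro j hij'
            rw [Fin.snoc_castSucc, Fin.snoc_castSucc]
            exact hc i j fun h => hij' (by rw [h])
    obtain ⟨c, hc⟩ := hc m
    let gi : Fin m → k[X] := fun i => g.comp (X - C (c i))
    have hgi : ∀ i, gi i = minpoly k (θ + algebraMap k K (c i)) := fun i =>
      (minpoly.add_algebraMap θ (c i)).symm
    have hsep : ∀ i, (gi i).Separable := fun i => by rw [hgi]; exact Algebra.IsSeparable.isSeparable k _
    have hdeg : ∀ i, (gi i).natDegree = finrank k K := fun i => by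
      simp [gi, Polynomial.natDegree_comp, hgd]
    have hcop : Pairwise (Function.onFun IsCoprime gi) := by
      intro i j hij
      refine (Polynomial.isCoprime_iff_aeval_ne_zero_of_isAlgClosed (k := k) Ω (gi i) (gi j)).2 ?_
      intro a
      by_contra h
      push Not at h
      obtain ⟨h1, h2⟩ := h
      simp only [gi, Polynomial.aeval_comp, map_sub, aeval_X, aeval_C] at h1 h2
      refine hc i j hij ?_
      have hmem : ∀ t, aeval t g = 0 → t ∈ (g.map (algebraMap k Ω)).roots.toFinset := fun t ht => by
        rw [Multiset.mem_toFinset, Polynomial.mem_roots', Polynomial.IsRoot, Polynomial.eval_map,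
          ← Polynomial.aeval_def]
        exact ⟨Polynomial.map_ne_zero (minpoly.ne_zero (IsIntegral.of_finite k θ)), ht⟩
      exact ⟨_, hmem _ h2, _, hmem _ h1, by rw [map_sub]; ring⟩
    let φ : (Fin m → K) →ₐ[k] Matrix (Fin m) (Fin m) D :=
      (Matrix.diagonalAlgHom k).comp (AlgHom.compLeft ι (Fin m))
    have hφ : Function.Injective φ := fun a b h => funext fun i => ι.toRingHom.injective (by
      have h' := congrFun (congrFun h i) i
      simpa [φ] using h')
    let x : Fin m → K := fun i => θ + algebraMap k K (c i)
    refine ⟨φ x, ?_⟩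
    rw [minpoly.algHom_eq φ hφ]
    have hmin : minpoly k x = ∏ i, gi i := by
      refine Polynomial.eq_of_monic_of_associated (minpoly.monic (IsIntegral.of_finite k x))
        (Polynomial.monic_prod_of_monic _ _ fun i _ => by rw [hgi]; exact minpoly.monic (IsIntegral.of_finite k _))
        (associated_of_dvd_dvd (minpoly.dvd k x ?_) ?_)
      · funext i
        refine ((Polynomial.aeval_algHom_apply (Pi.evalAlgHom k (fun _ : Fin m => K) i) x _).symm).trans ?_
        rw [map_prod, Pi.zero_apply]
        exact Finset.prod_eq_zero (Finset.mem_univ i) (by rw [hgi]; exact minpoly.aeval k _)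
      · refine Fintype.prod_dvd_of_coprime hcop fun i => ?_
        rw [hgi]
        refine minpoly.dvd k _ ?_
        have := congrFun (minpoly.aeval k x) i
        exact (Polynomial.aeval_algHom_apply (Pi.evalAlgHom k (fun _ : Fin m => K) i) x _).trans this
    rw [hmin]
    refine ⟨Polynomial.separable_prod hcop hsep, ?_⟩
    rw [Polynomial.natDegree_prod_of_monic _ _ fun i _ => by
      rw [hgi]; exact minpoly.monic (IsIntegral.of_finite k _)]
    simp [hdeg, hr]

end AzumayaLib.Reg
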