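import Groth.Agent.AzumayaLib.SplitLocal

/-!
# Étale covers splitting an Azumaya algebra
-/

set_option autoImplicit false

universe u v

open scoped TensorProduct Polynomial
open Polynomial Module

namespace AzumayaLib.SplitLoc

variable {R : Type u} [CommRing R] {A : Type v} [Ring A] [Algebra R A] [IsAzumaya R A]

theorem exists_split (p : Ideal R) [p.IsPrime] :
    ∃ f : R, f ∉ p ∧ ∃ (R' : Type u) (_ : CommRing R') (_ : Algebra R R') (_ : Algebra (Localization.Away f) R')
      (_ : IsScalarTower R (Localization.Away f) R'), Module.Finite (Localization.Away f) R' ∧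
        Algebra.Etale (Localization.Away f) R' ∧ Module.FaithfullyFlat (Localization.Away f) R' ∧
          ∃ r : ℕ, 1 ≤ r ∧ Nonempty ((R' ⊗[R] A) ≃ₐ[R'] Matrix (Fin r) (Fin r) R') := by
  classical
  obtain ⟨r, ξ, F, w, hr, hFm, hFd, hξF, hFs, hbij⟩ := exists_local_data (A := A) p
  obtain ⟨g, hg, hgbij⟩ := exists_away_bijective _ p hbij
  have := hFm.finite_adjoinRoot
  have hunit : IsUnit ((1 : p.ResidueField) ⊗ₜ[R] (AdjoinRoot.mk F (derivative F))) := by
    obtain ⟨a, b, hab⟩ := hFs
    have h := congrArg (aeval ((1 : p.ResidueField) ⊗ₜ[R] AdjoinRoot.root F)) hab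
    have hF0 : aeval ((1 : p.ResidueField) ⊗ₜ[R] AdjoinRoot.root F) (F.map (algebraMap R p.ResidueField)) = 0 := by
      rw [aeval_map_algebraMap]
      show aeval (Algebra.TensorProduct.includeRight (R := R) (A := p.ResidueField) (AdjoinRoot.root F)) F = 0
      rw [aeval_algHom_apply, AdjoinRoot.aeval_eq, AdjoinRoot.mk_self, map_zero]
    have hF1 : aeval ((1 : p.ResidueField) ⊗ₜ[R] AdjoinRoot.root F)
        (derivative (F.map (algebraMap R p.ResidueField))) =
        (1 : p.ResidueField) ⊗ₜ[R] (AdjoinRoot.mk F (derivative F)) := by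
      rw [derivative_map, aeval_map_algebraMap]
      show aeval (Algebra.TensorProduct.includeRight (R := R) (A := p.ResidueField) (AdjoinRoot.root F)) _ = _
      rw [aeval_algHom_apply, AdjoinRoot.aeval_eq]
      rfl
    rw [map_add, map_mul, map_mul, hF0, hF1, mul_zero, zero_add, map_one, mul_comm] at h
    exact IsUnit.of_mul_eq_one _ h
  obtain ⟨g', hg', hgu⟩ := exists_isUnit_away.{u, u, u} p hunit
  set f := g * g' with hfdef
  have hf : f ∉ p := fun hm => ((‹p.IsPrime›).mem_or_mem hm).elim hg hg'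
  refine ⟨f, hf, ?_⟩
  let S := Localization.Away f
  have hfu : IsUnit (algebraMap R S f) := IsLocalization.Away.algebraMap_isUnit f
  have hgg : IsUnit (algebraMap R S g * algebraMap R S g') := by rw [← map_mul]; exact hfu
  have hgS : IsUnit (algebraMap R S g) := (IsUnit.mul_iff.1 hgg).1
  have hgS' : IsUnit (algebraMap R S g') := (IsUnit.mul_iff.1 hgg).2
  have : Nontrivial S := by
    refine ⟨⟨0, 1, fun h01 => ?_⟩⟩
    have h0 : algebraMap R S 1 = algebraMap R S 0 := by rw [map_one, map_zero]; exact h01.symm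
    obtain ⟨⟨_, n, rfl⟩, hn⟩ := (IsLocalization.eq_iff_exists (Submonoid.powers f) S).1 h0
    simp only [mul_one, mul_zero] at hn
    exact hf ((‹p.IsPrime›).mem_of_pow_mem n (hn ▸ p.zero_mem))
  set FS := F.map (algebraMap R S) with hFSdef
  have hFSm : FS.Monic := hFm.map _
  have hFSd : FS.natDegree = r := by rw [hFSdef, hFm.natDegree_map, hFd]
  let E := AdjoinRoot FS
  have hfin := hFSm.finite_adjoinRoot
  have hfree := hFSm.free_adjoinRoot
  let pb := AdjoinRoot.powerBasis' hFSm
  have hdim : pb.dim = r := hFSd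
  have : Nontrivial E := Module.nontrivial_of_finrank_pos (R := S) (by rw [pb.finrank, hdim]; exact hr)
  have hFSs : FS.Separable := by
    let j₀ : AdjoinRoot F →ₐ[R] E := AdjoinRoot.mapAlgHom (Algebra.ofId R S) F FS dvd_rfl
    let j : S ⊗[R] AdjoinRoot F →ₐ[S] E :=
      Algebra.TensorProduct.lift (Algebra.ofId S E) j₀ fun s e => Commute.all _ _
    have h := (hgu S hgS').map j
    rw [show j ((1 : S) ⊗ₜ[R] AdjoinRoot.mk F (derivative F)) = AdjoinRoot.mk FS (derivative FS) by
      simp [j, j₀, FS, AdjoinRoot.mapAlgHom, AdjoinRoot.map]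
      rw [← Polynomial.eval₂_map, ← AdjoinRoot.algebraMap_eq, ← Polynomial.aeval_def, AdjoinRoot.aeval_eq]] at h
    obtain ⟨v, hv⟩ := h.exists_left_inv
    obtain ⟨v, rfl⟩ := AdjoinRoot.mk_surjective v
    rw [← map_mul, ← map_one (AdjoinRoot.mk FS), AdjoinRoot.mk_eq_mk] at hv
    obtain ⟨q, hq⟩ := hv
    exact ⟨-q, v, by linear_combination hq⟩
  let ξS : S ⊗[R] A := (1 : S) ⊗ₜ[R] ξ
  let u : E →ₐ[S] S ⊗[R] A :=
    Ideal.Quotient.liftₐ (Ideal.span {FS}) (aeval ξS) fun a ha => by
      obtain ⟨t, rfl⟩ := Ideal.mem_span_singleton'.1 ha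
      rw [map_mul, hFSdef, aeval_map_algebraMap]
      show _ * aeval (Algebra.TensorProduct.includeRight (R := R) (A := S) ξ) F = 0
      rw [aeval_algHom_apply, hξF, map_zero, mul_zero]
  have hroot : u (AdjoinRoot.root FS) = ξS := aeval_X ξS
  let _ : Module E (S ⊗[R] A) :=
    { smul := fun e b => b * u e
      one_smul := fun b => by show b * u 1 = b; rw [map_one, mul_one]
      mul_smul := fun e e' b => by show b * u (e * e') = b * u e' * u e; rw [mul_comm e, map_mul, mul_assoc]
      smul_zero := fun e => zero_mul _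
      smul_add := fun e b b' => add_mul _ _ _
      add_smul := fun e e' b => by show b * u (e + e') = _; rw [map_add, mul_add]; rfl
      zero_smul := fun b => by show b * u 0 = 0; rw [map_zero, mul_zero] }
  have hmod : ∀ (e : E) (b : S ⊗[R] A), e • b = b * u e := fun e b => rfl
  have : IsScalarTower S E (S ⊗[R] A) :=
    ⟨fun s e b => by rw [hmod, hmod, map_smul, mul_smul_comm]⟩
  let bl := (Pi.basisFun R (Fin r × Fin r)).baseChange S
  let l := (Fintype.linearCombination R (fun ij : Fin r × Fin r => w ij.1 * ξ ^ (ij.2 : ℕ))).baseChange S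
  let bA : Basis (Fin r × Fin r) S (S ⊗[R] A) := bl.map (LinearEquiv.ofBijective l (hgbij S hgS))
  have hbA : ∀ ij, bA ij = ((1 : S) ⊗ₜ[R] w ij.1) * ξS ^ (ij.2 : ℕ) := fun ij => by
    simp [bA, bl, l, ξS, Fintype.linearCombination_apply_single]
    rw [Algebra.TensorProduct.tmul_pow, one_pow, Algebra.TensorProduct.tmul_mul_tmul, one_mul]
  let Θ : (Fin r → E) →ₗ[E] S ⊗[R] A := Fintype.linearCombination E (fun i => (1 : S) ⊗ₜ[R] w i)
  let eb : Basis (Fin r × Fin r) S (Fin r → E) :=
    ((pb.basis.reindex (finCongr hdim)).smulTower (Pi.basisFun E (Fin r))).reindex (Equiv.prodComm _ _)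
  have heb : ∀ ij, Θ (eb ij) = bA ij := fun ij => by
    simp only [eb, Basis.reindex_apply, Basis.smulTower_apply, Equiv.prodComm_symm, Equiv.prodComm_apply,
      Prod.fst_swap, Prod.snd_swap, Pi.basisFun_apply, map_smul, Θ,
      Fintype.linearCombination_apply_single, one_smul]
    rw [hmod, hbA]
    congr 1
    rw [pb.coe_basis, map_pow]
    congr 1
  have hΘ : Θ.restrictScalars S = (eb.equiv bA (Equiv.refl _)).toLinearMap := eb.ext fun ij => by
    rw [LinearMap.restrictScalars_apply, heb, LinearEquiv.coe_coe, Basis.equiv_apply, Equiv.refl_apply]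
  have hΘbij : Function.Bijective Θ := by
    have := (eb.equiv bA (Equiv.refl _)).bijective
    rw [← LinearEquiv.coe_coe, ← hΘ] at this
    exact this
  let b : Basis (Fin r) E (S ⊗[R] A) := (Pi.basisFun E (Fin r)).map (LinearEquiv.ofBijective Θ hΘbij)
  have : IsScalarTower R E (S ⊗[R] A) :=
    ⟨fun c e b => by rw [hmod, hmod, AlgHom.map_smul_of_tower, mul_smul_comm]⟩
  let mulA : A →ₐ[R] Module.End E (S ⊗[R] A) :=
    { toFun := fun a =>
        { toFun := fun x => ((1 : S) ⊗ₜ[R] a) * x
          map_add' := mul_add _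
          map_smul' := fun e x => by simp only [hmod, RingHom.id_apply, mul_assoc] }
      map_one' := LinearMap.ext fun x => by
        show (1 : S) ⊗ₜ[R] (1 : A) * x = x
        rw [← Algebra.TensorProduct.one_def, one_mul]
      map_mul' := fun a a' => LinearMap.ext fun x => by
        show (1 : S) ⊗ₜ[R] (a * a') * x = (1 : S) ⊗ₜ[R] a * ((1 : S) ⊗ₜ[R] a' * x)
        rw [← mul_assoc, Algebra.TensorProduct.tmul_mul_tmul, mul_one]
      map_zero' := LinearMap.ext fun x => by
        show (1 : S) ⊗ₜ[R] (0 : A) * x = 0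
        rw [TensorProduct.tmul_zero, zero_mul]
      map_add' := fun a a' => LinearMap.ext fun x => by
        show (1 : S) ⊗ₜ[R] (a + a') * x = (1 : S) ⊗ₜ[R] a * x + (1 : S) ⊗ₜ[R] a' * x
        rw [TensorProduct.tmul_add, add_mul]
      commutes' := fun c => LinearMap.ext fun x => by
        show (1 : S) ⊗ₜ[R] algebraMap R A c * x = c • x
        rw [Algebra.algebraMap_eq_smul_one, TensorProduct.tmul_smul, ← Algebra.TensorProduct.one_def,
          smul_mul_assoc, one_mul] }
  let Φ : E ⊗[R] A →ₐ[E] Module.End E (S ⊗[R] A) :=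
    Algebra.TensorProduct.lift (Algebra.ofId E _) mulA fun e a => Algebra.commutes e _
  have := isAzumaya_baseChange (R := R) (A := A) E
  have hrk : ∀ (q : Ideal E) [q.IsMaximal], finrank (E ⧸ q) ((E ⧸ q) ⊗[E] (E ⊗[R] A)) = r ^ 2 := by
    intro q hq
    let _ : Field (E ⧸ q) := Ideal.Quotient.field q
    have : Module.Free S (S ⊗[R] A) := Module.Free.of_basis bA
    rw [(TensorProduct.AlgebraTensorModule.cancelBaseChange R E (E ⧸ q) (E ⧸ q) A).finrank_eq,
      ← (TensorProduct.AlgebraTensorModule.cancelBaseChange R S (E ⧸ q) (E ⧸ q) A).finrank_eq,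
      Module.finrank_baseChange, finrank_eq_card_basis bA, Fintype.card_prod, Fintype.card_fin, sq]
  have hbijM := Spl.bijective_to_matrix hr hrk ((algEquivMatrix b).toAlgHom.comp Φ)
  exact ⟨E, inferInstance, inferInstance, inferInstance, inferInstance, hfin, Et.etale_adjoinRoot hFSm hFSs,
    inferInstance, r, hr, ⟨AlgEquiv.ofBijective _ hbijM⟩⟩

end AzumayaLib.SplitLoc
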