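import Groth.Agent.AzumayaLib.Split

/-!
# Étale-local splitting of Azumaya algebras
-/

set_option autoImplicit false

universe u v w

open scoped TensorProduct Polynomial
open Polynomial Module

namespace AzumayaLib.SplitLoc

variable {k : Type u} [Field k] {B : Type v} [Ring B] [Algebra k B]

theorem separable_smul [FiniteDimensional k B] {x : B} {c : k} (hc : c ≠ 0)
    (hs : (minpoly k x).Separable) :
    (minpoly k (c • x)).Separable ∧ (minpoly k (c • x)).natDegree = (minpoly k x).natDegree := by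
  have hd : ∀ (y : B) (d : k), d ≠ 0 → (minpoly k (d • y)).natDegree ≤ (minpoly k y).natDegree := by
    intro y d hd
    refine (Polynomial.natDegree_le_of_dvd (minpoly.dvd k (d • y) (p := (minpoly k y).scaleRoots d) ?_)
      ((Polynomial.monic_scaleRoots_iff d).2 (minpoly.monic (IsIntegral.of_finite k y))).ne_zero).trans
        (Polynomial.natDegree_scaleRoots _ _).le
    rw [Algebra.smul_def]
    exact Polynomial.scaleRoots_aeval_eq_zero (minpoly.aeval k y)
  have heq : (minpoly k (c • x)).natDegree = (minpoly k x).natDegree :=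
    le_antisymm (hd x c hc) (by simpa [smul_smul, inv_mul_cancel₀ hc] using hd (c • x) c⁻¹ (inv_ne_zero hc))
  refine ⟨?_, heq⟩
  set g := (minpoly k x).comp (C c⁻¹ * X)
  have hg : g.Separable := by
    obtain ⟨a, b, hab⟩ := hs
    refine ⟨a.comp (C c⁻¹ * X), C c * b.comp (C c⁻¹ * X), ?_⟩
    have h := congrArg (fun q : k[X] => q.comp (C c⁻¹ * X)) hab
    simp only [Polynomial.add_comp, Polynomial.mul_comp, Polynomial.one_comp] at h
    rw [Polynomial.derivative_comp, Polynomial.derivative_mul, Polynomial.derivative_C, zero_mul, zero_add,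
      Polynomial.derivative_X, mul_one]
    calc a.comp (C c⁻¹ * X) * g + C c * b.comp (C c⁻¹ * X) *
          (C c⁻¹ * (derivative (minpoly k x)).comp (C c⁻¹ * X))
        = a.comp (C c⁻¹ * X) * g + (C c * C c⁻¹) *
          (b.comp (C c⁻¹ * X) * (derivative (minpoly k x)).comp (C c⁻¹ * X)) := by ring
      _ = 1 := by rw [← C_mul, mul_inv_cancel₀ hc, C_1, one_mul]; exact h
  refine hg.of_dvd (minpoly.dvd k _ ?_)
  rw [Polynomial.aeval_comp, map_mul, aeval_C, aeval_X, ← Algebra.smul_def, smul_smul, inv_mul_cancel₀ hc,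
    one_smul, minpoly.aeval]

theorem exists_basis [FiniteDimensional k B] [Algebra.IsCentral k B] [IsSimpleRing B] {r : ℕ}
    (hB : finrank k B = r ^ 2) (x : B) (hs : (minpoly k x).Separable) (hd : (minpoly k x).natDegree = r) :
    ∃ w : Fin r → B, LinearIndependent k (fun ij : Fin r × Fin r => w ij.1 * x ^ (ij.2 : ℕ)) := by
  classical
  have := isAzumaya_of_csa k B
  have hm := minpoly.monic (IsIntegral.of_finite k x)
  let E := AdjoinRoot (minpoly k x)
  have := Et.etale_adjoinRoot hm hs
  have := hm.finite_adjoinRoot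
  have := hm.free_adjoinRoot
  let pb := AdjoinRoot.powerBasis' hm
  let u : E →ₐ[k] B :=
    Ideal.Quotient.liftₐ (Ideal.span {minpoly k x}) (aeval x) fun a ha => by
      obtain ⟨t, rfl⟩ := Ideal.mem_span_singleton'.1 ha
      rw [map_mul, minpoly.aeval, mul_zero]
  have hroot : u (AdjoinRoot.root _) = x := aeval_X x
  have huinj : Function.Injective u := by
    rw [injective_iff_map_eq_zero]
    intro e he
    obtain ⟨q, rfl⟩ := AdjoinRoot.mk_surjective e
    exact AdjoinRoot.mk_eq_zero.2 (minpoly.dvd k x he)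
  let _ : Module E B :=
    { smul := fun e b => b * u e
      one_smul := fun b => by show b * u 1 = b; rw [map_one, mul_one]
      mul_smul := fun e e' b => by show b * u (e * e') = b * u e' * u e; rw [mul_comm e, map_mul, mul_assoc]
      smul_zero := fun e => zero_mul _
      smul_add := fun e b b' => add_mul _ _ _
      add_smul := fun e e' b => by show b * u (e + e') = _; rw [map_add, mul_add]; rfl
      zero_smul := fun b => by show b * u 0 = 0; rw [map_zero, mul_zero] }
  have hmod : ∀ (e : E) (b : B), e • b = b * u e := fun e b => rfl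
  have hu : Function.Injective (u.toLinearMap.lTensor (IsLocalRing.ResidueField k)) :=
    Module.Flat.lTensor_preserves_injective_linearMap _ huinj
  obtain ⟨hfree, hrk, -⟩ := Spl.free_and_split hB (by rw [pb.finrank]; exact hd) u hu hmod
  have : IsScalarTower k E B := Spl.isScalarTower_of_hmod u hmod
  have : Module.Finite E B := Module.Finite.of_restrictScalars_finite k E B
  have : Nontrivial E := by
    have : Nontrivial B := inferInstance
    exact ⟨⟨0, 1, fun h => zero_ne_one (α := B) (by rw [← map_zero u, ← map_one u, h])⟩⟩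
  let b := Module.finBasisOfFinrankEq E B hrk
  have hdim : pb.dim = r := hd
  let bb := (pb.basis.reindex (finCongr hdim)).smulTower b
  refine ⟨fun i => b i, ?_⟩
  have hli := bb.linearIndependent.comp (fun ij : Fin r × Fin r => (ij.2, ij.1)) Prod.swap_injective
  have heq : (fun ij : Fin r × Fin r => b ij.1 * x ^ (ij.2 : ℕ)) = bb ∘ fun ij => (ij.2, ij.1) := by
    funext ij
    rw [Function.comp_apply, Basis.smulTower_apply, hmod, Basis.reindex_apply, pb.coe_basis, map_pow]
    congr 1
    simp only [finCongr_symm, finCongr_apply_coe]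
    show x ^ (ij.2 : ℕ) = u (AdjoinRoot.root _) ^ (ij.2 : ℕ)
    rw [hroot]
  show LinearIndependent k (fun ij : Fin r × Fin r => b ij.1 * x ^ (ij.2 : ℕ))
  rw [heq]
  exact hli

variable {R : Type u} [CommRing R]

theorem exists_away_bijective {ι : Type w} [Finite ι] {M : Type v} [AddCommGroup M] [Module R M]
    [Module.Finite R M] [Module.Projective R M] (l : (ι → R) →ₗ[R] M) (p : Ideal R) [p.IsPrime]
    (hl : Function.Bijective (l.baseChange p.ResidueField)) :
    ∃ g : R, g ∉ p ∧ ∀ (S : Type u) [CommRing S] [Algebra R S], IsUnit (algebraMap R S g) →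
      Function.Bijective (l.baseChange S) := by
  classical
  have key : ∀ {N N' : Type (max u v w)} [AddCommGroup N] [Module R N] [AddCommGroup N'] [Module R N']
      [Module.Finite R N'] (h : N →ₗ[R] N'), Function.Surjective (h.baseChange p.ResidueField) →
      ∃ g : R, g ∉ p ∧ ∀ y : N', ∃ y' : N, h y' = g • y := by
    intro N N' _ _ _ _ _ h hh
    let C := N' ⧸ LinearMap.range h
    have hsub : Subsingleton (p.ResidueField ⊗[R] C) := by
      refine ⟨fun a b => ?_⟩
      have h0 : ∀ c, c = (0 : p.ResidueField ⊗[R] C) := fun c => by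
        obtain ⟨c, rfl⟩ := LinearMap.lTensor_surjective p.ResidueField (LinearMap.range h).mkQ_surjective c
        obtain ⟨d, rfl⟩ := hh c
        induction d with
        | zero => simp
        | add d d' hd hd' => rw [map_add, map_add, hd, hd', add_zero]
        | tmul s y =>
          rw [LinearMap.baseChange_tmul, LinearMap.lTensor_tmul, Submodule.mkQ_apply,
            (Submodule.Quotient.mk_eq_zero _).2 (LinearMap.mem_range_self h y), TensorProduct.tmul_zero]
      rw [h0 a, h0 b]
    have hsup : (⟨p, inferInstance⟩ : PrimeSpectrum R) ∉ Module.support R C := fun hm =>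
      @false_of_nontrivial_of_subsingleton _
        ((Module.mem_support_iff_nontrivial_residueField_tensorProduct (M := C) _).1 hm) hsub
    rw [Module.mem_support_iff_of_finite, SetLike.not_le_iff_exists] at hsup
    obtain ⟨f, hfa, hfp⟩ := hsup
    refine ⟨f, hfp, fun y => ?_⟩
    have := Module.mem_annihilator.1 hfa (Submodule.Quotient.mk y)
    rwa [← Submodule.Quotient.mk_smul, Submodule.Quotient.mk_eq_zero] at this
  let M' := ULift.{max u v w} M
  let F' := ULift.{max u v w} (ι → R)
  let l' : F' →ₗ[R] M' := ULift.moduleEquiv.symm.toLinearMap.comp (l.comp ULift.moduleEquiv.toLinearMap)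
  have hl' : Function.Surjective (l'.baseChange p.ResidueField) := by
    simp only [l', LinearMap.baseChange_comp, LinearMap.coe_comp]
    exact (LinearMap.lTensor_surjective _ ULift.moduleEquiv.symm.surjective).comp
      (hl.2.comp (LinearMap.lTensor_surjective _ ULift.moduleEquiv.surjective))
  obtain ⟨g₁, hg₁, hgy⟩ := key l' hl'
  have hmem : ∀ y : M, ∃ c, l c = g₁ • y := fun y => by
    obtain ⟨c, hc⟩ := hgy ⟨y⟩
    exact ⟨c.down, congrArg ULift.down hc⟩
  let φ : M →ₗ[R] LinearMap.range l := LinearMap.codRestrict _ (g₁ • LinearMap.id) fun y => by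
    obtain ⟨c, hc⟩ := hmem y
    exact ⟨c, hc⟩
  obtain ⟨h, hh⟩ := Module.projective_lifting_property l.rangeRestrict φ l.surjective_rangeRestrict
  have hlh : l.comp h = g₁ • LinearMap.id := LinearMap.ext fun y =>
    congrArg Subtype.val (LinearMap.congr_fun hh y)
  have hg₁0 : algebraMap R p.ResidueField g₁ ≠ 0 := fun h0 =>
    hg₁ (Ideal.algebraMap_residueField_eq_zero.1 h0)
  have hhsurj : Function.Surjective (h.baseChange p.ResidueField) := fun c => by
    refine ⟨(algebraMap R p.ResidueField g₁)⁻¹ • l.baseChange p.ResidueField c, hl.1 ?_⟩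
    rw [map_smul, map_smul, ← LinearMap.comp_apply (l.baseChange _), ← LinearMap.baseChange_comp, hlh,
      LinearMap.baseChange_smul, LinearMap.baseChange_id, LinearMap.smul_apply, LinearMap.id_apply,
      ← IsScalarTower.algebraMap_smul p.ResidueField g₁, smul_smul, inv_mul_cancel₀ hg₁0, one_smul]
  let h' : M' →ₗ[R] F' := ULift.moduleEquiv.symm.toLinearMap.comp (h.comp ULift.moduleEquiv.toLinearMap)
  have hh' : Function.Surjective (h'.baseChange p.ResidueField) := by
    simp only [h', LinearMap.baseChange_comp, LinearMap.coe_comp]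
    exact (LinearMap.lTensor_surjective _ ULift.moduleEquiv.symm.surjective).comp
      (hhsurj.comp (LinearMap.lTensor_surjective _ ULift.moduleEquiv.surjective))
  obtain ⟨g₂, hg₂, hgc⟩ := key h' hh'
  refine ⟨g₁ * g₂, fun hm => ((‹p.IsPrime›).mem_or_mem hm).elim hg₁ hg₂, fun S _ _ hS => ?_⟩
  rw [map_mul, IsUnit.mul_iff] at hS
  have hsurj : ∀ {N N' : Type (max u v w)} [AddCommGroup N] [Module R N] [AddCommGroup N'] [Module R N']
      (m : N →ₗ[R] N') (g : R), IsUnit (algebraMap R S g) → (∀ y, ∃ y', m y' = g • y) →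
      Function.Surjective (m.baseChange S) := by
    intro N N' _ _ _ _ m g hg hm z
    induction z with
    | zero => exact ⟨0, map_zero _⟩
    | add a b ha hb =>
      obtain ⟨a, rfl⟩ := ha
      obtain ⟨b, rfl⟩ := hb
      exact ⟨a + b, map_add _ _ _⟩
    | tmul s y =>
      obtain ⟨y', hy'⟩ := hm y
      obtain ⟨v, hv⟩ := hg.exists_left_inv
      refine ⟨(s * v) ⊗ₜ y', ?_⟩
      rw [LinearMap.baseChange_tmul, hy', ← TensorProduct.smul_tmul, Algebra.smul_def, mul_comm,
        mul_assoc, hv, mul_one]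
  have hls : Function.Surjective (l.baseChange S) := by
    intro z
    have h3 := hsurj l' g₁ hS.1 hgy ((ULift.moduleEquiv.symm.toLinearMap : M →ₗ[R] M').baseChange S z)
    obtain ⟨c, hc⟩ := h3
    refine ⟨ULift.moduleEquiv.toLinearMap.baseChange S c, ?_⟩
    have h4 := congrArg ((ULift.moduleEquiv.toLinearMap : M' →ₗ[R] M).baseChange S) hc
    simp only [l', ← LinearMap.comp_apply, ← LinearMap.baseChange_comp, ← LinearMap.comp_assoc,
      LinearEquiv.comp_coe, LinearEquiv.symm_trans_self, LinearEquiv.refl_toLinearMap,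
      LinearMap.id_comp] at h4 ⊢
    simpa using h4
  have hhs : Function.Surjective (h.baseChange S) := by
    intro z
    obtain ⟨c, hc⟩ := hsurj h' g₂ hS.2 hgc ((ULift.moduleEquiv.symm.toLinearMap : (ι → R) →ₗ[R] F').baseChange S z)
    refine ⟨ULift.moduleEquiv.toLinearMap.baseChange S c, ?_⟩
    have h4 := congrArg ((ULift.moduleEquiv.toLinearMap : F' →ₗ[R] (ι → R)).baseChange S) hc
    simp only [h', ← LinearMap.comp_apply, ← LinearMap.baseChange_comp, ← LinearMap.comp_assoc,
      LinearEquiv.comp_coe, LinearEquiv.symm_trans_self, LinearEquiv.refl_toLinearMap,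
      LinearMap.id_comp] at h4 ⊢
    simpa using h4
  refine ⟨fun c c' hcc => ?_, hls⟩
  obtain ⟨y, rfl⟩ := hhs c
  obtain ⟨y', rfl⟩ := hhs c'
  rw [← LinearMap.comp_apply, ← LinearMap.comp_apply (l.baseChange S), ← LinearMap.baseChange_comp, hlh,
    LinearMap.baseChange_smul, LinearMap.baseChange_id, LinearMap.smul_apply, LinearMap.smul_apply,
    LinearMap.id_apply, LinearMap.id_apply, ← IsScalarTower.algebraMap_smul S g₁,
    ← IsScalarTower.algebraMap_smul S g₁ y'] at hcc
  rw [hS.1.smul_left_cancel.1 hcc]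

variable {A : Type v} [Ring A] [Algebra R A] [IsAzumaya R A]

theorem exists_local_data (p : Ideal R) [p.IsPrime] :
    ∃ (r : ℕ) (ξ : A) (F : R[X]) (w : Fin r → A), 0 < r ∧ F.Monic ∧ F.natDegree = r ∧ aeval ξ F = 0 ∧
      (F.map (algebraMap R p.ResidueField)).Separable ∧
      Function.Bijective ((Fintype.linearCombination R
        (fun ij : Fin r × Fin r => w ij.1 * ξ ^ (ij.2 : ℕ))).baseChange p.ResidueField) := by
  classical
  obtain ⟨_, _⟩ := fibre_csa (R := R) (A := A) p.ResidueField
  obtain ⟨r, hr0, hr⟩ := CSALib.exists_sq (k := p.ResidueField) (A := p.ResidueField ⊗[R] A)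
  obtain ⟨x, hxs, hxd⟩ := Reg.exists_regular (p.ResidueField ⊗[R] A) hr
  obtain ⟨β, hβ, ξ₀, hξ₀⟩ := exists_smul_eq_tmul p x
  have hne : ∀ {b : R}, b ∉ p → algebraMap R p.ResidueField b ≠ 0 := fun hb h =>
    hb (Ideal.algebraMap_residueField_eq_zero.1 h)
  obtain ⟨hs₀, hd₀⟩ := separable_smul (hne hβ) hxs
  rw [hξ₀] at hs₀ hd₀
  rw [hxd] at hd₀
  let Rp := Localization.AtPrime p
  have := isAzumaya_baseChange (R := R) (A := A) Rp
  have := Et.free_of_azumaya (R := Rp) (A := Rp ⊗[R] A)
  let c : IsLocalRing.ResidueField Rp ⊗[Rp] (Rp ⊗[R] A) ≃ₐ[IsLocalRing.ResidueField Rp]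
      p.ResidueField ⊗[R] A := cancelEquiv R Rp p.ResidueField A
  have hc : c ((1 : IsLocalRing.ResidueField Rp) ⊗ₜ[Rp] ((1 : Rp) ⊗ₜ[R] ξ₀)) = (1 : p.ResidueField) ⊗ₜ[R] ξ₀ := by
    show cancelEquiv R Rp p.ResidueField A (1 ⊗ₜ (1 ⊗ₜ ξ₀)) = _
    rw [cancelEquiv_tmul, one_smul]
  have hA : finrank Rp (Rp ⊗[R] A) = r ^ 2 := by
    rw [← hr, ← c.toLinearEquiv.finrank_eq]; exact Module.finrank_baseChange.symm
  obtain ⟨-, -, hspan⟩ := Et.regular_span hA ((1 : Rp) ⊗ₜ[R] ξ₀)
    (by rw [← minpoly.algEquiv_eq c, hc]; exact hs₀) (by rw [← minpoly.algEquiv_eq c, hc]; exact hd₀)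
  obtain ⟨q, hq⟩ := (Submodule.mem_span_range_iff_exists_fun Rp).1 (hspan _ (Commute.self_pow _ r))
  obtain ⟨⟨s, hs⟩, hint⟩ := IsLocalization.exist_integer_multiples_of_finite p.primeCompl q
  choose a ha using hint
  have h1 : ((1 : Rp) ⊗ₜ[R] (s • ξ₀ ^ r - ∑ i, a i • ξ₀ ^ (i : ℕ))) = 0 := by
    rw [TensorProduct.tmul_sub, TensorProduct.tmul_sum, TensorProduct.tmul_smul, sub_eq_zero]
    calc s • ((1 : Rp) ⊗ₜ[R] (ξ₀ ^ r)) = s • ((1 : Rp) ⊗ₜ[R] ξ₀) ^ r := by
          rw [Algebra.TensorProduct.tmul_pow, one_pow]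
      _ = ∑ i, (1 : Rp) ⊗ₜ[R] (a i • ξ₀ ^ (i : ℕ)) := by
          rw [← hq, Finset.smul_sum]
          refine Finset.sum_congr rfl fun i _ => ?_
          rw [← smul_assoc, ← ha i, IsScalarTower.algebraMap_smul, Algebra.TensorProduct.tmul_pow, one_pow,
            TensorProduct.tmul_smul]
  obtain ⟨⟨t, ht⟩, htz⟩ := (IsLocalizedModule.eq_zero_iff p.primeCompl (TensorProduct.mk R Rp A 1)).1 h1
  rw [Submonoid.smul_def, smul_sub, Finset.smul_sum, sub_eq_zero] at htz
  set d := t * s with hddef
  have hd : d ∉ p := fun hm => ((‹p.IsPrime›).mem_or_mem hm).elim ht hs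
  let ξ := d • ξ₀
  let co : Fin r → R := fun i => t * a i * d ^ (r - 1 - (i : ℕ))
  set G : R[X] := ∑ i : Fin r, C (co i) * X ^ (i : ℕ) with hGdef
  have hG : G.degree < (r : WithBot ℕ) := by
    refine lt_of_le_of_lt (Polynomial.degree_sum_le _ _) ?_
    rw [Finset.sup_lt_iff (WithBot.bot_lt_coe _)]
    exact fun i _ => lt_of_le_of_lt (Polynomial.degree_C_mul_X_pow_le _ _) (by exact_mod_cast i.2)
  have hFm : (X ^ r - G).Monic := monic_X_pow_sub hG
  have : Nontrivial R := ⟨⟨0, 1, fun h => hd (by rw [eq_zero_of_zero_eq_one h d]; exact p.zero_mem)⟩⟩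
  have hFd : (X ^ r - G).natDegree = r := Polynomial.natDegree_eq_of_degree_eq_some (by
    rw [Polynomial.degree_sub_eq_left_of_degree_lt (by rw [degree_X_pow]; exact hG), degree_X_pow])
  have hξF : aeval ξ (X ^ r - G) = 0 := by
    rw [map_sub, map_pow, aeval_X, sub_eq_zero, hGdef, map_sum]
    obtain ⟨r', rfl⟩ : ∃ r', r = r' + 1 := ⟨r - 1, by omega⟩
    have h2 := congrArg (fun z => d ^ r' • z) htz
    simp only [smul_smul, Finset.smul_sum] at h2
    rw [show ξ ^ (r' + 1) = (d ^ r' * (t * s)) • ξ₀ ^ (r' + 1) by rw [_root_.smul_pow, pow_succ d r'], h2]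
    refine Finset.sum_congr rfl fun i _ => ?_
    rw [map_mul, aeval_C, map_pow, aeval_X, ← Algebra.smul_def, _root_.smul_pow, smul_smul]
    congr 1
    have hi : r' = (r' + 1 - 1 - (i : ℕ)) + i := by omega
    conv_lhs => rw [hi, pow_add]
    simp only [co]
    ring
  have hxe : (1 : p.ResidueField) ⊗ₜ[R] ξ = algebraMap R p.ResidueField d • ((1 : p.ResidueField) ⊗ₜ[R] ξ₀) := by
    rw [TensorProduct.tmul_smul, IsScalarTower.algebraMap_smul]
  obtain ⟨hs₁, hd₁⟩ := separable_smul (hne hd) hs₀
  rw [← hxe] at hs₁ hd₁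
  rw [hd₀] at hd₁
  have hmin : minpoly p.ResidueField ((1 : p.ResidueField) ⊗ₜ[R] ξ) =
      (X ^ r - G).map (algebraMap R p.ResidueField) := by
    refine (Polynomial.eq_of_monic_of_dvd_of_natDegree_le (minpoly.monic (IsIntegral.of_finite _ _))
      (hFm.map _) (minpoly.dvd _ _ ?_) ?_).symm
    · rw [aeval_map_algebraMap]
      show aeval (Algebra.TensorProduct.includeRight (R := R) (A := p.ResidueField) ξ) _ = 0
      rw [aeval_algHom_apply, hξF, map_zero]
    · rw [hFm.natDegree_map, hFd, hd₁]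
  obtain ⟨W, hW⟩ := exists_basis hr _ hs₁ hd₁
  choose γ hγ w hw using fun i => exists_smul_eq_tmul p (W i)
  refine ⟨r, ξ, X ^ r - G, w, Nat.pos_of_ne_zero hr0, hFm, hFd, hξF, hmin ▸ hs₁, ?_⟩
  let bk := (Pi.basisFun R (Fin r × Fin r)).baseChange p.ResidueField
  let l := Fintype.linearCombination R (fun ij : Fin r × Fin r => w ij.1 * ξ ^ (ij.2 : ℕ))
  have hlb : ∀ ij, l.baseChange p.ResidueField (bk ij) =
      algebraMap R p.ResidueField (γ ij.1) • (W ij.1 * ((1 : p.ResidueField) ⊗ₜ[R] ξ) ^ (ij.2 : ℕ)) := by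
    intro ij
    rw [← smul_mul_assoc, hw]
    simp [l, bk, Fintype.linearCombination_apply_single, Algebra.TensorProduct.tmul_pow]
  have hli : LinearIndependent p.ResidueField (fun ij => l.baseChange p.ResidueField (bk ij)) := by
    simp only [hlb]
    exact hW.units_smul fun ij => Units.mk0 _ (hne (hγ ij.1))
  have hinj : Function.Injective (l.baseChange p.ResidueField) := by
    rw [← LinearMap.ker_eq_bot]
    refine LinearMap.ker_eq_bot'.2 fun y hy => ?_
    rw [← bk.sum_repr y, map_sum] at hy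
    simp only [map_smul] at hy
    exact bk.repr.injective ((Finsupp.ext fun i => Fintype.linearIndependent_iff.1 hli _ hy i).trans
      (map_zero bk.repr).symm)
  refine ⟨hinj, (LinearMap.injective_iff_surjective_of_finrank_eq_finrank ?_).1 hinj⟩
  rw [hr, Module.finrank_baseChange, Module.finrank_fintype_fun_eq_card, Fintype.card_prod, Fintype.card_fin, sq]

end AzumayaLib.SplitLoc
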