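import Groth.Agent.AzumayaLib.Fibres
import Groth.Agent.AzumayaLib.Inner
import Groth.Agent.CSALib.PiTensor

/-!
# Tensor powers of Azumaya algebras and the antisymmetrizer
-/

set_option autoImplicit false

universe u v w

open scoped TensorProduct Matrix

namespace AzumayaLib.TP

open CSALib (kr kr_apply kr_one kr_mul kr_single)

variable (T : Type w) [CommRing T] (n : ℕ)

/-- The alternating vector. -/
noncomputable def vec (f : Fin n → Fin n) : T := (Matrix.of fun i j => if f i = j then (1 : T) else 0).det

/-- The antisymmetrizer of `n` factors of rank `n`. -/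
noncomputable def alt : Matrix (Fin n → Fin n) (Fin n → Fin n) T := Matrix.vecMulVec (vec T n) (vec T n)

variable {T n}

theorem vec_id : vec T n id = 1 := by
  rw [vec, show (Matrix.of fun i j : Fin n => if id i = j then (1 : T) else 0) = 1 from
    Matrix.ext fun i j => by simp [Matrix.one_apply], Matrix.det_one]

theorem map_vec {T' : Type*} [CommRing T'] (σ : T →+* T') (f : Fin n → Fin n) :
    σ (vec T n f) = vec T' n f := by
  rw [vec, RingHom.map_det]
  congr 1
  ext i j
  simp [apply_ite σ]

theorem map_alt {T' : Type*} [CommRing T'] (σ : T →+* T') : (alt T n).map σ = alt T' n := by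
  ext f g
  simp [alt, Matrix.vecMulVec_apply, map_vec]

theorem kr_mulVec_vec (g : Matrix (Fin n) (Fin n) T) :
    kr (fun _ : Fin n => n) (fun _ => g) *ᵥ vec T n = g.det • vec T n := by
  funext f
  simp only [Matrix.mulVec, dotProduct, kr_apply, Pi.smul_apply, smul_eq_mul]
  have h := (Matrix.detRowAlternating : (Fin n → T) [⋀^Fin n]→ₗ[T] T).toMultilinearMap.map_sum
    (fun (i : Fin n) (j : Fin n) => g (f i) j • (fun k => if j = k then (1 : T) else 0))
  have hrow : (fun i : Fin n => ∑ j, g (f i) j • fun k => if j = k then (1 : T) else 0) =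
      fun i => g (f i) := by
    funext i k
    simp [Finset.sum_apply]
  rw [hrow] at h
  have hg : (Matrix.detRowAlternating : (Fin n → T) [⋀^Fin n]→ₗ[T] T).toMultilinearMap
      (fun i => g (f i)) = g.det * vec T n f := by
    rw [mul_comm, vec, ← Matrix.det_mul]
    change Matrix.det (fun i => g (f i)) = _
    congr 1
    ext i k
    simp [Matrix.mul_apply]
  rw [← hg, h]
  refine Finset.sum_congr rfl fun q _ => ?_
  rw [(Matrix.detRowAlternating : (Fin n → T) [⋀^Fin n]→ₗ[T] T).toMultilinearMap.map_smul_univ
    (fun i => g (f i) (q i)) (fun i k => if q i = k then (1 : T) else 0), smul_eq_mul]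
  rfl

theorem kr_transpose {ι : Type} [Fintype ι] [DecidableEq ι] (m : ι → ℕ)
    (g : ∀ i, Matrix (Fin (m i)) (Fin (m i)) T) :
    (kr m g)ᵀ = kr m fun i => (g i)ᵀ := by
  ext a b
  simp [kr_apply]

theorem commute_kr_alt (g : Matrix (Fin n) (Fin n) T) :
    Commute (kr (fun _ : Fin n => n) fun _ => g) (alt T n) := by
  show _ * _ = _ * _
  rw [alt, Matrix.mul_vecMulVec, kr_mulVec_vec, Matrix.vecMulVec_mul, ← Matrix.mulVec_transpose,
    kr_transpose, kr_mulVec_vec, Matrix.det_transpose]
  ext a b
  simp [Matrix.vecMulVec_apply]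
  ring

theorem mul_alt (M : Matrix (Fin n → Fin n) (Fin n → Fin n) T) :
    M * alt T n = Matrix.vecMulVec (M *ᵥ vec T n) (vec T n) := Matrix.mul_vecMulVec _ _ _

variable {R : Type u} [CommRing R] {A : Type v} [Ring A] [Algebra R A]

theorem injective_of_faithful [IsAzumaya R A] {C : Type w} [Ring C] [Algebra R C]
    (hC : Function.Injective (algebraMap R C)) (f : A →ₐ[R] C) : Function.Injective f := by
  rw [injective_iff_map_eq_zero]
  intro x hx
  have h := twoSidedIdeal_eq_map (R := R) (TwoSidedIdeal.ker f)
  have hc : (TwoSidedIdeal.asIdeal (TwoSidedIdeal.ker f)).comap (algebraMap R A) = ⊥ := by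
    rw [eq_bot_iff]
    intro s hs
    rw [Ideal.mem_comap, TwoSidedIdeal.mem_asIdeal, TwoSidedIdeal.mem_ker, AlgHom.commutes] at hs
    exact hC (hs.trans (map_zero _).symm)
  rw [hc, Ideal.map_bot] at h
  have hxm : x ∈ TwoSidedIdeal.asIdeal (TwoSidedIdeal.ker f) := by
    rw [TwoSidedIdeal.mem_asIdeal, TwoSidedIdeal.mem_ker]
    exact hx
  rw [h, Submodule.mem_bot] at hxm
  exact hxm

section Cons

variable (R) {N : ℕ} (B : Fin (N + 1) → Type v) [∀ i, Ring (B i)] [∀ i, Algebra R (B i)]

/-- The inclusion of the last factors. -/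
noncomputable def tail : (⨂[R] i : Fin N, B i.succ) →ₐ[R] ⨂[R] i, B i :=
  PiTensorProduct.liftAlgHom ((PiTensorProduct.tprod R).curryLeft 1)
    (by
      rw [MultilinearMap.curryLeft_apply, show Fin.cons (1 : B 0) (1 : ∀ i : Fin N, B i.succ) = 1 from
        funext fun i => by refine Fin.cases ?_ (fun j => ?_) i <;> simp]
      rfl)
    (fun x y => by
      simp only [MultilinearMap.curryLeft_apply, PiTensorProduct.tprod_mul_tprod]
      congr 1
      funext i
      refine Fin.cases ?_ (fun j => ?_) i <;> simp)

theorem tail_tprod (x : ∀ i : Fin N, B i.succ) :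
    tail R B (PiTensorProduct.tprod R x) = PiTensorProduct.tprod R (Fin.cons 1 x) :=
  PiTensorProduct.lift.tprod x

theorem commute_single_tail (a : B 0) (z : ⨂[R] i : Fin N, B i.succ) :
    Commute (PiTensorProduct.singleAlgHom (R := R) (A := B) 0 a) (tail R B z) := by
  induction z using PiTensorProduct.induction_on with
  | smul_tprod c x =>
    rw [map_smul, tail_tprod]
    refine Commute.smul_right ?_ c
    change PiTensorProduct.tprod R (Pi.mulSingle 0 a) * _ = _ * PiTensorProduct.tprod R (Pi.mulSingle 0 a)
    rw [PiTensorProduct.tprod_mul_tprod, PiTensorProduct.tprod_mul_tprod]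
    congr 1
    funext i
    refine Fin.cases ?_ (fun j => ?_) i
    · simp
    · simp [Pi.mulSingle_eq_of_ne (Fin.succ_ne_zero j)]
  | add x y hx hy => rw [map_add]; exact hx.add_right hy

/-- Splitting off the first factor. -/
noncomputable def cons : B 0 ⊗[R] (⨂[R] i : Fin N, B i.succ) →ₐ[R] ⨂[R] i, B i :=
  Algebra.TensorProduct.lift (PiTensorProduct.singleAlgHom 0) (tail R B) (commute_single_tail R B)

theorem cons_tmul (a : B 0) (x : ∀ i : Fin N, B i.succ) :
    cons R B (a ⊗ₜ PiTensorProduct.tprod R x) = PiTensorProduct.tprod R (Fin.cons a x) := by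
  refine (Algebra.TensorProduct.lift_tmul (PiTensorProduct.singleAlgHom 0) (tail R B)
    (commute_single_tail R B) a _).trans ?_
  rw [tail_tprod]
  change PiTensorProduct.tprod R (Pi.mulSingle 0 a) * _ = _
  rw [PiTensorProduct.tprod_mul_tprod]
  congr 1
  funext i
  refine Fin.cases ?_ (fun j => ?_) i
  · simp
  · simp [Pi.mulSingle_eq_of_ne (Fin.succ_ne_zero j)]

theorem cons_bijective : Function.Bijective (cons R B) := by
  let m : MultilinearMap R B (B 0 ⊗[R] (⨂[R] i : Fin N, B i.succ)) :=
    LinearMap.uncurryLeft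
      { toFun := fun a => (TensorProduct.mk R (B 0) (⨂[R] i : Fin N, B i.succ) a).compMultilinearMap
          (PiTensorProduct.tprod R)
        map_add' := fun a b => by ext x; simp [TensorProduct.add_tmul]
        map_smul' := fun c a => by ext x; simp [TensorProduct.smul_tmul'] }
  let inv := PiTensorProduct.lift m
  have hinv : ∀ x, inv (PiTensorProduct.tprod R x) =
      x 0 ⊗ₜ[R] PiTensorProduct.tprod R (fun i : Fin N => x i.succ) := fun x => by
    simp [inv, m]
    rfl
  refine Function.bijective_iff_has_inverse.2 ⟨inv, fun z => ?_, fun z => ?_⟩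
  · induction z with
    | zero => simp
    | add p q hp hq => rw [map_add, map_add, hp, hq]
    | tmul a y =>
      induction y using PiTensorProduct.induction_on with
      | smul_tprod c x => rw [TensorProduct.tmul_smul, map_smul, map_smul, cons_tmul, hinv]; simp
      | add p q hp hq => rw [TensorProduct.tmul_add, map_add, map_add, hp, hq]
  · induction z using PiTensorProduct.induction_on with
    | smul_tprod c x =>
      rw [map_smul, map_smul, hinv, cons_tmul]
      congr 2
      exact Fin.cons_self_tail x
    | add p q hp hq => rw [map_add, map_add, hp, hq]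

variable (A)

theorem isAzumaya_tpow [IsAzumaya R A] : ∀ N : ℕ, IsAzumaya R (⨂[R] _ : Fin N, A)
  | 0 => by
    have hb : Function.Bijective (Algebra.ofId R (⨂[R] _ : Fin 0, A)) := by
      refine Function.bijective_iff_has_inverse.2
        ⟨PiTensorProduct.isEmptyEquiv (Fin 0), fun r => ?_, fun z => ?_⟩
      · rw [Algebra.ofId_apply, Algebra.algebraMap_eq_smul_one, map_smul,
          show (1 : ⨂[R] _ : Fin 0, A) = PiTensorProduct.tprod R 1 from rfl,
          PiTensorProduct.isEmptyEquiv_apply_tprod, smul_eq_mul, mul_one]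
      · induction z using PiTensorProduct.induction_on with
        | smul_tprod c x =>
          rw [map_smul, PiTensorProduct.isEmptyEquiv_apply_tprod, smul_eq_mul, mul_one, Algebra.ofId_apply,
            Algebra.algebraMap_eq_smul_one, show x = 1 from Subsingleton.elim _ _]
          rfl
        | add p q hp hq => rw [map_add, map_add, hp, hq]
    exact IsAzumaya.of_AlgEquiv R R _ (AlgEquiv.ofBijective _ hb)
  | N + 1 => by
    have := isAzumaya_tpow N
    have := isAzumaya_tensor (R := R) (A := A) (B := ⨂[R] _ : Fin N, A)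
    exact IsAzumaya.of_AlgEquiv R (A ⊗[R] (⨂[R] _ : Fin N, A)) _
      (AlgEquiv.ofBijective _ (cons_bijective R (fun _ : Fin (N + 1) => A)))

end Cons

section Rep

variable [Algebra R T] (ψ : A →ₐ[R] Matrix (Fin n) (Fin n) T)

/-- The product representation. -/
noncomputable def rep : (⨂[R] _ : Fin n, A) →ₐ[R] Matrix (Fin n → Fin n) (Fin n → Fin n) T :=
  PiTensorProduct.liftAlgHom
    (((kr fun _ : Fin n => n).restrictScalars R).compLinearMap fun _ => ψ.toLinearMap)
    (by
      change kr (fun _ : Fin n => n) (fun _ => ψ 1) = 1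
      simp only [map_one]
      exact kr_one _)
    (fun x y => by
      change kr (fun _ : Fin n => n) (fun i => ψ (x i * y i)) =
        kr (fun _ : Fin n => n) (fun i => ψ (x i)) * kr (fun _ : Fin n => n) (fun i => ψ (y i))
      simp only [map_mul]
      exact kr_mul _ _ _)

theorem rep_tprod (x : Fin n → A) :
    rep ψ (PiTensorProduct.tprod R x) = kr (fun _ : Fin n => n) fun i => ψ (x i) :=
  PiTensorProduct.lift.tprod x

/-- The base change of the product representation. -/
noncomputable def repT :
    T ⊗[R] (⨂[R] _ : Fin n, A) →ₐ[T] Matrix (Fin n → Fin n) (Fin n → Fin n) T :=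
  Algebra.TensorProduct.lift (Algebra.ofId T _) (rep ψ) fun c a => Algebra.commutes (R := T) c (rep ψ a)

theorem repT_tmul (c : T) (z : ⨂[R] _ : Fin n, A) : repT ψ (c ⊗ₜ z) = c • rep ψ z := by
  rw [Algebra.smul_def, repT]
  exact Algebra.TensorProduct.lift_tmul (Algebra.ofId T _) (rep ψ)
    (fun x y => Algebra.commutes (R := T) x (rep ψ y)) c z

/-- The base change of a representation. -/
noncomputable def liftT : T ⊗[R] A →ₐ[T] Matrix (Fin n) (Fin n) T :=
  Algebra.TensorProduct.lift (Algebra.ofId T _) ψ fun c a => Algebra.commutes (R := T) c (ψ a)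

theorem liftT_tmul (c : T) (a : A) : liftT ψ (c ⊗ₜ a) = c • ψ a := by
  rw [Algebra.smul_def, liftT]
  exact Algebra.TensorProduct.lift_tmul (Algebra.ofId T _) ψ
    (fun x y => Algebra.commutes (R := T) x (ψ y)) c a

theorem repT_bijective [IsAzumaya R A] (hψ : Function.Surjective (liftT ψ)) :
    Function.Bijective (repT ψ) := by
  classical
  have := isAzumaya_tpow R A n
  have := isAzumaya_baseChange (R := R) (A := ⨂[R] _ : Fin n, A) T
  refine ⟨injective_of_faithful (fun a b h => ?_) (repT ψ), ?_⟩
  · simpa [Matrix.algebraMap_matrix_apply] using congrFun (congrFun h id) id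
  have hsingle : ∀ (i : Fin n) (M : Matrix (Fin n) (Fin n) T),
      kr (fun _ : Fin n => n) (Function.update (fun _ => (1 : Matrix (Fin n) (Fin n) T)) i M) ∈ (repT ψ).range := by
    intro i M
    obtain ⟨y, rfl⟩ := hψ M
    induction y with
    | zero =>
      rw [map_zero]
      rw [MultilinearMap.map_coord_zero _ i (Function.update_self _ _ _)]
      exact zero_mem _
    | add p q hp hq =>
      rw [map_add, MultilinearMap.map_update_add]
      exact add_mem hp hq
    | tmul c a =>
      rw [liftT_tmul, MultilinearMap.map_update_smul]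
      refine ⟨c ⊗ₜ PiTensorProduct.tprod R (Function.update (fun _ => (1 : A)) i a), ?_⟩
      show repT ψ _ = _
      rw [repT_tmul, rep_tprod]
      congr 2
      funext j
      by_cases h : j = i
      · subst h; simp
      · simp [Function.update_of_ne h]
  have hkr : ∀ M : Fin n → Matrix (Fin n) (Fin n) T, kr (fun _ : Fin n => n) M ∈ (repT ψ).range := by
    intro M
    suffices ∀ s : Finset (Fin n), kr (fun _ : Fin n => n)
        (fun i => if i ∈ s then M i else 1) ∈ (repT ψ).range by
      simpa using this Finset.univ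
    intro s
    induction s using Finset.induction with
    | empty =>
      simp only [Finset.notMem_empty, if_false]
      exact ⟨1, (map_one _).trans (kr_one _).symm⟩
    | insert a s ha ih =>
      have h := mul_mem ih (hsingle a (M a))
      rw [← kr_mul] at h
      refine (congrArg (fun P => kr (fun _ : Fin n => n) P ∈ (repT ψ).range) ?_).mp h
      funext j
      by_cases hj : j = a
      · subst hj; simp [ha]
      · simp [Function.update_of_ne hj, hj]
  intro M
  have hM : M ∈ (repT ψ).range := by
    rw [Matrix.matrix_eq_sum_single M]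
    refine sum_mem fun f _ => sum_mem fun g _ => ?_
    have := Subalgebra.smul_mem _ (hkr fun i => Matrix.single (f i) (g i) (1 : T)) (M f g)
    rwa [kr_single, Matrix.smul_single, smul_eq_mul, mul_one] at this
  exact hM

variable {T' : Type w} [CommRing T'] [Algebra R T'] (j : T →ₐ[R] T')

theorem rep_map (ψ' : A →ₐ[R] Matrix (Fin n) (Fin n) T') (h : ∀ a, ψ' a = (ψ a).map j)
    (z : ⨂[R] _ : Fin n, A) : rep ψ' z = (rep ψ z).map j := by
  have : rep ψ' = j.mapMatrix.comp (rep ψ) := by
    refine AlgHom.toLinearMap_injective (PiTensorProduct.ext (MultilinearMap.ext fun x => ?_))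
    show rep ψ' (PiTensorProduct.tprod R x) = (rep ψ (PiTensorProduct.tprod R x)).map j
    rw [rep_tprod, rep_tprod]
    ext f g
    simp only [kr_apply, h, Matrix.map_apply, map_prod]
  rw [this]
  rfl

theorem repT_map (ψ' : A →ₐ[R] Matrix (Fin n) (Fin n) T') (h : ∀ a, ψ' a = (ψ a).map j)
    (z : T ⊗[R] (⨂[R] _ : Fin n, A)) :
    repT ψ' (Algebra.TensorProduct.map j (AlgHom.id R _) z) = (repT ψ z).map j := by
  induction z with
  | zero => simp
  | add p q hp hq => rw [map_add, map_add, hp, hq, map_add (repT ψ), Matrix.map_add _ (map_add j)]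
  | tmul c x =>
    rw [Algebra.TensorProduct.map_tmul, repT_tmul, repT_tmul, AlgHom.id_apply, rep_map ψ j ψ' h]
    ext f g
    simp

end Rep

/-- Equality of the antisymmetrizer through two splittings. -/
theorem repT_eq_alt [Algebra R T] [IsAzumaya R A] (hn : 0 < n) (φ φ' : A →ₐ[R] Matrix (Fin n) (Fin n) T)
    (hφ : Function.Bijective (liftT φ)) (hφ' : Function.Bijective (liftT φ'))
    (z : T ⊗[R] (⨂[R] _ : Fin n, A)) (hz : repT φ z = alt T n) : repT φ' z = alt T n := by
  classical
  have : Nonempty (Fin n) := ⟨⟨0, hn⟩⟩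
  have := IsAzumaya.matrix T (Fin n)
  let α : Matrix (Fin n) (Fin n) T ≃ₐ[T] Matrix (Fin n) (Fin n) T :=
    (AlgEquiv.ofBijective _ hφ).symm.trans (AlgEquiv.ofBijective _ hφ')
  have hα : ∀ a, α (φ a) = φ' a := fun a => by
    have h1 : φ a = AlgEquiv.ofBijective _ hφ ((1 : T) ⊗ₜ a) := by
      rw [AlgEquiv.ofBijective_apply, liftT_tmul, one_smul]
    rw [h1, AlgEquiv.trans_apply, AlgEquiv.symm_apply_apply, AlgEquiv.ofBijective_apply, liftT_tmul, one_smul]
  ext f g
  rw [← sub_eq_zero]
  by_contra hne
  obtain ⟨m, hm, hle⟩ := Ideal.exists_le_maximal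
    (LinearMap.ker (LinearMap.mulRight T (repT φ' z f g - alt T n f g))) (fun htop => hne (by
      have h1 : (1 : T) ∈ LinearMap.ker (LinearMap.mulRight T (repT φ' z f g - alt T n f g)) :=
        htop ▸ Submodule.mem_top
      simpa using h1))
  obtain ⟨c, hc, hconj⟩ := exists_away_conj.{w, w, w} α m
  let S := Localization.Away c
  obtain ⟨U, hU⟩ := hconj S (IsLocalization.Away.algebraMap_isUnit c)
  let β : S ⊗[T] Matrix (Fin n) (Fin n) T →ₐ[S] Matrix (Fin n) (Fin n) S :=
    Algebra.TensorProduct.lift (Algebra.ofId S _) (Algebra.ofId T S).mapMatrix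
      fun s M => Algebra.commutes s _
  let G : (Matrix (Fin n) (Fin n) S)ˣ := Units.map β.toRingHom.toMonoidHom U
  let j : T →ₐ[R] S := IsScalarTower.toAlgHom R T S
  let ψ₁ := j.mapMatrix.comp φ
  let ψ₂ := j.mapMatrix.comp φ'
  have hG : ∀ a, ψ₂ a = (G : Matrix (Fin n) (Fin n) S) * ψ₁ a * (G⁻¹ : (Matrix (Fin n) (Fin n) S)ˣ) := by
    intro a
    have h := congrArg β (hU ((1 : S) ⊗ₜ φ a))
    rw [Algebra.TensorProduct.map_tmul, map_mul, map_mul] at h
    have hb : ∀ M, β ((1 : S) ⊗ₜ M) = M.map (algebraMap T S) := fun M => by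
      refine (Algebra.TensorProduct.lift_tmul (Algebra.ofId S _) (Algebra.ofId T S).mapMatrix
        (fun s M => Algebra.commutes s _) 1 M).trans ?_
      rw [map_one, one_mul]
      rfl
    rw [AlgHom.id_apply, hb, hb, show (α : Matrix (Fin n) (Fin n) T →ₐ[T] _) (φ a) = φ' a from hα a] at h
    exact h
  let P := kr (R := S) (fun _ : Fin n => n) fun _ => (G : Matrix (Fin n) (Fin n) S)
  let P' := kr (R := S) (fun _ : Fin n => n)
    fun _ => ((G⁻¹ : (Matrix (Fin n) (Fin n) S)ˣ) : Matrix (Fin n) (Fin n) S)
  have hPP : P * P' = 1 := by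
    simp only [P, P', ← kr_mul]
    rw [← kr_one (R := S) fun _ : Fin n => n]
    congr 1
    funext i
    simp
  have key : ∀ y, repT ψ₂ y = P * repT ψ₁ y * P' := fun y => by
    induction y with
    | zero => simp
    | add p q hp hq => rw [map_add, map_add, hp, hq, mul_add, add_mul]
    | tmul s x =>
      rw [repT_tmul, repT_tmul, mul_smul_comm, smul_mul_assoc]
      congr 1
      induction x using PiTensorProduct.induction_on with
      | add p q hp hq => rw [map_add, map_add, hp, hq, mul_add, add_mul]
      | smul_tprod d x =>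
        rw [map_smul, map_smul, mul_smul_comm, smul_mul_assoc, rep_tprod, rep_tprod]
        congr 1
        simp only [P, P', ← kr_mul]
        congr 1
        funext i
        exact hG (x i)
  have h1 := key (Algebra.TensorProduct.map j (AlgHom.id R _) z)
  rw [repT_map φ' j ψ₂ (fun a => rfl), repT_map φ j ψ₁ (fun a => rfl), hz,
    show (alt T n).map j = alt S n from map_alt j.toRingHom, (commute_kr_alt _).eq, mul_assoc, hPP,
    mul_one] at h1
  have h2 : algebraMap T S (repT φ' z f g - alt T n f g) = 0 := by
    have h3 := congrFun (congrFun h1 f) g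
    rw [map_sub, sub_eq_zero, show algebraMap T S (alt T n f g) = alt S n f g from
      congrFun (congrFun (map_alt (algebraMap T S)) f) g]
    exact h3
  obtain ⟨⟨_, k, rfl⟩, hk⟩ := (IsLocalization.map_eq_zero_iff (Submonoid.powers c) S _).1 h2
  exact hc (hm.isPrime.mem_of_pow_mem k (hle hk))

end AzumayaLib.TP
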