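import Groth.Agent.AzumayaLib.SplitGlobal
import Groth.Agent.AzumayaLib.Charpoly
import Groth.Agent.AzumayaLib.TensorPow

/-!
# The `n`-th tensor power of an Azumaya algebra of degree `n` is a matrix algebra
-/

set_option autoImplicit false

universe u v w

open scoped TensorProduct Matrix
open Module

namespace AzumayaLib.TP

variable {R : Type u} [CommRing R] {A : Type v} [Ring A] [Algebra R A]

theorem liftT_eq {T : Type w} [CommRing T] [Algebra R T] {n : ℕ}
    (e : (T ⊗[R] A) →ₐ[T] Matrix (Fin n) (Fin n) T) (ψ : A →ₐ[R] Matrix (Fin n) (Fin n) T)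
    (h : ∀ a, e ((1 : T) ⊗ₜ a) = ψ a) : ⇑(liftT ψ) = ⇑e := by
  funext z
  induction z with
  | zero => simp
  | add p q hp hq => rw [map_add, map_add, hp, hq]
  | tmul t a =>
    rw [liftT_tmul, ← h, ← map_smul, TensorProduct.smul_tmul', smul_eq_mul, mul_one]

theorem liftT_baseChange {T : Type w} [CommRing T] [Algebra R T] {T' : Type w} [CommRing T'] [Algebra R T']
    (j : T →ₐ[R] T') {n : ℕ} (ψ : A →ₐ[R] Matrix (Fin n) (Fin n) T) (h : Function.Bijective (liftT ψ)) :
    Function.Bijective (liftT (j.mapMatrix.comp ψ)) := by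
  let _ : Algebra T T' := j.toRingHom.toAlgebra
  have : IsScalarTower R T T' := IsScalarTower.of_algebraMap_eq fun r => (j.commutes r).symm
  obtain ⟨Φ, hΦ⟩ := exists_splitting_baseChange (AlgEquiv.ofBijective _ h) T'
  have heq := liftT_eq (Φ : (T' ⊗[R] A) →ₐ[T'] _) (j.mapMatrix.comp ψ) fun a => by
    show Φ _ = _
    rw [hΦ, AlgEquiv.ofBijective_apply, liftT_tmul, one_smul]
    rfl
  rw [heq]
  exact Φ.bijective

theorem exists_split_ff [IsAzumaya R A] {n : ℕ}
    (hrk : ∀ p : PrimeSpectrum R, Module.rankAtStalk (R := R) A p = n ^ 2) :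
    ∃ (S : Type u) (_ : CommRing S) (_ : Algebra R S) (_ : Module.FaithfullyFlat R S)
      (ψ : A →ₐ[R] Matrix (Fin n) (Fin n) S), Function.Bijective (liftT ψ) := by
  classical
  have hloc : ∀ p : PrimeSpectrum R, ∃ f : R, f ∉ p.asIdeal ∧
      ∃ (R' : Type u) (_ : CommRing R') (_ : Algebra R R'),
        Module.Flat R R' ∧ (∀ q : PrimeSpectrum R, f ∉ q.asIdeal → q ∈ Set.range (PrimeSpectrum.comap (algebraMap R R'))) ∧
        ∃ ψ : A →ₐ[R] Matrix (Fin n) (Fin n) R', Function.Bijective (liftT ψ) := by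
    intro p
    obtain ⟨f, hf, R', _, _, _, _, _, _, hff, r, hr, ⟨e⟩⟩ := SplitLoc.exists_split (A := A) p.asIdeal
    have hflat : Module.Flat R R' :=
      have : Module.Flat R (Localization.Away f) := IsLocalization.flat _ (Submonoid.powers f)
      Module.Flat.trans R (Localization.Away f) R'
    have hcomap : ∀ q : PrimeSpectrum R, f ∉ q.asIdeal →
        q ∈ Set.range (PrimeSpectrum.comap (algebraMap R R')) := by
      intro q hq
      have h1 : q ∈ Set.range (PrimeSpectrum.comap (algebraMap R (Localization.Away f))) := by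
        rw [PrimeSpectrum.localization_away_comap_range (Localization.Away f) f]
        exact hq
      obtain ⟨q', rfl⟩ := h1
      obtain ⟨q'', rfl⟩ := PrimeSpectrum.comap_surjective_of_faithfullyFlat (B := R') q'
      exact ⟨q'', by rw [IsScalarTower.algebraMap_eq R (Localization.Away f) R', PrimeSpectrum.comap_comp]; rfl⟩
    obtain ⟨q, hq⟩ := hcomap p hf
    have hrn : r = n := by
      have : Nontrivial R' := nontrivial_of_ne (α := R') 0 1 fun h => q.isPrime.ne_top
        ((Ideal.eq_top_iff_one _).2 (h ▸ q.asIdeal.zero_mem))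
      have : Module.Free R' (R' ⊗[R] A) := Module.Free.of_equiv e.symm.toLinearEquiv
      have h1 := Module.rankAtStalk_baseChange (R := R) (M := A) (S := R') q
      rw [hrk, rankAtStalk_eq_finrank_of_free, Pi.natCast_apply, e.toLinearEquiv.finrank_eq, Module.finrank_matrix,
        Fintype.card_fin, Module.finrank_self, mul_one, ← sq] at h1
      exact Nat.pow_left_injective two_ne_zero h1
    subst hrn
    refine ⟨f, hf, R', inferInstance, inferInstance, hflat, hcomap,
      (e.toAlgHom.restrictScalars R).comp Algebra.TensorProduct.includeRight, ?_⟩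
    rw [liftT_eq e.toAlgHom _ fun a => rfl]
    exact e.bijective
  choose f hf R' hR' hR'alg hflat hcomap ψ hψ using hloc
  have hspan : Ideal.span (Set.range f) = ⊤ := by
    by_contra hne
    obtain ⟨m, hm, hle⟩ := Ideal.exists_le_maximal _ hne
    exact hf ⟨m, hm.isPrime⟩ (hle (Ideal.subset_span ⟨_, rfl⟩))
  obtain ⟨s, hs⟩ := (Ideal.span_eq_top_iff_finite _).1 hspan
  obtain ⟨hs', hs⟩ := hs
  choose pt hpt using fun i : s => hs' i.2
  let F : s → Type u := fun i => R' (pt i)
  let S := ∀ i : s, F i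
  have : ∀ i : s, Module.Flat R (F i) := fun i => hflat (pt i)
  have : Module.Flat R S :=
    Module.Flat.of_linearEquiv (DFinsupp.linearEquivFunOnFintype (R := R) (M := F)).symm
  have hff : Module.FaithfullyFlat R S := by
    refine Module.FaithfullyFlat.of_comap_surjective fun q => ?_
    obtain ⟨i, hi⟩ : ∃ i : s, (i : R) ∉ q.asIdeal := by
      by_contra hall
      push Not at hall
      exact q.isPrime.ne_top (top_le_iff.1 (hs ▸ Ideal.span_le.2 fun x hx => hall ⟨x, hx⟩))
    obtain ⟨q', hq'⟩ := hcomap (pt i) q (by rw [hpt i]; exact hi)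
    refine ⟨PrimeSpectrum.comap (Pi.evalRingHom F i) q', ?_⟩
    rw [← hq']
    rfl
  let Ψ : A →ₐ[R] Matrix (Fin n) (Fin n) S :=
    { toFun := fun a => Matrix.of fun x y i => ψ (pt i) a x y
      map_one' := by ext x y i; simp [Matrix.one_apply]; split_ifs <;> rfl
      map_mul' := fun a b => by
        ext x y i
        simp [Matrix.mul_apply]
        rw [show ∀ (g : Fin n → S), (∑ j, g j) i = ∑ j, g j i from fun g => map_sum (Pi.evalRingHom F i) g Finset.univ]
        rfl
      map_zero' := by ext x y i; simp; rfl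
      map_add' := fun a b => by ext x y i; simp; rfl
      commutes' := fun r => by
        ext x y i
        simp [Matrix.algebraMap_matrix_apply]
        split_ifs <;> rfl }
  refine ⟨S, inferInstance, inferInstance, hff, Ψ, ?_⟩
  let P : S ⊗[R] A ≃ₗ[R] ∀ i : s, F i ⊗[R] A :=
    (TensorProduct.comm R S A).trans ((TensorProduct.piRight R R A F).trans
      (LinearEquiv.piCongrRight fun i => TensorProduct.comm R A (F i)))
  let M : (∀ i : s, Matrix (Fin n) (Fin n) (F i)) → Matrix (Fin n) (Fin n) S :=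
    fun N => Matrix.of fun x y i => N i x y
  have hM : Function.Bijective M :=
    Function.bijective_iff_has_inverse.2 ⟨fun N i => Matrix.of fun x y => N x y i, fun N => rfl, fun N => rfl⟩
  let Q : (∀ i : s, F i ⊗[R] A) → (∀ i : s, Matrix (Fin n) (Fin n) (F i)) :=
    fun z i => liftT (ψ (pt i)) (z i)
  have hQ : Function.Bijective Q := by
    refine Function.Bijective.piMap fun i => hψ (pt i)
  have heq : ⇑(liftT Ψ) = M ∘ Q ∘ P := by
    funext z
    induction z with
    | zero => ext x y i; simp [M, Q]; rfl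
    | add p q hp hq =>
      rw [map_add, hp, hq]
      ext x y i
      simp [M, Q]
      rfl
    | tmul c a =>
      rw [liftT_tmul]
      ext x y i
      show (c • Ψ a) x y i = liftT (ψ (pt i)) (P (c ⊗ₜ a) i) x y
      rw [show P (c ⊗ₜ a) i = c i ⊗ₜ a by simp [P]; rfl, liftT_tmul]
      rfl
  rw [heq]
  exact hM.comp (hQ.comp P.bijective)

/-- Base change of endomorphisms of a module. -/
noncomputable def modEndBaseChange (S : Type*) [CommRing S] [Algebra R S] {M : Type*} [AddCommGroup M]
    [Module R M] : S ⊗[R] Module.End R M →ₗ[S] Module.End S (S ⊗[R] M) :=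
  TensorProduct.AlgebraTensorModule.lift
    (LinearMap.toSpanSingleton S _ (LinearMap.baseChangeHom R S M M))

theorem modEndBaseChange_tmul (S : Type*) [CommRing S] [Algebra R S] {M : Type*} [AddCommGroup M]
    [Module R M] (s : S) (φ : Module.End R M) :
    modEndBaseChange S (s ⊗ₜ[R] φ) = s • φ.baseChange S := rfl

theorem modEndBaseChange_injective (S : Type*) [CommRing S] [Algebra R S] {M : Type*} [AddCommGroup M]
    [Module R M] [Module.Finite R M] [Module.Projective R M] :
    Function.Injective (modEndBaseChange (R := R) (M := M) S) := by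
  obtain ⟨n, p, g, -, -, hpg⟩ := Module.Finite.exists_comp_eq_id_of_projective R M
  let a : Fin n → M := fun i => p (Pi.single i 1)
  let c : Fin n → (M →ₗ[R] R) := fun i => (LinearMap.proj i).comp g
  let Θ : Module.End S (S ⊗[R] M) → S ⊗[R] Module.End R M := fun ψ =>
    ∑ i, LinearMap.lTensor S (LinearMap.smulRightₗ (c i) : M →ₗ[R] Module.End R M) (ψ ((1 : S) ⊗ₜ a i))
  refine Function.LeftInverse.injective (g := Θ) fun z => ?_
  induction z with
  | zero => simp [Θ]
  | add x y hx hy =>
    simp only [Θ, map_add, LinearMap.add_apply, Finset.sum_add_distrib] at hx hy ⊢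
    rw [hx, hy]
  | tmul s φ =>
    simp only [Θ, modEndBaseChange_tmul, LinearMap.smul_apply, LinearMap.baseChange_tmul,
      TensorProduct.smul_tmul', smul_eq_mul, mul_one, LinearMap.lTensor_tmul, ← TensorProduct.tmul_sum]
    congr 1
    refine LinearMap.ext fun x => ?_
    conv_rhs => rw [← LinearMap.id_apply (R := R) x, ← hpg, LinearMap.comp_apply, pi_eq_sum_univ' (g x),
      map_sum, map_sum]
    rw [LinearMap.sum_apply]
    refine Finset.sum_congr rfl fun i _ => ?_
    rw [map_smul, map_smul]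
    simp [c, a]

theorem exists_descent_element {B : Type v} [Ring B] [Algebra R B] (S : Type w) [CommRing S] [Algebra R S]
    [Module.FaithfullyFlat R S] (z : S ⊗[R] B)
    (h : Algebra.TensorProduct.map (Algebra.TensorProduct.includeLeft : S →ₐ[R] S ⊗[R] S) (AlgHom.id R B) z =
      Algebra.TensorProduct.map (Algebra.TensorProduct.includeRight : S →ₐ[R] S ⊗[R] S) (AlgHom.id R B) z) :
    ∃ e : B, (1 : S) ⊗ₜ[R] e = z := by
  let q := (LinearMap.range (Algebra.linearMap R S)).mkQ
  have h1 : q 1 = 0 := by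
    rw [Submodule.mkQ_apply, Submodule.Quotient.mk_eq_zero]
    exact ⟨1, by simp⟩
  let Θ : (S ⊗[R] S) ⊗[R] B →ₗ[R] S ⊗[R] ((S ⧸ LinearMap.range (Algebra.linearMap R S)) ⊗[R] B) :=
    (TensorProduct.assoc R S _ B).toLinearMap ∘ₗ LinearMap.rTensor B (LinearMap.lTensor S q)
  have hl : ∀ y : S ⊗[R] B, Θ (Algebra.TensorProduct.map
      (Algebra.TensorProduct.includeLeft : S →ₐ[R] S ⊗[R] S) (AlgHom.id R B) y) = 0 := by
    intro y
    induction y with
    | zero => simp
    | add p p' hp hp' => rw [map_add, map_add, hp, hp', add_zero]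
    | tmul s b => simp [Θ, h1]
  have hr : ∀ y : S ⊗[R] B, Θ (Algebra.TensorProduct.map
      (Algebra.TensorProduct.includeRight : S →ₐ[R] S ⊗[R] S) (AlgHom.id R B) y) =
      (1 : S) ⊗ₜ[R] LinearMap.rTensor B q y := by
    intro y
    induction y with
    | zero => simp
    | add p p' hp hp' => rw [map_add, map_add, hp, hp', map_add, TensorProduct.tmul_add]
    | tmul s b => simp [Θ]
  have h0 := hr z
  rw [← h, hl] at h0
  have hz : LinearMap.rTensor B q z = 0 := (Module.FaithfullyFlat.one_tmul_eq_zero_iff (R := R) (A := S) _ _).1 h0.symm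
  have hex := rTensor_exact B (LinearMap.exact_map_mkQ_range (Algebra.linearMap R S))
    (Submodule.mkQ_surjective _)
  obtain ⟨y, hy⟩ := (hex z).1 hz
  refine ⟨TensorProduct.lid R B y, ?_⟩
  rw [← hy]
  clear hy
  induction y with
  | zero => simp
  | add p p' hp hp' => rw [map_add, map_add, TensorProduct.tmul_add, hp, hp']
  | tmul c b => simp [TensorProduct.tmul_smul, TensorProduct.smul_tmul', Algebra.algebraMap_eq_smul_one]

theorem exists_antisym [IsAzumaya R A] {n : ℕ} (hn : 0 < n) (S : Type u) [CommRing S] [Algebra R S]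
    [Module.FaithfullyFlat R S] (ψ : A →ₐ[R] Matrix (Fin n) (Fin n) S) (hψ : Function.Bijective (liftT ψ)) :
    ∃ e : ⨂[R] _ : Fin n, A, repT ψ ((1 : S) ⊗ₜ[R] e) = alt S n := by
  classical
  have hθ := repT_bijective ψ hψ.2
  obtain ⟨z, hz⟩ := hθ.2 (alt S n)
  suffices ∃ e, (1 : S) ⊗ₜ[R] e = z by
    obtain ⟨e, he⟩ := this
    exact ⟨e, he.symm ▸ hz⟩
  refine exists_descent_element S z ?_
  let iL : S →ₐ[R] S ⊗[R] S := Algebra.TensorProduct.includeLeft
  let iR : S →ₐ[R] S ⊗[R] S := Algebra.TensorProduct.includeRight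
  have hbL := liftT_baseChange iL ψ hψ
  have hbR := liftT_baseChange iR ψ hψ
  have h1 : repT (iL.mapMatrix.comp ψ) (Algebra.TensorProduct.map iL (AlgHom.id R _) z) = alt _ n := by
    rw [repT_map ψ iL (iL.mapMatrix.comp ψ) (fun a => rfl), hz]
    exact map_alt iL.toRingHom
  have h2 : repT (iR.mapMatrix.comp ψ) (Algebra.TensorProduct.map iR (AlgHom.id R _) z) = alt _ n := by
    rw [repT_map ψ iR (iR.mapMatrix.comp ψ) (fun a => rfl), hz]
    exact map_alt iR.toRingHom
  exact (repT_bijective _ hbR.2).1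
    ((repT_eq_alt hn _ _ hbL hbR _ h1).trans h2.symm)

theorem exists_col [IsAzumaya R A] {n : ℕ} (S : Type u) [CommRing S] [Algebra R S]
    [Module.Flat R S] (ψ : A →ₐ[R] Matrix (Fin n) (Fin n) S) (hθ : Function.Bijective (repT ψ))
    (e : ⨂[R] _ : Fin n, A) (hz : repT ψ ((1 : S) ⊗ₜ[R] e) = alt S n) :
    ∃ ξ : S ⊗[R] LinearMap.range (LinearMap.mulRight R e) ≃ₗ[S] ((Fin n → Fin n) → S),
      ∀ (s : S) (x : LinearMap.range (LinearMap.mulRight R e)) (f : Fin n → Fin n),
        ξ (s ⊗ₜ x) f = repT ψ (s ⊗ₜ[R] (x : ⨂[R] _ : Fin n, A)) f id := by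
  classical
  let E : Submodule R (⨂[R] _ : Fin n, A) := LinearMap.range (LinearMap.mulRight R e)
  let ι : S ⊗[R] E →ₗ[S] Matrix (Fin n → Fin n) (Fin n → Fin n) S :=
    (repT ψ).toLinearMap.comp (E.subtype.baseChange S)
  have hιinj : Function.Injective ι :=
    hθ.1.comp (Module.Flat.lTensor_preserves_injective_linearMap (M := S) E.subtype E.injective_subtype)
  have hιe : ∀ (s : S) (x : E), ∀ b, (x : ⨂[R] _ : Fin n, A) = b * e →
      ι (s ⊗ₜ x) = repT ψ (s ⊗ₜ b) * alt S n := fun s x b hb => by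
    show repT ψ (s ⊗ₜ (x : ⨂[R] _ : Fin n, A)) = _
    rw [← hz, ← map_mul, Algebra.TensorProduct.tmul_mul_tmul, mul_one, hb]
  have hιalt : ∀ y, ∃ M, ι y = M * alt S n := fun y => by
    induction y with
    | zero => exact ⟨0, by simp⟩
    | add p q hp hq =>
      obtain ⟨M, hM⟩ := hp
      obtain ⟨M', hM'⟩ := hq
      exact ⟨M + M', by rw [map_add, hM, hM', add_mul]⟩
    | tmul s x =>
      obtain ⟨b, hb⟩ := x.2
      exact ⟨_, hιe s x b hb.symm⟩
  have hιsurj : ∀ M, ∃ y, ι y = M * alt S n := fun M => by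
    obtain ⟨w, rfl⟩ := hθ.2 M
    induction w with
    | zero => exact ⟨0, by simp⟩
    | add p q hp hq =>
      obtain ⟨y, hy⟩ := hp
      obtain ⟨y', hy'⟩ := hq
      exact ⟨y + y', by rw [map_add, hy, hy', map_add, add_mul]⟩
    | tmul s b => exact ⟨s ⊗ₜ ⟨b * e, b, rfl⟩, hιe s _ b rfl⟩
  let col : Matrix (Fin n → Fin n) (Fin n → Fin n) S →ₗ[S] ((Fin n → Fin n) → S) :=
    { toFun := fun M f => M f id
      map_add' := fun _ _ => rfl
      map_smul' := fun _ _ => rfl }
  let ξ := col.comp ι
  have hξ : ∀ y, ι y = Matrix.vecMulVec (ξ y) (vec S n) := fun y => by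
    obtain ⟨M, hM⟩ := hιalt y
    rw [hM, mul_alt]
    congr 1
    funext f
    show _ = ι y f id
    rw [hM, mul_alt, Matrix.vecMulVec_apply, vec_id, mul_one]
  have hξbij : Function.Bijective ξ := by
    refine ⟨fun a b hab => hιinj (by rw [hξ, hξ, hab]), fun w => ?_⟩
    obtain ⟨y, hy⟩ := hιsurj (Matrix.vecMulVec w (fun g => if g = id then (1 : S) else 0))
    refine ⟨y, funext fun f => ?_⟩
    show ι y f id = w f
    rw [hy, mul_alt, Matrix.vecMulVec_apply, vec_id, mul_one]
    simp [Matrix.mulVec, dotProduct, Matrix.vecMulVec_apply, vec_id]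
  exact ⟨LinearEquiv.ofBijective ξ hξbij, fun s x f => rfl⟩

/-- The left action on a left ideal which becomes the standard module after base change. -/
theorem nonempty_equiv_end {B : Type v} [Ring B] [Algebra R B] (S : Type u) [CommRing S] [Algebra R S]
    [Module.FaithfullyFlat R S] {m : Type} [Fintype m] [DecidableEq m]
    (Θ : S ⊗[R] B →ₐ[S] Matrix m m S) (hΘ : Function.Bijective Θ) (E : Submodule R B)
    [Module.Finite R E] [Module.Projective R E] (hE : ∀ (b : B), ∀ x ∈ E, b * x ∈ E)
    (ξ : S ⊗[R] E ≃ₗ[S] (m → S)) (j₀ : m)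
    (hξ : ∀ (s : S) (x : E) (f : m), ξ (s ⊗ₜ x) f = Θ (s ⊗ₜ[R] (x : B)) f j₀) :
    Nonempty (B ≃ₐ[R] Module.End R E) := by
  let φ : B →ₗ[R] (E →ₗ[R] E) :=
    { toFun := fun b => (LinearMap.mulLeft R b).restrict (p := E) (q := E) (hE b)
      map_add' := fun a b => LinearMap.ext fun x => Subtype.ext (add_mul a b _)
      map_smul' := fun c b => LinearMap.ext fun x => Subtype.ext (smul_mul_assoc c b _) }
  let act : B →ₐ[R] Module.End R E :=
    AlgHom.ofLinearMap φ
      (LinearMap.ext fun x => Subtype.ext (one_mul _))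
      (fun a b => LinearMap.ext fun x => Subtype.ext (mul_assoc a b _))
  refine ⟨AlgEquiv.ofBijective act ?_⟩
  have hact : ∀ (w : S ⊗[R] B) (y : S ⊗[R] E),
      ξ (modEndBaseChange S (φ.lTensor S w) y) = Θ w *ᵥ ξ y := by
    intro w y
    induction w with
    | zero => simp
    | add p q hp hq =>
      simp only [map_add, LinearMap.add_apply, Matrix.add_mulVec] at hp hq ⊢
      rw [hp, hq]
    | tmul s b =>
      induction y with
      | zero => simp
      | add p q hp hq => simp only [map_add, Matrix.mulVec_add] at hp hq ⊢; rw [hp, hq]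
      | tmul t x =>
        rw [LinearMap.lTensor_tmul, modEndBaseChange_tmul, LinearMap.smul_apply, LinearMap.baseChange_tmul,
          TensorProduct.smul_tmul', smul_eq_mul]
        funext f
        rw [hξ, show ((φ b x : E) : B) = b * (x : B) from rfl,
          ← Algebra.TensorProduct.tmul_mul_tmul, map_mul, Matrix.mul_apply]
        simp only [Matrix.mulVec, dotProduct, hξ]
  have hbij : Function.Bijective (φ.lTensor S) := by
    let L : S ⊗[R] B → Module.End S (S ⊗[R] E) := fun w =>
      modEndBaseChange S (φ.lTensor S w)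
    have hL : Function.Bijective L := by
      have hc : ∀ w, ξ.conj (L w) = Matrix.toLin' (Θ w) := fun w => by
        refine LinearMap.ext fun v => ?_
        obtain ⟨y, rfl⟩ := ξ.surjective v
        rw [LinearEquiv.conj_apply_apply, ξ.symm_apply_apply, Matrix.toLin'_apply]
        exact hact w y
      have : ξ.conj ∘ L = Matrix.toLin' ∘ Θ := funext hc
      have hb : Function.Bijective (ξ.conj ∘ L) := this ▸ Matrix.toLin'.bijective.comp hΘ
      exact (Function.Bijective.of_comp_iff' ξ.conj.bijective L).1 hb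
    refine ⟨fun a b hab => hL.1 (by simp only [L, hab]), fun w => ?_⟩
    obtain ⟨v, hv⟩ := hL.2 (modEndBaseChange S w)
    exact ⟨v, modEndBaseChange_injective S hv⟩
  refine ⟨fun x y hxy => ?_, fun c => ?_⟩
  · have h0 : (1 : S) ⊗ₜ[R] (x - y) = 0 := hbij.1 (by
      rw [map_zero, LinearMap.lTensor_tmul, map_sub, show φ x = φ y from hxy, sub_self,
        TensorProduct.tmul_zero])
    exact sub_eq_zero.1 ((Module.FaithfullyFlat.one_tmul_eq_zero_iff (R := R) (A := S) _ _).1 h0)
  · let q := Submodule.mkQ (R := R) (M := E →ₗ[R] E) (LinearMap.range φ)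
    obtain ⟨w, hw⟩ := hbij.2 ((1 : S) ⊗ₜ[R] c)
    have h0 : (1 : S) ⊗ₜ[R] q c = 0 := by
      rw [← LinearMap.lTensor_tmul, ← hw, ← LinearMap.comp_apply, ← LinearMap.lTensor_comp,
        show q.comp φ = 0 from LinearMap.ext fun x => (Submodule.Quotient.mk_eq_zero _).2 ⟨x, rfl⟩,
        LinearMap.lTensor_zero, LinearMap.zero_apply]
    have h3 := (Module.FaithfullyFlat.one_tmul_eq_zero_iff (R := R) (A := S) _ _).1 h0
    obtain ⟨b, hb⟩ := (Submodule.Quotient.mk_eq_zero _).1 h3
    exact ⟨b, hb⟩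

theorem rank_of_col {M : Type v} [AddCommGroup M] [Module R M] [Module.Finite R M] [Module.Projective R M]
    (S : Type u) [CommRing S] [Algebra R S] [Module.FaithfullyFlat R S] {m : Type} [Fintype m]
    (ξ : S ⊗[R] M ≃ₗ[S] (m → S)) (p : PrimeSpectrum R) :
    Module.rankAtStalk (R := R) M p = Fintype.card m := by
  obtain ⟨q, rfl⟩ := PrimeSpectrum.comap_surjective_of_faithfullyFlat (A := R) (B := S) p
  have : Nontrivial S := nontrivial_of_ne (α := S) 0 1 fun h => q.isPrime.ne_top
    ((Ideal.eq_top_iff_one _).2 (h ▸ q.asIdeal.zero_mem))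
  have : Module.Free S (S ⊗[R] M) := Module.Free.of_equiv ξ.symm
  rw [← Module.rankAtStalk_baseChange, rankAtStalk_eq_finrank_of_free, Pi.natCast_apply, ξ.finrank_eq,
    Module.finrank_fintype_fun_eq_card]
  rfl

theorem exists_end_equiv_of_split [IsAzumaya R A] {n : ℕ} (hn : 0 < n) (S : Type u) [CommRing S] [Algebra R S]
    [Module.FaithfullyFlat R S] (ψ : A →ₐ[R] Matrix (Fin n) (Fin n) S) (hψ : Function.Bijective (liftT ψ)) :
    ∃ (E : Submodule R (⨂[R] _ : Fin n, A)), Module.Finite R E ∧ Module.Projective R E ∧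
      (∀ p : PrimeSpectrum R, Module.rankAtStalk (R := R) E p = n ^ n) ∧
      Nonempty ((⨂[R] _ : Fin n, A) ≃ₐ[R] Module.End R E) := by
  classical
  have hθ := repT_bijective ψ hψ.2
  obtain ⟨e, he⟩ := exists_antisym hn S ψ hψ
  obtain ⟨ξe, hξe⟩ := exists_col S ψ hθ e he
  have : Module.Finite S (S ⊗[R] LinearMap.range (LinearMap.mulRight R e)) := Module.Finite.equiv ξe.symm
  have : Module.Projective S (S ⊗[R] LinearMap.range (LinearMap.mulRight R e)) :=
    Module.Projective.of_equiv ξe.symm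
  obtain ⟨hfin, hproj⟩ := finite_projective_of_faithfullyFlat (R := R) S (LinearMap.range (LinearMap.mulRight R e))
  have hcard : Fintype.card (Fin n → Fin n) = n ^ n := by rw [Fintype.card_fun, Fintype.card_fin]
  have hclosed : ∀ (b : ⨂[R] _ : Fin n, A), ∀ x ∈ LinearMap.range (LinearMap.mulRight R e),
      b * x ∈ LinearMap.range (LinearMap.mulRight R e) := by
    rintro b _ ⟨x, rfl⟩
    exact ⟨b * x, mul_assoc b x e⟩
  exact ⟨LinearMap.range (LinearMap.mulRight R e), hfin, hproj,
    fun p => (rank_of_col S ξe p).trans hcard,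
    nonempty_equiv_end S (repT ψ) hθ _ hclosed ξe id hξe⟩

theorem main (R : Type u) [CommRing R] (A : Type u) [Ring A] [Algebra R A] [IsAzumaya R A] (n : ℕ)
    (hrk : ∀ p : PrimeSpectrum R, Module.rankAtStalk (R := R) A p = n ^ 2) :
    ∃ (E : Type u) (_ : AddCommGroup E) (_ : Module R E), Module.Finite R E ∧ Module.Projective R E ∧
      (∀ p : PrimeSpectrum R, Module.rankAtStalk (R := R) E p = n ^ n) ∧
      Nonempty ((⨂[R] _ : Fin n, A) ≃ₐ[R] Module.End R E) := by
  rcases Nat.eq_zero_or_pos n with rfl | hn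
  · have hR : Subsingleton R := by
      by_contra h
      rw [not_subsingleton_iff_nontrivial] at h
      obtain ⟨m, hm⟩ := Ideal.exists_maximal R
      have := hm.isPrime
      obtain ⟨-, hsimple⟩ := fibre_csa (R := R) (A := A) m.ResidueField
      have h0 := hrk ⟨m, hm.isPrime⟩
      rw [Module.rankAtStalk_eq] at h0
      have : 0 < finrank m.ResidueField (m.ResidueField ⊗[R] A) := Module.finrank_pos
      exact this.ne' h0
    have : Subsingleton (⨂[R] _ : Fin 0, A) := Module.subsingleton R _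
    refine ⟨PUnit, inferInstance, inferInstance, inferInstance, inferInstance,
      fun p => (p.isPrime.ne_top (Subsingleton.elim _ _)).elim, ?_⟩
    exact ⟨AlgEquiv.ofBijective
      (AlgHom.ofLinearMap (R := R) (A := ⨂[R] _ : Fin 0, A) (B := Module.End R PUnit.{u + 1}) 0
        (Subsingleton.elim _ _) fun _ _ => Subsingleton.elim _ _)
      ⟨fun a b _ => Subsingleton.elim a b, fun b => ⟨0, Subsingleton.elim _ b⟩⟩⟩
  · obtain ⟨S, _, _, _, ψ, hψ⟩ := exists_split_ff hrk
    obtain ⟨E, h1, h2, h3, h4⟩ := exists_end_equiv_of_split hn S ψ hψ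
    exact ⟨E, inferInstance, inferInstance, h1, h2, h3, h4⟩

end AzumayaLib.TP
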